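import Cfsg.Agent.Lib.Spor.MTwentyThreeNse.Tools
import Cfsg.Agent.Lib.Spor.MTwentyThreeNse.ModelData
import Cfsg.Agent.Lib.Spor.MathieuTwentyFourCounts
import Cfsg.Agent.Lib.Spor.GolayOctadFix
import Cfsg.Prelude.Def_Spor_Mathieu

/-!
Fixed points in the Mathieu group of degree twenty-three: conjugacy of the involutions, involutions commuting with
an element of order three, elements of prime order from those of the Mathieu group of degree twenty-four.
-/

set_option autoImplicit false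
set_option maxRecDepth 100000
set_option linter.unusedSectionVars false
set_option linter.style.haveILetI false

namespace Cfsg.Agent.MTwentyThree.Nse

open Cfsg Cfsg.Agent.Spor Cfsg.Agent.Solv
open scoped Pointwise

theorem mem_fixSet {g : Equiv.Perm GolayPt} {q : GolayPt} : q ∈ fixSet g ↔ g q = q := by simp [fixSet]

theorem mem_m23 {σ : Equiv.Perm GolayPt} : σ ∈ Spor.M23 ↔ σ ∈ M24 ∧ σ none = none := Iff.rfl

theorem orderOf_m23 (g : ↥Spor.M23) : orderOf (g : Equiv.Perm GolayPt) = orderOf g := Subgroup.orderOf_coe g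

/-- Members of prime order counted by their fixed points. -/
theorem prime_double_count {p f N : ℕ} (hN : N ≤ Nat.card {g : M24 // orderOf g = p})
    (hfix : ∀ g : M24, orderOf g = p → (fixSet (g : Equiv.Perm GolayPt)).card = f) :
    N * f ≤ 24 * CV.cnt ↥Spor.M23 p := by
  classical
  have hpt : ∀ q : GolayPt, Nat.card {g : {g : M24 // orderOf g = p} // (g.1 : Equiv.Perm GolayPt) q = q} ≤
      CV.cnt ↥Spor.M23 p := fun q => by
    obtain ⟨k, hk, hkq⟩ : ∃ k ∈ M24, k q = none := by
      obtain ⟨k, hk, e⟩ := M24_trans (k := 1) (by norm_num) ⟨fun _ => q, fun a b _ => Subsingleton.elim a b⟩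
        ⟨fun _ => none, fun a b _ => Subsingleton.elim a b⟩
      exact ⟨k, hk, e 0⟩
    have hkq' : k⁻¹ none = q := by rw [← hkq, Equiv.Perm.inv_def, Equiv.symm_apply_apply]
    refine Nat.card_le_card_of_injective (fun g => ⟨⟨k * g.1.1.1 * k⁻¹, mem_m23.mpr
      ⟨mul_mem (mul_mem hk g.1.1.2) (inv_mem hk), ?_⟩⟩, ?_⟩) fun g g' e => ?_
    · rw [Equiv.Perm.mul_apply, Equiv.Perm.mul_apply, hkq', g.2, hkq]
    · rw [← Subgroup.orderOf_coe]
      show orderOf (MulAut.conj k g.1.1.1) = p
      rw [MulEquiv.orderOf_eq, Subgroup.orderOf_coe, g.1.2]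
    · have e' : k * g.1.1.1 * k⁻¹ = k * g'.1.1.1 * k⁻¹ := congrArg (fun x => (x.1 : Equiv.Perm GolayPt)) e
      exact Subtype.ext (Subtype.ext (Subtype.ext (mul_left_cancel (mul_right_cancel e'))))
  let S := {g : M24 // orderOf g = p}
  haveI : Fintype S := Fintype.ofFinite S
  have h1 : Fintype.card (Σ g : S, {q : GolayPt // q ∈ fixSet (g.1 : Equiv.Perm GolayPt)}) = Fintype.card S * f := by
    rw [Fintype.card_sigma, Finset.sum_congr rfl fun g _ => (Fintype.card_coe _).trans (hfix g.1 g.2),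
      Finset.sum_const, smul_eq_mul, Finset.card_univ]
  have h2 : Fintype.card (Σ g : S, {q : GolayPt // q ∈ fixSet (g.1 : Equiv.Perm GolayPt)}) =
      ∑ q : GolayPt, Fintype.card {g : S // (g.1 : Equiv.Perm GolayPt) q = q} := by
    rw [← Fintype.card_sigma]
    exact Fintype.card_congr
      { toFun := fun a => ⟨a.2.1, a.1, mem_fixSet.mp a.2.2⟩
        invFun := fun a => ⟨a.2.1, a.1, mem_fixSet.mpr a.2.2⟩
        left_inv := fun _ => rfl
        right_inv := fun _ => rfl }
  rw [h1] at h2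
  calc N * f ≤ Fintype.card S * f := Nat.mul_le_mul_right f (by rw [← Nat.card_eq_fintype_card]; exact hN)
    _ ≤ 24 * CV.cnt ↥Spor.M23 p := by
      rw [h2]
      refine le_trans (Finset.sum_le_card_nsmul _ _ _ fun q _ => (Nat.card_eq_fintype_card.symm.trans_le (hpt q))) ?_
      rw [smul_eq_mul, Finset.card_univ]
      exact le_of_eq rfl

theorem cent_check : m24ok involFixed = true ∧ (Data.centL.all fun c =>
      m24ok c && (lmul c involFixed == lmul involFixed c)) = true ∧
    ((List.range 24).all fun i => !(involFixed.getD i 0 == i) ||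
      Data.centL.any fun c => c.getD i 0 == Data.centQ) = true ∧ Data.centQ < 24 := by decide +kernel

theorem invol_to_model (t : ↥Spor.M23) (ht : orderOf t = 2) :
    ∃ k ∈ M24, k * (t : Equiv.Perm GolayPt) * k⁻¹ = lperm involFixed ∧ k none = pt Data.centQ := by
  obtain ⟨hr, hc, hcov, -⟩ := cent_check
  obtain ⟨htM, ht0⟩ := mem_m23.mp t.2
  rcases invol_by_fix htM (by rw [orderOf_m23]; exact ht) with ⟨h0, -⟩ | ⟨-, -, k, hk, e⟩
  · have hm : (none : GolayPt) ∈ fixSet (t : Equiv.Perm GolayPt) := mem_fixSet.mpr ht0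
    rw [Finset.card_eq_zero.mp h0] at hm
    exact absurd hm (Finset.notMem_empty _)
  have hfix : lperm involFixed (k none) = k none := by
    rw [← e, Equiv.Perm.mul_apply, Equiv.Perm.mul_apply, Equiv.Perm.inv_def, Equiv.symm_apply_apply, ht0]
  simp only [List.all_eq_true, List.mem_range, Bool.or_eq_true, Bool.not_eq_true', beq_eq_false_iff_ne,
    List.any_eq_true, beq_iff_eq, Bool.and_eq_true] at hcov hc
  obtain ⟨c, hcm, hcq⟩ := (hcov (idx (k none)) (idx_lt _)).resolve_left
    (not_not.mpr (by rw [rep_lperm (m24ok_lok hr) (k none), hfix]))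
  obtain ⟨hcok, hcomm⟩ := hc c hcm
  have hcom : lperm c * lperm involFixed = lperm involFixed * lperm c :=
    rep_unique ((rep_lperm (m24ok_lok hcok)).mul (rep_lperm (m24ok_lok hr)))
      (hcomm ▸ (rep_lperm (m24ok_lok hr)).mul (rep_lperm (m24ok_lok hcok)))
  refine ⟨lperm c * k, mul_mem (lperm_mem hcok) hk, ?_, ?_⟩
  · calc lperm c * k * (t : Equiv.Perm GolayPt) * (lperm c * k)⁻¹
        = lperm c * (k * (t : Equiv.Perm GolayPt) * k⁻¹) * (lperm c)⁻¹ := by group
      _ = lperm involFixed := by rw [e, hcom, mul_inv_cancel_right]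
  · rw [Equiv.Perm.mul_apply, ← pt_idx (lperm c (k none)), ← rep_lperm (m24ok_lok hcok) (k none), hcq]

/-- One class of involutions. -/
theorem invol_conj_m23 (t u : ↥Spor.M23) (ht : orderOf t = 2) (hu : orderOf u = 2) :
    ∃ c : ↥Spor.M23, c * t * c⁻¹ = u := by
  obtain ⟨k, hk, e, hk0⟩ := invol_to_model t ht
  obtain ⟨k', hk', e', hk0'⟩ := invol_to_model u hu
  have h0 : (k'⁻¹ * k) none = none := by
    rw [Equiv.Perm.mul_apply, hk0, ← hk0', Equiv.Perm.inv_def, Equiv.symm_apply_apply]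
  refine ⟨⟨k'⁻¹ * k, mem_m23.mpr ⟨mul_mem (inv_mem hk') hk, h0⟩⟩, Subtype.ext ?_⟩
  show k'⁻¹ * k * (t : Equiv.Perm GolayPt) * (k'⁻¹ * k)⁻¹ = (u : Equiv.Perm GolayPt)
  calc k'⁻¹ * k * (t : Equiv.Perm GolayPt) * (k'⁻¹ * k)⁻¹
      = k'⁻¹ * (k * (t : Equiv.Perm GolayPt) * k⁻¹) * k' := by group
    _ = (u : Equiv.Perm GolayPt) := by rw [e, ← e']; group

/-- An element of order three leaves a number congruent to the size of an invariant set fixed in it. -/
theorem fix_mod_three {σ : Equiv.Perm GolayPt} (h3 : σ ^ 3 = 1) {O : Finset GolayPt} (hO : σ • O = O) :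
    (O ∩ fixSet σ).card % 3 = O.card % 3 := by
  classical
  haveI : Fact (Nat.Prime 3) := ⟨Nat.prime_three⟩
  have hp : ∀ x, σ x ∈ O ↔ x ∈ O := fun x => by
    conv_lhs => rw [← hO]
    exact Finset.smul_mem_smul_finset_iff σ
  let τ : Equiv.Perm {x // x ∈ O} := σ.subtypePerm hp
  have hτ : τ ^ 3 ^ 1 = 1 := by
    ext x
    simp [τ, pow_one, Equiv.Perm.subtypePerm_pow, h3]
  have h := Equiv.Perm.card_compl_support_modEq hτ
  rw [Fintype.card_coe] at h
  rw [← h]
  congr 1
  symm
  refine Finset.card_bij (fun x _ => (x : GolayPt)) ?_ ?_ ?_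
  · intro x hx
    rw [Finset.mem_compl, Equiv.Perm.notMem_support] at hx
    exact Finset.mem_inter.mpr ⟨x.2, mem_fixSet.mpr (congrArg Subtype.val hx)⟩
  · exact fun a _ b _ e => Subtype.ext e
  · intro x hx
    obtain ⟨hxO, hxf⟩ := Finset.mem_inter.mp hx
    exact ⟨⟨x, hxO⟩, by rw [Finset.mem_compl, Equiv.Perm.notMem_support]; exact Subtype.ext (mem_fixSet.mp hxf), rfl⟩

/-- The involutive permutations of six points with a point fixed and a fixed number congruent to two modulo three. -/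
def sixPairs : Finset (Equiv.Perm (Fin 6)) :=
  Finset.univ.filter fun σ => σ 0 = 0 ∧ σ * σ = 1 ∧ (Finset.univ.filter fun i => σ i = i).card % 3 = 2

theorem card_sixPairs : sixPairs.card = 15 := by decide +kernel

/-- At most fifteen involutions commute with an element of order three. -/
theorem commCnt_three {x : ↥Spor.M23} (hx : orderOf x = 3) : commCnt x 2 ≤ 15 := by
  classical
  obtain ⟨hxM, hx0⟩ := mem_m23.mp x.2
  have hxo : orderOf (x : Equiv.Perm GolayPt) = 3 := by rw [orderOf_m23, hx]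
  have hx3 : (x : Equiv.Perm GolayPt) ^ 3 = 1 := hxo ▸ pow_orderOf_eq_one _
  set F := fixSet (x : Equiv.Perm GolayPt) with hFdef
  have h0F : (none : GolayPt) ∈ F := mem_fixSet.mpr hx0
  have hF : F.card = 6 := by
    rcases three_by_fix hxM hxo with ⟨h, -⟩ | ⟨h, -⟩
    · rw [← hFdef, Finset.card_eq_zero] at h
      rw [h] at h0F
      exact absurd h0F (Finset.notMem_empty _)
    · exact h
  have hno : inSomeOctad F = false := by
    rw [← Bool.not_eq_true, inSomeOctad_iff]
    rintro ⟨o, ho, hFo⟩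
    have hxo' : (x : Equiv.Perm GolayPt) • o = o := by
      refine octad_eq_of_five (smul_octad hxM ho) ho ?_
      refine le_trans (by omega : 5 ≤ F.card) (Finset.card_le_card (Finset.subset_inter ?_ hFo))
      intro q hq
      rw [← mem_fixSet.mp hq]
      exact Finset.smul_mem_smul_finset (hFo hq)
    have h := fix_mod_three hx3 hxo'
    rw [← hFdef, Finset.inter_eq_right.mpr hFo, hF, ho.2] at h
    omega
  have hker : ∀ u : Equiv.Perm GolayPt, u ∈ M24 → (∀ q ∈ F, u q = q) →
      u ∈ Subgroup.zpowers (x : Equiv.Perm GolayPt) := fun u hu huf => by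
    have hle : Subgroup.zpowers (x : Equiv.Perm GolayPt) ≤ fixM F :=
      Subgroup.zpowers_le.mpr (mem_fixM.mpr ⟨hxM, fun q hq => mem_fixSet.mp hq⟩)
    rw [Subgroup.eq_of_le_of_card_ge hle (by rw [card_fixM_six hF, hno, Nat.card_zpowers, hxo]; simp)]
    exact mem_fixM.mpr ⟨hu, huf⟩
  obtain ⟨e₁⟩ : Nonempty ({q // q ∈ F} ≃ Fin 6) := ⟨F.equivFinOfCardEq hF⟩
  let e := e₁.trans (Equiv.swap (e₁ ⟨none, h0F⟩) 0)
  have he : e ⟨none, h0F⟩ = 0 := Equiv.swap_apply_left _ _
  let S := {s : ↥Spor.M23 // Commute x s ∧ orderOf s = 2}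
  have hinv : ∀ (s : S) (q : GolayPt), (s.1 : Equiv.Perm GolayPt) q ∈ F ↔ q ∈ F := fun s q => by
    have hc : (x : Equiv.Perm GolayPt) ((s.1 : Equiv.Perm GolayPt) q) =
        (s.1 : Equiv.Perm GolayPt) ((x : Equiv.Perm GolayPt) q) :=
      Equiv.congr_fun (congrArg Subtype.val s.2.1.eq) q
    simp only [hFdef, mem_fixSet, hc, EmbeddingLike.apply_eq_iff_eq]
  let res : S → Equiv.Perm (Fin 6) := fun s =>
    e.permCongr ((s.1 : Equiv.Perm GolayPt).subtypePerm (hinv s))
  have hres : ∀ s : S, res s ∈ sixPairs := fun s => by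
    obtain ⟨hsM, hs0⟩ := mem_m23.mp s.1.2
    have hso : orderOf (s.1 : Equiv.Perm GolayPt) = 2 := by rw [orderOf_m23, s.2.2]
    have hss : (s.1 : Equiv.Perm GolayPt) * (s.1 : Equiv.Perm GolayPt) = 1 := by
      have h2 := pow_orderOf_eq_one (s.1 : Equiv.Perm GolayPt)
      rwa [hso, pow_two] at h2
    obtain ⟨O, hO, hOe⟩ : ∃ O ∈ octads, O = fixSet (s.1 : Equiv.Perm GolayPt) := by
      rcases invol_by_fix hsM hso with ⟨h, -⟩ | ⟨-, h, -⟩
      · have hm : (none : GolayPt) ∈ fixSet (s.1 : Equiv.Perm GolayPt) := mem_fixSet.mpr hs0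
        rw [Finset.card_eq_zero.mp h] at hm
        exact absurd hm (Finset.notMem_empty _)
      · exact ⟨_, h, rfl⟩
    have hxO : (x : Equiv.Perm GolayPt) • O = O := by
      have hc : (x : Equiv.Perm GolayPt) * (s.1 : Equiv.Perm GolayPt) * (x : Equiv.Perm GolayPt)⁻¹ =
          (s.1 : Equiv.Perm GolayPt) := by
        rw [show (x : Equiv.Perm GolayPt) * (s.1 : Equiv.Perm GolayPt) =
          (s.1 : Equiv.Perm GolayPt) * (x : Equiv.Perm GolayPt) from congrArg Subtype.val s.2.1.eq,
          mul_inv_cancel_right]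
      rw [hOe, ← fixSet_conj, hc]
    have hmod := fix_mod_three hx3 hxO
    rw [hO.2] at hmod
    refine Finset.mem_filter.mpr ⟨Finset.mem_univ _, ?_, ?_, ?_⟩
    · show e ((s.1 : Equiv.Perm GolayPt).subtypePerm (hinv s) (e.symm 0)) = 0
      rw [show e.symm 0 = ⟨none, h0F⟩ by rw [← he, Equiv.symm_apply_apply]]
      refine (congrArg e (Subtype.ext ?_)).trans he
      exact hs0
    · refine Equiv.ext fun i => ?_
      show e ⟨(s.1 : Equiv.Perm GolayPt) (e.symm (e ⟨(s.1 : Equiv.Perm GolayPt) (e.symm i), _⟩)).1, _⟩ = i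
      simp only [Equiv.symm_apply_apply]
      refine (congrArg e (Subtype.ext ?_)).trans (e.apply_symm_apply i)
      exact Equiv.congr_fun hss _
    · suffices hc : (Finset.univ.filter fun i => res s i = i).card = (O ∩ fixSet (x : Equiv.Perm GolayPt)).card by
        rw [hc]; omega
      refine Finset.card_bij (fun i _ => ((e.symm i).1 : GolayPt)) ?_ ?_ ?_
      · intro i hi
        refine Finset.mem_inter.mpr ⟨?_, (e.symm i).2⟩
        rw [hOe, mem_fixSet]
        exact congrArg Subtype.val (e.injective (((Finset.mem_filter.mp hi).2).trans (e.apply_symm_apply i).symm))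
      · exact fun a _ b _ h => e.symm.injective (Subtype.ext h)
      · intro q hq
        obtain ⟨hqO, hqF⟩ := Finset.mem_inter.mp hq
        refine ⟨e ⟨q, hqF⟩, Finset.mem_filter.mpr ⟨Finset.mem_univ _, ?_⟩, by simp⟩
        show e _ = e _
        refine congrArg e (Subtype.ext ?_)
        rw [hOe, mem_fixSet] at hqO
        simp [hqO]
  have hinj : Function.Injective res := fun s s' h => by
    have hagree : ∀ q ∈ F, (s.1 : Equiv.Perm GolayPt) q = (s'.1 : Equiv.Perm GolayPt) q := fun q hq =>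
      congrArg Subtype.val (Equiv.congr_fun (e.permCongr.injective h) ⟨q, hq⟩)
    have hsq : ∀ s : S, (s.1 : Equiv.Perm GolayPt) * (s.1 : Equiv.Perm GolayPt) = 1 := fun s => by
      have h2 := pow_orderOf_eq_one (s.1 : Equiv.Perm GolayPt)
      rwa [orderOf_m23, s.2.2, pow_two] at h2
    set u := (s.1 : Equiv.Perm GolayPt) * (s'.1 : Equiv.Perm GolayPt) with hu
    have hum := hker u (mul_mem (mem_m23.mp s.1.2).1 (mem_m23.mp s'.1.2).1) fun q hq => by
      rw [hu, Equiv.Perm.mul_apply, ← hagree q hq, ← Equiv.Perm.mul_apply, hsq s]; rfl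
    obtain ⟨i, hi⟩ := hum
    have hcs : Commute (s.1 : Equiv.Perm GolayPt) u :=
      hi ▸ (show Commute (s.1 : Equiv.Perm GolayPt) (x : Equiv.Perm GolayPt) from
        (congrArg Subtype.val s.2.1.eq).symm).zpow_right i
    have hs' : (s'.1 : Equiv.Perm GolayPt) = (s.1 : Equiv.Perm GolayPt) * u := by
      rw [hu, ← mul_assoc, hsq s, one_mul]
    have hu2 : u ^ 2 = 1 := by
      have h2 := hsq s'
      rw [hs'] at h2
      calc u ^ 2 = (s.1 : Equiv.Perm GolayPt) * (s.1 : Equiv.Perm GolayPt) * (u * u) := by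
            rw [hsq s, one_mul, pow_two]
        _ = (s.1 : Equiv.Perm GolayPt) * u * ((s.1 : Equiv.Perm GolayPt) * u) := (hcs.symm.mul_mul_mul_comm _ _).symm
        _ = 1 := h2
    have hu3 : u ^ 3 = 1 := by
      rw [← hi, ← zpow_natCast, ← zpow_mul, mul_comm, zpow_mul, zpow_natCast, hx3, one_zpow]
    have hu1 : u = 1 := by rw [pow_succ, hu2, one_mul] at hu3; exact hu3
    rw [hu1, mul_one] at hs'
    exact Subtype.ext (Subtype.ext hs'.symm)
  calc commCnt x 2 = Nat.card S := rfl
    _ ≤ Nat.card {σ // σ ∈ sixPairs} := Nat.card_le_card_of_injective (fun s => ⟨res s, hres s⟩) fun a b h =>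
        hinj (congrArg Subtype.val h)
    _ = 15 := by rw [Nat.card_eq_fintype_card, Fintype.card_coe, card_sixPairs]

end Cfsg.Agent.MTwentyThree.Nse
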