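import Cfsg.Agent.Lib.Spor.MTwentyThreeNse.KGlue
import Cfsg.Agent.Lib.Spor.MathieuSimple

/-!
A group with the local data of the Mathieu group of degree twenty-three is isomorphic to it.
-/

set_option autoImplicit false
set_option maxHeartbeats 800000
set_option linter.unusedSectionVars false
set_option linter.style.haveILetI false

namespace Cfsg.Agent.MTwentyThree.Nse

open Cfsg Cfsg.Agent.Spor Cfsg.Agent.Solv Amal KD

variable {G : Type*} [Group G] [Finite G]

theorem simple_m23 : IsSimpleGroup ↥Spor.M23 := by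
  haveI := Cfsg.Agent.Spor.simple_stabilizer_point (none : GolayPt)
  exact MulEquiv.isSimpleGroup
    { toFun := fun x : ↥Spor.M23 =>
        (⟨⟨x.1, (mem_m23.mp x.2).1⟩, (mem_m23.mp x.2).2⟩ : MulAction.stabilizer M24 (none : GolayPt))
      invFun := fun g => ⟨g.1.1, mem_m23.mpr ⟨g.1.2, g.2⟩⟩
      left_inv := fun _ => rfl
      right_inv := fun _ => rfl
      map_mul' := fun _ _ => rfl }

theorem Loc.iso (L : Loc G) : Nonempty (G ≃* ↥Spor.M23) := by
  classical
  obtain ⟨E⟩ := L.exists_glue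
  set NB := Subgroup.normalizer (B0 : Set M)
  let φB : ↥B0 →* G := E.fH.comp (Subgroup.inclusion (B0_le.trans inf_le_left))
  have hagH : ∀ b : ↥B0, E.fH ⟨b, (B0_le b.2).1⟩ = φB b := fun b => rfl
  have hagK : ∀ b : ↥B0, E.fK ⟨b, (B0_le b.2).2⟩ = φB b := fun b => (E.hk _ (B0_le b.2).1 (B0_le b.2).2).symm
  have hone : ∀ g : G, (∀ b, g * φB b * g⁻¹ = φB b) → g = 1 := fun g hg => by
    obtain ⟨k, rfl⟩ := E.cenY g (mul_inv_eq_iff_eq_mul.mp (hg ⟨yM, yM_B0⟩))
    have hk : (k : M) = 1 := cent_B0 fun b hb => by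
      have h := mul_inv_eq_iff_eq_mul.mp (hg ⟨b, hb⟩)
      rw [← hagK, ← map_mul, ← map_mul] at h
      exact congrArg Subtype.val (E.injK h)
    rw [show k = 1 from Subtype.ext hk, map_one]
  set L₀ := (HM ⊓ NB) ⊔ (KM ⊓ NB)
  have hLR : L₀ ≤ realised φB :=
    sup_le (inf_le_realised E.fH (B0_le.trans inf_le_left) hagH) (inf_le_realised E.fK (B0_le.trans inf_le_right) hagK)
  obtain ⟨fL, -, huL⟩ := exists_conj_hom φB hone hLR
  let F : Frame M G :=
    { H := HM, K := KM, L := L₀, fH := E.fH, fK := E.fK, fL := fL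
      hk := E.hk
      hl := fun x h l => (huL ⟨x, l⟩ _ (realises_of_hom E.fH (B0_le.trans inf_le_left) hagH ⟨x, h⟩)).symm
      kl := fun x k l => (huL ⟨x, l⟩ _ (realises_of_hom E.fK (B0_le.trans inf_le_right) hagK ⟨x, k⟩)).symm }
  have hH : ∀ i j : Fin 8, pH i = pH j → seqE i ∈ L₀ → seqE j ∈ L₀ := fun i j h hi => by
    rw [← mul_inv_cancel_left (seqE i) (seqE j)]
    exact mul_mem hi (Subgroup.mem_sup_left ⟨(step_mem i j).1 h, Subgroup.mul_mem NB (Subgroup.inv_mem NB (seq_norm i)) (seq_norm j)⟩)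
  have hK : ∀ i j : Fin 8, pT i = pT j → seqE i ∈ L₀ → seqE j ∈ L₀ := fun i j h hi => by
    rw [← mul_inv_cancel_left (seqE i) (seqE j)]
    exact mul_mem hi (Subgroup.mem_sup_right ⟨(step_mem i j).2 h, Subgroup.mul_mem NB (Subgroup.inv_mem NB (seq_norm i)) (seq_norm j)⟩)
  have hseq : ∀ j, seqE j ∈ L₀ := by
    have h0 : seqE 0 ∈ L₀ := Subgroup.mem_sup_left ⟨seq_zero.1, seq_norm 0⟩
    have h1 := hH 0 1 rfl h0
    have h2 := hK 1 2 rfl h1
    have h3 := hH 2 3 rfl h2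
    have h4 := hK 3 4 rfl h3
    have h5 := hH 4 5 rfl h4
    have h6 := hK 5 6 rfl h5
    have h7 := hH 6 7 rfl h6
    intro j
    revert j
    rw [Fin.forall_fin_succ, Fin.forall_fin_succ, Fin.forall_fin_succ, Fin.forall_fin_succ, Fin.forall_fin_succ,
      Fin.forall_fin_succ, Fin.forall_fin_succ, Fin.forall_fin_succ]
    exact ⟨h0, h1, h2, h3, h4, h5, h6, h7, fun i => i.elim0⟩
  obtain ⟨f, hfH, -⟩ := exists_extension F rfl rfl hseq
  haveI := simple_m23
  have hker : f.ker = ⊥ := by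
    refine ((MonoidHom.normal_ker f).eq_bot_or_eq_top).resolve_right fun h => ?_
    have h1 : f yM = 1 := MonoidHom.mem_ker.mp (h.symm ▸ Subgroup.mem_top _)
    have h2 : E.fH ⟨yM, yM_mem.1⟩ = 1 := (hfH ⟨yM, yM_mem.1⟩).symm.trans h1
    have h3 : yM = 1 := congrArg Subtype.val (E.injH (h2.trans (map_one E.fH).symm))
    have h4 := model_K.ord
    rw [h3, orderOf_one] at h4
    omega
  exact ⟨(MulEquiv.ofBijective f ((Nat.bijective_iff_injective_and_card f).mpr
    ⟨(MonoidHom.ker_eq_bot_iff f).mp hker, card_M.trans L.card.symm⟩)).symm⟩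

end Cfsg.Agent.MTwentyThree.Nse
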