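import Mathlib.GroupTheory.Sylow
import Mathlib.GroupTheory.Perm.Cycle.Type
import Mathlib.GroupTheory.SpecificGroups.Alternating
import Mathlib.GroupTheory.GroupAction.Quotient
import Mathlib.GroupTheory.GroupAction.MultipleTransitivity
import Mathlib.Tactic

/-!
Subgroups of order 2520 of the alternating group of degree eight fix a point.
-/

set_option autoImplicit false
set_option linter.unusedSectionVars false
set_option linter.style.haveILetI false

namespace Cfsg.Agent.MTwentyThree.AEight

open scoped Pointwise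

variable {α : Type*} [Fintype α] [DecidableEq α]

theorem fixed_mod (σ : Equiv.Perm α) {p : ℕ} [Fact p.Prime] (hp : σ ^ p = 1) (S : Finset α)
    (hS : ∀ x, σ x ∈ S ↔ x ∈ S) : (S.filter fun x => σ x = x).card % p = S.card % p := by
  let τ : Equiv.Perm {x // x ∈ S} := σ.subtypePerm hS
  have hτ : τ ^ p ^ 1 = 1 := by
    ext x
    simp [τ, pow_one, Equiv.Perm.subtypePerm_pow, hp]
  have h := Equiv.Perm.card_compl_support_modEq hτ
  rw [Fintype.card_coe] at h
  rw [← h]
  congr 1
  symm
  refine Finset.card_bij (fun x _ => (x : α)) ?_ ?_ ?_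
  · intro x hx
    rw [Finset.mem_compl, Equiv.Perm.notMem_support] at hx
    exact Finset.mem_filter.mpr ⟨x.2, congrArg Subtype.val hx⟩
  · exact fun a _ b _ e => Subtype.ext e
  · intro x hx
    obtain ⟨hxO, hxf⟩ := Finset.mem_filter.mp hx
    exact ⟨⟨x, hxO⟩, by rw [Finset.mem_compl, Equiv.Perm.notMem_support]; exact Subtype.ext hxf, rfl⟩

theorem support_dvd {p : ℕ} [Fact p.Prime] {σ : Equiv.Perm α} (h : orderOf σ = p) : p ∣ σ.support.card := by
  have h0 : σ ^ p = 1 := h ▸ pow_orderOf_eq_one σ
  have hm := fixed_mod σ h0 σ.support fun x => Equiv.Perm.apply_mem_support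
  rw [Finset.filter_eq_empty_iff.mpr fun x hx => Equiv.Perm.mem_support.mp hx, Finset.card_empty, Nat.zero_mod] at hm
  exact Nat.dvd_of_mod_eq_zero hm.symm

theorem no_five_three (h8 : Fintype.card α = 8) {a : α} {f g : Equiv.Perm α} (hf : orderOf f = 5)
    (hg : orderOf g = 3) (hc : Commute g f) (hfa : f a = a) (hga : g a = a) : False := by
  haveI : Fact (Nat.Prime 5) := ⟨by norm_num⟩
  haveI : Fact (Nat.Prime 3) := ⟨by norm_num⟩
  have hg3 : g ^ 3 = 1 := hg ▸ pow_orderOf_eq_one g
  have hS : f.support.card = 5 := by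
    obtain ⟨k, hk⟩ := support_dvd hf
    have h1 : f.support.card ≤ 7 := by
      have : f.support ⊆ Finset.univ.erase a := fun x hx =>
        Finset.mem_erase.mpr ⟨fun e => Equiv.Perm.mem_support.mp hx (e ▸ hfa), Finset.mem_univ _⟩
      have := Finset.card_le_card this
      rwa [Finset.card_erase_of_mem (Finset.mem_univ _), Finset.card_univ, h8] at this
    have h2 : k ≠ 0 := fun e => by
      rw [e, mul_zero, Finset.card_eq_zero, Equiv.Perm.support_eq_empty_iff] at hk
      rw [hk, orderOf_one] at hf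
      omega
    omega
  have hiff : ∀ x, g x ∈ f.support ↔ x ∈ f.support := fun x => by
    rw [Equiv.Perm.mem_support, Equiv.Perm.mem_support, ← Equiv.Perm.mul_apply, ← hc.eq, Equiv.Perm.mul_apply,
      ne_eq, EmbeddingLike.apply_eq_iff_eq]
  have hm := fixed_mod g hg3 f.support hiff
  rw [hS] at hm
  obtain ⟨q, hq⟩ : (f.support.filter fun x => g x = x).Nonempty := Finset.card_pos.mp (by omega)
  obtain ⟨hqf, hqg⟩ := Finset.mem_filter.mp hq
  have horb : ∀ i : ℕ, g ((f ^ i) q) = (f ^ i) q := fun i => by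
    rw [← Equiv.Perm.mul_apply, (hc.pow_right i).eq, Equiv.Perm.mul_apply, hqg]
  let O := (Finset.range 5).image fun i => (f ^ i) q
  have hO : O.card = 5 := by
    rw [Finset.card_image_of_injOn, Finset.card_range]
    have key : ∀ i k : ℕ, i + k < 5 → (f ^ i) q = (f ^ (i + k)) q → k = 0 := fun i k hik e => by
      by_contra hk
      rw [pow_add, Equiv.Perm.mul_apply] at e
      have e' : (f ^ k) q = q := ((f ^ i).injective e).symm
      obtain ⟨m, hm⟩ := exists_pow_eq_self_of_coprime (x := f) (n := k)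
        (by rw [hf]; exact (((show Nat.Prime 5 by norm_num).coprime_iff_not_dvd).mpr fun h =>
          hk (Nat.eq_zero_of_dvd_of_lt h (by omega))).symm)
      refine Equiv.Perm.mem_support.mp hqf ?_
      rw [← hm]
      clear hm
      induction m with
      | zero => simp
      | succ m ih => rw [pow_succ, Equiv.Perm.mul_apply, e', ih]
    intro i hi j hj e
    simp only [Finset.coe_range, Set.mem_Iio] at hi hj
    rcases le_total i j with hij | hij <;> obtain ⟨k, rfl⟩ := Nat.exists_eq_add_of_le hij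
    · rw [key i k hj e, add_zero]
    · rw [key j k hi e.symm, add_zero]
  have hOsub : O ⊆ f.support := fun x hx => by
    obtain ⟨i, -, rfl⟩ := Finset.mem_image.mp hx
    exact Equiv.Perm.pow_apply_mem_support.mpr hqf
  have hfixS : ∀ x ∈ f.support, g x = x := fun x hx => by
    rw [← Finset.eq_of_subset_of_card_le hOsub (by rw [hS, hO])] at hx
    obtain ⟨i, -, rfl⟩ := Finset.mem_image.mp hx
    exact horb i
  obtain ⟨k, hk⟩ := support_dvd hg
  have hgs : g.support ⊆ (f.supportᶜ).erase a := fun x hx => Finset.mem_erase.mpr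
    ⟨fun e => Equiv.Perm.mem_support.mp hx (e ▸ hga), Finset.mem_compl.mpr fun hxf =>
      Equiv.Perm.mem_support.mp hx (hfixS x hxf)⟩
  have h2 := Finset.card_le_card hgs
  rw [Finset.card_erase_of_mem (Finset.mem_compl.mpr fun h => Equiv.Perm.mem_support.mp h hfa), Finset.card_compl,
    h8, hS, hk] at h2
  have : k = 0 := by omega
  rw [this, mul_zero, Finset.card_eq_zero, Equiv.Perm.support_eq_empty_iff] at hk
  rw [hk, orderOf_one] at hg
  omega

/-- A group of order 315 has commuting elements of orders five and three. -/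
theorem commuting_five_three {S : Type*} [Group S] [Finite S] (hS : Nat.card S = 315) :
    ∃ f g : S, orderOf f = 5 ∧ orderOf g = 3 ∧ Commute g f := by
  haveI : Fact (Nat.Prime 5) := ⟨by norm_num⟩
  haveI : Fact (Nat.Prime 3) := ⟨by norm_num⟩
  obtain ⟨f, hf⟩ := exists_prime_orderOf_dvd_card' (G := S) 5 (by rw [hS]; norm_num)
  have hfac : (Nat.card S).factorization 5 = 1 := by
    rw [hS, show (315 : ℕ) = 3 ^ 2 * 5 * 7 from rfl, Nat.factorization_mul (by norm_num) (by norm_num),
      Nat.factorization_mul (by norm_num) (by norm_num),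
      Nat.Prime.factorization_pow Nat.prime_three, Nat.Prime.factorization Nat.prime_five,
      Nat.Prime.factorization (by norm_num : Nat.Prime 7)]
    simp
  let P : Sylow 5 S := Sylow.ofCard (Subgroup.zpowers f) (by rw [Nat.card_zpowers, hf, hfac, pow_one])
  set N := Subgroup.normalizer ((Subgroup.zpowers f : Subgroup S) : Set S) with hN
  have hidx : Nat.card (Sylow 5 S) = N.index := Sylow.card_eq_index_normalizer P
  have h1 := card_sylow_modEq_one 5 S
  rw [Nat.ModEq, hidx] at h1
  have h2 : N.index * Nat.card N = 315 := hS ▸ Subgroup.index_mul_card N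
  have h5N : 5 ∣ Nat.card N :=
    hf ▸ Nat.card_zpowers f ▸ Subgroup.card_dvd_of_le (Subgroup.le_normalizer : Subgroup.zpowers f ≤ N)
  have h3 : 3 ∣ Nat.card N := by
    obtain ⟨m, hm⟩ := h5N
    rw [hm] at h2 ⊢
    have hd : N.index ∣ 63 := ⟨m, by nlinarith⟩
    have := (by decide +kernel : ∀ i < 64, i ∣ 63 → i % 5 = 1 % 5 → i = 1 ∨ i = 21) _
      (Nat.lt_succ_of_le (Nat.le_of_dvd (by norm_num) hd)) hd h1
    rcases this with e | e <;> rw [e] at h2 <;> omega
  obtain ⟨g, hg⟩ := exists_prime_orderOf_dvd_card' (G := N) 3 h3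
  refine ⟨f, g, hf, by rw [Subgroup.orderOf_coe, hg], ?_⟩
  have hgn : (g : S) * f * (g : S)⁻¹ ∈ Subgroup.zpowers f :=
    (Subgroup.mem_normalizer_iff.mp g.2 f).mp (Subgroup.mem_zpowers f)
  obtain ⟨k, hk⟩ := (isOfFinOrder_of_finite f).mem_powers_iff_mem_zpowers.mpr hgn
  have hk' : (g : S) * f * (g : S)⁻¹ = f ^ (k % 5) := by rw [← hf, pow_mod_orderOf]; exact hk.symm
  have hlt : k % 5 < 5 := Nat.mod_lt _ (by norm_num)
  generalize k % 5 = j at hk' hlt
  have hg3 : (g : S) ^ 3 = 1 := by rw [← SubmonoidClass.coe_pow, ← hg, pow_orderOf_eq_one]; rfl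
  have key : f ^ (j * j * j) = f := by
    have hp : ∀ m, (g : S) * f ^ m * (g : S)⁻¹ = f ^ (j * m) := fun m => by rw [← conj_pow, hk', pow_mul]
    calc f ^ (j * j * j) = (g : S) * ((g : S) * ((g : S) * f * (g : S)⁻¹) * (g : S)⁻¹) * (g : S)⁻¹ := by
          rw [hk', hp, hp, mul_assoc]
      _ = (g : S) ^ 3 * f * ((g : S) ^ 3)⁻¹ := by simp only [pow_succ, pow_zero, one_mul]; group
      _ = f := by rw [hg3]; group
  have hmod := pow_inj_mod.mp (key.trans (pow_one f).symm)
  rw [hf] at hmod
  have hj : j = 1 := by interval_cases j <;> simp_all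
  rw [hj, pow_one] at hk'
  exact mul_inv_eq_iff_eq_mul.mp hk'

/-- A subgroup of order 2520 fixes one of the eight points. -/
theorem exists_fixed (h8 : Fintype.card α = 8) (H : Subgroup (Equiv.Perm α)) (hH : Nat.card H = 2520) :
    ∃ p : α, ∀ h ∈ H, h p = p := by
  haveI : Fact (Nat.Prime 7) := ⟨by norm_num⟩
  obtain ⟨z, hz⟩ := exists_prime_orderOf_dvd_card' (G := H) 7 (by rw [hH]; norm_num)
  have hzo : orderOf (z : Equiv.Perm α) = 7 := by rw [Subgroup.orderOf_coe, hz]
  obtain ⟨k, hk⟩ := support_dvd hzo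
  have hk0 : k ≠ 0 := fun e => by
    rw [e, mul_zero, Finset.card_eq_zero, Equiv.Perm.support_eq_empty_iff] at hk
    rw [hk, orderOf_one] at hzo
    omega
  have hle := Finset.card_le_univ (z : Equiv.Perm α).support
  rw [h8] at hle
  obtain ⟨q, hq⟩ : (z : Equiv.Perm α).support.Nonempty := Finset.card_pos.mp (by omega)
  let f : Fin 7 → MulAction.orbit H q := fun i => ⟨((z : Equiv.Perm α) ^ i.val) q, ⟨z ^ i.val, rfl⟩⟩
  have hf : Function.Injective f := by
    have key : ∀ i k : ℕ, i + k < 7 → ((z : Equiv.Perm α) ^ i) q = ((z : Equiv.Perm α) ^ (i + k)) q → k = 0 := by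
      intro i k hik e
      by_contra hk'
      rw [pow_add, Equiv.Perm.mul_apply] at e
      have e' : ((z : Equiv.Perm α) ^ k) q = q := (((z : Equiv.Perm α) ^ i).injective e).symm
      obtain ⟨m, hm⟩ := exists_pow_eq_self_of_coprime (x := (z : Equiv.Perm α)) (n := k)
        (by rw [hzo]; exact (((show Nat.Prime 7 by norm_num).coprime_iff_not_dvd).mpr fun h =>
          hk' (Nat.eq_zero_of_dvd_of_lt h (by omega))).symm)
      refine Equiv.Perm.mem_support.mp hq ?_
      rw [← hm]
      clear hm
      induction m with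
      | zero => simp
      | succ m ih => rw [pow_succ, Equiv.Perm.mul_apply, e', ih]
    intro i j e
    have e' := congrArg Subtype.val e
    simp only [f] at e'
    refine Fin.ext ?_
    rcases le_total i.val j.val with hij | hij <;> obtain ⟨k, hk'⟩ := Nat.exists_eq_add_of_le hij
    · have hl := j.isLt
      rw [hk'] at e'
      have := key _ _ (by omega) e'
      omega
    · have hl := i.isLt
      rw [hk'] at e'
      have := key _ _ (by omega) e'.symm
      omega
  have h7 : 7 ≤ Nat.card (MulAction.orbit H q) := by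
    simpa using Nat.card_le_card_of_injective f hf
  have hle8 : Nat.card (MulAction.orbit H q) ≤ 8 := by
    rw [← h8, ← Nat.card_eq_fintype_card]
    exact Nat.card_le_card_of_injective _ Subtype.val_injective
  have hprod : Nat.card (MulAction.orbit H q) * Nat.card (MulAction.stabilizer H q) = Nat.card H := by
    rw [← Nat.card_prod]
    exact Nat.card_congr (MulAction.orbitProdStabilizerEquivGroup H q)
  have h7' : Nat.card (MulAction.orbit H q) = 7 := by
    by_contra hne
    have h8' : Nat.card (MulAction.orbit H q) = 8 := by omega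
    have hst : Nat.card (MulAction.stabilizer H q) = 315 := by
      rw [h8', hH] at hprod
      omega
    obtain ⟨a, b, ha, hb, hab⟩ := commuting_five_three hst
    refine no_five_three h8 (a := q) (f := ((a : H) : Equiv.Perm α)) (g := ((b : H) : Equiv.Perm α))
      (by rw [Subgroup.orderOf_coe, Subgroup.orderOf_coe, ha]) (by rw [Subgroup.orderOf_coe, Subgroup.orderOf_coe, hb])
      ?_ a.2 b.2
    exact congrArg (fun u : MulAction.stabilizer H q => ((u : H) : Equiv.Perm α)) hab.eq
  obtain ⟨p, hp⟩ : ∃ p, p ∉ MulAction.orbit H q := by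
    by_contra hall
    push Not at hall
    have : Nat.card (MulAction.orbit H q) = 8 := by
      rw [← h8, ← Nat.card_eq_fintype_card]
      exact Nat.card_congr (Equiv.subtypeUnivEquiv hall)
    omega
  refine ⟨p, fun h hh => ?_⟩
  by_contra hne
  have hp' : h p ∉ MulAction.orbit H q := fun hmem => hp (by
    obtain ⟨g, hg⟩ := hmem
    exact ⟨(⟨h, hh⟩ : H)⁻¹ * g, by
      show ((h⁻¹ * (g : Equiv.Perm α) : Equiv.Perm α)) q = p
      rw [Equiv.Perm.mul_apply, show (g : Equiv.Perm α) q = h p from hg, Equiv.Perm.inv_def, Equiv.symm_apply_apply]⟩)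
  have h2 : ({p, h p} : Set α) ⊆ (MulAction.orbit H q)ᶜ := by
    rintro x (rfl | rfl)
    · exact hp
    · exact hp'
  have := Set.ncard_le_ncard h2 (Set.toFinite _)
  rw [Set.ncard_pair (fun e => hne e.symm), Set.ncard_compl, Nat.card_eq_fintype_card, h8,
    ← Nat.card_coe_set_eq, h7'] at this
  omega

/-- Subgroups of order 2520 of the alternating group are conjugate. -/
theorem alt_conj {H₁ H₂ : Subgroup (alternatingGroup (Fin 8))} (h₁ : Nat.card H₁ = 2520) (h₂ : Nat.card H₂ = 2520) :
    ∃ a : alternatingGroup (Fin 8), H₂ = H₁.map (MulAut.conj a).toMonoidHom := by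
  classical
  haveI : MulAction.IsPretransitive (alternatingGroup (Fin 8)) (Fin 8) :=
    alternatingGroup.isPretransitive_of_three_le_card (Fin 8) (by simp)
  have hstab : ∀ p : Fin 8, Nat.card (MulAction.stabilizer (alternatingGroup (Fin 8)) p) = 2520 := fun p => by
    have h := Subgroup.index_mul_card (MulAction.stabilizer (alternatingGroup (Fin 8)) p)
    rw [MulAction.index_stabilizer_of_transitive, Nat.card_fin, nat_card_alternatingGroup, Nat.card_fin] at h
    rw [show Nat.factorial 8 / 2 = 20160 from rfl] at h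
    omega
  have hfix : ∀ H : Subgroup (alternatingGroup (Fin 8)), Nat.card H = 2520 →
      ∃ p : Fin 8, H = MulAction.stabilizer (alternatingGroup (Fin 8)) p := fun H hH => by
    obtain ⟨p, hp⟩ := exists_fixed (Fintype.card_fin 8) (H.map (alternatingGroup (Fin 8)).subtype)
      (by rw [Subgroup.card_map_of_injective Subtype.val_injective, hH])
    exact ⟨p, Subgroup.eq_of_le_of_card_ge (fun h hh => MulAction.mem_stabilizer_iff.mpr (hp _ ⟨h, hh, rfl⟩))
      (by rw [hH, hstab])⟩
  obtain ⟨p₁, rfl⟩ := hfix H₁ h₁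
  obtain ⟨p₂, rfl⟩ := hfix H₂ h₂
  obtain ⟨a, ha⟩ := MulAction.exists_smul_eq (alternatingGroup (Fin 8)) p₁ p₂
  refine ⟨a, ?_⟩
  rw [← ha, MulAction.stabilizer_smul_eq_stabilizer_map_conj]

end Cfsg.Agent.MTwentyThree.AEight
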