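import Cfsg.Agent.Lib.Lead.GLFourTwo
import Cfsg.Agent.Lib.Spor.MTwentyThreeNse.AltEight

/-!
The automorphisms of an elementary abelian group of order sixteen form an alternating group of degree eight, in
which subgroups of index eight are conjugate.
-/

set_option autoImplicit false
set_option linter.unusedSectionVars false
set_option linter.style.haveILetI false

namespace Cfsg.Agent.MTwentyThree.AEight

theorem exists_equiv_vec {E : Type*} [Group E] [Finite E] (hab : ∀ a b : E, Commute a b) (h2 : ∀ a : E, a * a = 1)
    (hc : Nat.card E = 16) : Nonempty (E ≃* Multiplicative (Fin 4 → ZMod 2)) := by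
  letI : CommGroup E := { (inferInstance : Group E) with mul_comm := fun a b => hab a b }
  letI : Module (ZMod 2) (Additive E) := AddCommGroup.zmodModule fun x => by
    rw [two_nsmul]; exact h2 (Additive.toMul x)
  haveI : Module.Finite (ZMod 2) (Additive E) := Module.Finite.of_finite
  have hr : Module.finrank (ZMod 2) (Additive E) = 4 := by
    have h := Module.natCard_eq_pow_finrank (K := ZMod 2) (V := Additive E)
    rw [Nat.card_zmod, Nat.card_congr (Additive.toMul (α := E)), hc] at h
    exact Nat.pow_right_injective (le_refl 2) (show 2 ^ _ = 2 ^ 4 from h.symm)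
  let f : Additive E ≃ₗ[ZMod 2] (Fin 4 → ZMod 2) := (Module.finBasisOfFinrankEq (ZMod 2) (Additive E) hr).equivFun
  exact ⟨{ toFun := fun a => Multiplicative.ofAdd (f (Additive.ofMul a))
           invFun := fun v => Additive.toMul (f.symm (Multiplicative.toAdd v))
           left_inv := fun a => by simp
           right_inv := fun v => by simp
           map_mul' := fun a b => by rw [ofMul_mul, map_add]; rfl }⟩

/-- The automorphisms as linear maps. -/
noncomputable def autLinear : MulAut (Multiplicative (Fin 4 → ZMod 2)) ≃* LinearMap.GeneralLinearGroup (ZMod 2) (Fin 4 → ZMod 2) :=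
  let e : MulAut (Multiplicative (Fin 4 → ZMod 2)) ≃* ((Fin 4 → ZMod 2) ≃ₗ[ZMod 2] (Fin 4 → ZMod 2)) :=
    { toFun := fun a =>
        { toFun := fun v => Multiplicative.toAdd (a (Multiplicative.ofAdd v))
          invFun := fun v => Multiplicative.toAdd (a.symm (Multiplicative.ofAdd v))
          left_inv := fun v => by simp
          right_inv := fun v => by simp
          map_add' := fun v w => by rw [ofAdd_add, map_mul, toAdd_mul]
          map_smul' := fun c v => ZMod.map_smul
            ({ toFun := fun v => Multiplicative.toAdd (a (Multiplicative.ofAdd v))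
               map_zero' := by simp
               map_add' := fun v w => by rw [ofAdd_add, map_mul, toAdd_mul] } : (Fin 4 → ZMod 2) →+ (Fin 4 → ZMod 2)) c v }
      invFun := fun l =>
        { toFun := fun v => Multiplicative.ofAdd (l (Multiplicative.toAdd v))
          invFun := fun v => Multiplicative.ofAdd (l.symm (Multiplicative.toAdd v))
          left_inv := fun v => by simp
          right_inv := fun v => by simp
          map_mul' := fun v w => by rw [toAdd_mul, map_add, ofAdd_add] }
      left_inv := fun a => MulEquiv.ext fun v => rfl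
      right_inv := fun l => LinearEquiv.ext fun v => rfl
      map_mul' := fun a b => LinearEquiv.ext fun v => rfl }
  e.trans (LinearMap.GeneralLinearGroup.generalLinearEquiv (ZMod 2) (Fin 4 → ZMod 2)).symm

theorem aut_equiv {E : Type*} [Group E] [Finite E] (hab : ∀ a b : E, Commute a b) (h2 : ∀ a : E, a * a = 1)
    (hc : Nat.card E = 16) : Nonempty (MulAut E ≃* alternatingGroup (Fin 8)) := by
  obtain ⟨e⟩ := exists_equiv_vec hab h2 hc
  obtain ⟨E0⟩ := Cfsg.Agent.S0256.result (F := ZMod 2) (ZMod.card 2)
  obtain ⟨E1⟩ := Cfsg.Agent.Lead.GLFourTwo.gl_psl (n := Fin 4)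
  exact ⟨((MulAut.congr e).trans autLinear).trans
    ((Matrix.GeneralLinearGroup.toLin (n := Fin 4) (R := ZMod 2)).symm.trans (E1.trans E0))⟩

theorem aut_conj {E : Type*} [Group E] [Finite E] (hab : ∀ a b : E, Commute a b) (h2 : ∀ a : E, a * a = 1)
    (hc : Nat.card E = 16) {H₁ H₂ : Subgroup (MulAut E)} (h₁ : Nat.card H₁ = 2520) (h₂ : Nat.card H₂ = 2520) :
    ∃ a : MulAut E, H₂ = H₁.map (MulAut.conj a).toMonoidHom := by
  obtain ⟨θ⟩ := aut_equiv hab h2 hc
  obtain ⟨b, hb⟩ := alt_conj (H₁ := H₁.map θ.toMonoidHom) (H₂ := H₂.map θ.toMonoidHom)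
    (by rw [Subgroup.card_map_of_injective θ.injective, h₁]) (by rw [Subgroup.card_map_of_injective θ.injective, h₂])
  refine ⟨θ.symm b, ?_⟩
  apply Subgroup.map_injective (f := θ.toMonoidHom) θ.injective
  rw [hb, Subgroup.map_map, Subgroup.map_map]
  congr 1
  ext x
  simp

end Cfsg.Agent.MTwentyThree.AEight
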