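import Mathlib.GroupTheory.Subgroup.Centralizer
import Mathlib.Tactic.Group
import Mathlib.Tactic

/-!
A homomorphism on a group normalising a subgroup, from the action on the image of that subgroup, when the image
has trivial centraliser.
-/

set_option autoImplicit false
set_option linter.unusedSectionVars false

namespace Cfsg.Agent.MTwentyThree.Nse

variable {M G : Type*} [Group M] [Group G] {B₀ : Subgroup M}

/-- An element of the target acting on the image as a given element acts. -/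
def Realises (φ : B₀ →* G) (l : M) (g : G) : Prop :=
  ∀ (b : B₀) (h : l * b * l⁻¹ ∈ B₀), g * φ b * g⁻¹ = φ ⟨l * b * l⁻¹, h⟩

/-- The elements whose action is realised. -/
def realised (φ : B₀ →* G) : Subgroup M where
  carrier := {l | l ∈ Subgroup.normalizer (B₀ : Set M) ∧ ∃ g, Realises φ l g}
  one_mem' := ⟨one_mem _, 1, fun b h => by
    rw [one_mul, inv_one, mul_one]
    exact congrArg φ (Subtype.ext (by simp))⟩
  mul_mem' := by
    rintro l m ⟨hl, g, hg⟩ ⟨hm, k, hk⟩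
    refine ⟨mul_mem hl hm, g * k, fun b h => ?_⟩
    have hmb : m * b * m⁻¹ ∈ B₀ := (Subgroup.mem_normalizer_iff.mp hm b).mp b.2
    have hlb : l * (⟨_, hmb⟩ : B₀) * l⁻¹ ∈ B₀ := (Subgroup.mem_normalizer_iff.mp hl _).mp hmb
    calc g * k * φ b * (g * k)⁻¹ = g * (k * φ b * k⁻¹) * g⁻¹ := by group
      _ = φ ⟨_, hlb⟩ := by rw [hk b hmb, hg ⟨_, hmb⟩ hlb]
      _ = _ := congrArg φ (Subtype.ext (by show l * (m * b * m⁻¹) * l⁻¹ = l * m * b * (l * m)⁻¹; group))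
  inv_mem' := by
    rintro l ⟨hl, g, hg⟩
    refine ⟨inv_mem hl, g⁻¹, fun b h => ?_⟩
    have e : l * (⟨l⁻¹ * b * l⁻¹⁻¹, h⟩ : B₀) * l⁻¹ ∈ B₀ := by
      show l * (l⁻¹ * b * l⁻¹⁻¹) * l⁻¹ ∈ B₀
      rw [show l * (l⁻¹ * (b : M) * l⁻¹⁻¹) * l⁻¹ = b by group]
      exact b.2
    have h2 := hg _ e
    rw [show (⟨l * (⟨l⁻¹ * b * l⁻¹⁻¹, h⟩ : B₀) * l⁻¹, e⟩ : B₀) = b from Subtype.ext (by
      show l * (l⁻¹ * (b : M) * l⁻¹⁻¹) * l⁻¹ = b; group)] at h2
    rw [← h2]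
    group

theorem realised_le (φ : B₀ →* G) : realised φ ≤ Subgroup.normalizer (B₀ : Set M) := fun _ h => h.1

/-- The value of a homomorphism extending the map realises. -/
theorem realises_of_hom {φ : B₀ →* G} {K : Subgroup M} (Ψ : K →* G) (hB : B₀ ≤ K)
    (hag : ∀ b : B₀, Ψ ⟨b, hB b.2⟩ = φ b) (l : K) : Realises φ (l : M) (Ψ l) := fun b h => by
  rw [← hag b, ← hag ⟨_, h⟩, ← map_inv, ← map_mul, ← map_mul]
  rfl

theorem inf_le_realised {φ : B₀ →* G} {K : Subgroup M} (Ψ : K →* G) (hB : B₀ ≤ K)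
    (hag : ∀ b : B₀, Ψ ⟨b, hB b.2⟩ = φ b) : K ⊓ Subgroup.normalizer (B₀ : Set M) ≤ realised φ :=
  fun l hl => ⟨hl.2, _, realises_of_hom Ψ hB hag ⟨l, hl.1⟩⟩

/-- Realising elements are unique, hence give a homomorphism. -/
theorem exists_conj_hom (φ : B₀ →* G) (hone : ∀ g : G, (∀ b, g * φ b * g⁻¹ = φ b) → g = 1) {L₀ : Subgroup M}
    (hL : L₀ ≤ realised φ) :
    ∃ Φ : L₀ →* G, (∀ l : L₀, Realises φ (l : M) (Φ l)) ∧ ∀ (l : L₀) (g : G), Realises φ (l : M) g → Φ l = g := by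
  have huniq : ∀ l ∈ realised φ, ∀ g k, Realises φ l g → Realises φ l k → g = k := fun l hl g k hg hk => by
    have h := hone (k⁻¹ * g) fun b => by
      have hb : l * b * l⁻¹ ∈ B₀ := (Subgroup.mem_normalizer_iff.mp hl.1 b).mp b.2
      calc k⁻¹ * g * φ b * (k⁻¹ * g)⁻¹ = k⁻¹ * (g * φ b * g⁻¹) * k := by group
        _ = k⁻¹ * (k * φ b * k⁻¹) * k := by rw [hg b hb, hk b hb]
        _ = φ b := by group
    exact (inv_mul_eq_one.mp h).symm
  have hex : ∀ l : L₀, ∃ g, Realises φ (l : M) g := fun l => (hL l.2).2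
  choose f hf using hex
  refine ⟨MonoidHom.mk' f fun l m => huniq _ (hL (l * m).2) _ _ (hf _) fun b h => ?_, hf,
    fun l g hg => huniq _ (hL l.2) _ _ (hf l) hg⟩
  have hn := realised_le φ (hL m.2)
  have hmb : (m : M) * b * (m : M)⁻¹ ∈ B₀ := (Subgroup.mem_normalizer_iff.mp hn b).mp b.2
  have hlb : (l : M) * (⟨_, hmb⟩ : B₀) * (l : M)⁻¹ ∈ B₀ :=
    (Subgroup.mem_normalizer_iff.mp (realised_le φ (hL l.2)) _).mp hmb
  calc f l * f m * φ b * (f l * f m)⁻¹ = f l * (f m * φ b * (f m)⁻¹) * (f l)⁻¹ := by group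
    _ = φ ⟨_, hlb⟩ := by rw [hf m b hmb, hf l ⟨_, hmb⟩ hlb]
    _ = _ := congrArg φ (Subtype.ext (by
      show (l : M) * ((m : M) * b * (m : M)⁻¹) * (l : M)⁻¹ = _
      simp only [Subgroup.coe_mul]
      group))

end Cfsg.Agent.MTwentyThree.Nse
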