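import Cfsg.Agent.Lib.Spor.MTwentyThreeNse.Tools

/-!
The local data of a group whose element numbers are those of the Mathieu group of degree twenty-three.
-/

set_option autoImplicit false
set_option linter.unusedSectionVars false
set_option linter.style.haveILetI false

namespace Cfsg.Agent.MTwentyThree.Nse

open Cfsg.Agent.Solv
open scoped Pointwise

/-- The element numbers used. -/
structure Counts (G : Type*) [Group G] : Prop where
  card : Nat.card G = 10200960
  orders : ∀ g : G, orderOf g ∈ [1, 2, 3, 4, 5, 6, 7, 8, 11, 14, 15, 23]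
  two : CV.cnt G 2 = 3795
  three : CV.cnt G 3 = 56672
  five : CV.cnt G 5 = 680064
  seven : CV.cnt G 7 = 1457280
  fifteen : CV.cnt G 15 = 1360128
  eight : ∃ g : G, orderOf g = 8
  fourteen : ∃ g : G, orderOf g = 14

/-- The local data. -/
structure Loc (G : Type*) [Group G] : Prop where
  card : Nat.card G = 10200960
  invol_conj : ∀ t u : G, orderOf t = 2 → orderOf u = 2 → IsConj t u
  invol : ∀ t : G, orderOf t = 2 → Nat.card (Subgroup.centralizer ({t} : Set G)) = 2688
  seven : ∀ x : G, orderOf x = 7 → Nat.card (Subgroup.centralizer ({x} : Set G)) = 14 ∧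
    Nat.card (Subgroup.normalizer ((Subgroup.zpowers x : Subgroup G) : Set G)) = 42
  three : ∀ x : G, orderOf x = 3 → Nat.card (Subgroup.centralizer ({x} : Set G)) = 180 ∧
    Nat.card (Subgroup.normalizer ((Subgroup.zpowers x : Subgroup G) : Set G)) = 360

section General

variable {G : Type*} [Group G] [Finite G]

theorem exists_comm {p : ℕ} [Fact p.Prime] {x : G} (h : p ∣ Nat.card (Subgroup.centralizer ({x} : Set G))) :
    ∃ y : G, orderOf y = p ∧ Commute x y := by
  obtain ⟨y, hy⟩ := exists_prime_orderOf_dvd_card' p h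
  exact ⟨y, by rw [Subgroup.orderOf_coe]; exact hy, (Subgroup.mem_centralizer_singleton_iff.mp y.2).symm⟩

theorem conj_card_mul (x : G) :
    Nat.card {g : G // IsConj x g} * Nat.card (Subgroup.centralizer ({x} : Set G)) = Nat.card G := by
  classical
  have h1 : Nat.card {g : G // IsConj x g} = Nat.card (MulAction.orbit (ConjAct G) x) := by
    refine Nat.card_congr (Equiv.subtypeEquivRight fun g => ?_)
    rw [ConjAct.mem_orbit_conjAct, isConj_comm]
  have h2 : Nat.card (Subgroup.centralizer ({x} : Set G)) = Nat.card (MulAction.stabilizer (ConjAct G) x) := by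
    rw [ConjAct.stabilizer_eq_centralizer]
    exact (Nat.card_congr (Equiv.refl _))
  rw [h1, h2, ← Nat.card_prod]
  exact Nat.card_congr (MulAction.orbitProdStabilizerEquivGroup (ConjAct G) x)

theorem centralizer_le_normalizer (x : G) :
    Subgroup.centralizer ({x} : Set G) ≤ Subgroup.normalizer ((Subgroup.zpowers x : Subgroup G) : Set G) := by
  intro g hg
  rw [Subgroup.mem_normalizer_iff_map_conj_eq, MonoidHom.map_zpowers]
  congr 1
  show g * x * g⁻¹ = x
  rw [Subgroup.mem_centralizer_singleton_iff.mp hg, mul_inv_cancel_right]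

end General

namespace Counts

variable {G : Type*} [Group G] [Finite G] (K : Counts G)
include K

theorem no_order (n : ℕ) (hn : n ∉ [1, 2, 3, 4, 5, 6, 7, 8, 11, 14, 15, 23]) (g : G) : orderOf g ≠ n :=
  fun e => hn (e ▸ K.orders g)

theorem not_comm {x y : G} {a b : ℕ} (hx : orderOf x = a) (hy : orderOf y = b) (hco : a.Coprime b)
    (hn : a * b ∉ [1, 2, 3, 4, 5, 6, 7, 8, 11, 14, 15, 23]) : ¬ Commute x y := fun h =>
  K.no_order _ hn _ (by rw [h.orderOf_mul_eq_mul_orderOf_of_coprime (by rw [hx, hy]; exact hco), hx, hy])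

theorem not_dvd_cent {x : G} {a p : ℕ} [Fact p.Prime] (hx : orderOf x = a) (hco : a.Coprime p)
    (hn : a * p ∉ [1, 2, 3, 4, 5, 6, 7, 8, 11, 14, 15, 23]) :
    ¬ p ∣ Nat.card (Subgroup.centralizer ({x} : Set G)) := fun h => by
  obtain ⟨y, hy, hc⟩ := exists_comm h
  exact K.not_comm hx hy hco hn hc

theorem seven_norm {x : G} (hx : orderOf x = 7) :
    Nat.card (Subgroup.normalizer ((Subgroup.zpowers x : Subgroup G) : Set G)) = 42 := by
  haveI : Fact (Nat.Prime 7) := ⟨by norm_num⟩
  have h := cnt_mul_normalizer (by rw [K.card]; norm_num) hx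
  rw [K.seven, K.card] at h
  omega

theorem five_norm {x : G} (hx : orderOf x = 5) :
    Nat.card (Subgroup.normalizer ((Subgroup.zpowers x : Subgroup G) : Set G)) = 60 := by
  haveI : Fact (Nat.Prime 5) := ⟨by norm_num⟩
  have h := cnt_mul_normalizer (by rw [K.card]; norm_num) hx
  rw [K.five, K.card] at h
  omega

theorem seven_cent {x : G} (hx : orderOf x = 7) : Nat.card (Subgroup.centralizer ({x} : Set G)) = 14 := by
  haveI : Fact (Nat.Prime 7) := ⟨by norm_num⟩
  haveI : Fact (Nat.Prime 3) := ⟨by norm_num⟩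
  haveI : Fact (Nat.Prime 2) := ⟨Nat.prime_two⟩
  have hd := Subgroup.card_dvd_of_le (centralizer_le_normalizer x)
  rw [K.seven_norm hx] at hd
  have h7 : 7 ∣ Nat.card (Subgroup.centralizer ({x} : Set G)) := by
    have := orderOf_dvd_natCard (⟨x, Subgroup.mem_centralizer_singleton_iff.mpr rfl⟩ :
      Subgroup.centralizer ({x} : Set G))
    rwa [Subgroup.orderOf_mk, hx] at this
  have h3 := K.not_dvd_cent (p := 3) hx (by norm_num) (by decide)
  have h2 : 2 ∣ Nat.card (Subgroup.centralizer ({x} : Set G)) := by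
    obtain ⟨g, hg⟩ := K.fourteen
    have ha : orderOf (g ^ 2) = 7 := by rw [orderOf_pow, hg]; rfl
    have hb : orderOf (g ^ 7) = 2 := by rw [orderOf_pow, hg]; rfl
    obtain ⟨c, hc⟩ := exists_conj_zpowers (p := 7) (by rw [K.card]; norm_num) ha hx
    have hm : c * g ^ 7 * c⁻¹ ∈ Subgroup.centralizer ({x} : Set G) := by
      obtain ⟨y, ⟨i, rfl⟩, e⟩ : x ∈ (Subgroup.zpowers (g ^ 2)).map (MulAut.conj c).toMonoidHom :=
        hc ▸ Subgroup.mem_zpowers x
      refine Subgroup.mem_centralizer_singleton_iff.mpr ?_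
      rw [← e]
      exact (((Commute.refl g).pow_pow 7 2).zpow_right i).map (MulAut.conj c).toMonoidHom
    have := orderOf_dvd_natCard (⟨_, hm⟩ : Subgroup.centralizer ({x} : Set G))
    rwa [Subgroup.orderOf_mk, show c * g ^ 7 * c⁻¹ = MulAut.conj c (g ^ 7) from rfl, MulEquiv.orderOf_eq, hb] at this
  have hle := Nat.le_of_dvd (by norm_num) hd
  generalize Nat.card (Subgroup.centralizer ({x} : Set G)) = c at *
  obtain ⟨m, rfl⟩ := h7
  have : m ≤ 6 := by omega
  interval_cases m <;> omega

theorem invol_seven {t : G} (ht : orderOf t = 2) : ∃ x : G, orderOf x = 7 ∧ Commute t x := by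
  haveI : Fact (Nat.Prime 7) := ⟨by norm_num⟩
  haveI : Fact (Nat.Prime 5) := ⟨by norm_num⟩
  haveI : Fact (Nat.Prime 11) := ⟨by norm_num⟩
  haveI : Fact (Nat.Prime 23) := ⟨by norm_num⟩
  refine exists_comm ?_
  by_contra h7
  have h5 := K.not_dvd_cent (p := 5) ht (by norm_num) (by decide)
  have h11 := K.not_dvd_cent (p := 11) ht (by norm_num) (by decide)
  have h23 := K.not_dvd_cent (p := 23) ht (by norm_num) (by decide)
  have he := conj_card_mul t
  rw [K.card] at he
  have hdiv : ∀ p : ℕ, p.Prime → p ∣ 10200960 → ¬ p ∣ Nat.card (Subgroup.centralizer ({t} : Set G)) →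
      p ∣ Nat.card {g : G // IsConj t g} := fun p hp hd hn =>
    (hp.dvd_mul.mp (he ▸ hd)).resolve_right hn
  have a := Nat.Coprime.mul_dvd_of_dvd_of_dvd (by norm_num) (hdiv 5 (by norm_num) (by norm_num) h5)
    (hdiv 7 (by norm_num) (by norm_num) h7)
  have b := Nat.Coprime.mul_dvd_of_dvd_of_dvd (by norm_num) a (hdiv 11 (by norm_num) (by norm_num) h11)
  have c := Nat.Coprime.mul_dvd_of_dvd_of_dvd (by norm_num) b (hdiv 23 (by norm_num) (by norm_num) h23)
  have hle : Nat.card {g : G // IsConj t g} ≤ 3795 := by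
    rw [← K.two]
    refine Nat.card_le_card_of_injective (fun g => ⟨g.1, ?_⟩) fun g g' e => Subtype.ext (Subtype.mk.inj e)
    obtain ⟨c, hc⟩ := isConj_iff.mp g.2
    rw [← hc, show c * t * c⁻¹ = MulAut.conj c t from rfl, MulEquiv.orderOf_eq, ht]
  haveI : Nonempty {g : G // IsConj t g} := ⟨⟨t, IsConj.refl t⟩⟩
  have hpos : 0 < Nat.card {g : G // IsConj t g} := Nat.card_pos
  have := Nat.le_of_dvd hpos c
  omega

theorem invol_conj {t u : G} (ht : orderOf t = 2) (hu : orderOf u = 2) : IsConj t u := by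
  haveI : Fact (Nat.Prime 7) := ⟨by norm_num⟩
  haveI : Fact (Nat.Prime 2) := ⟨Nat.prime_two⟩
  obtain ⟨x, hx, hxt⟩ := K.invol_seven ht
  obtain ⟨y, hy, hyu⟩ := K.invol_seven hu
  obtain ⟨c, hc⟩ := exists_conj_zpowers (p := 7) (by rw [K.card]; norm_num) hx hy
  refine isConj_iff.mpr ⟨c, ?_⟩
  obtain ⟨_, ⟨i, rfl⟩, e⟩ : y ∈ (Subgroup.zpowers x).map (MulAut.conj c).toMonoidHom := hc ▸ Subgroup.mem_zpowers y
  have h1 : Commute (c * t * c⁻¹) y := e ▸ ((hxt.zpow_right i).map (MulAut.conj c).toMonoidHom)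
  have ho : orderOf (c * t * c⁻¹) = 2 := by
    rw [show c * t * c⁻¹ = MulAut.conj c t from rfl, MulEquiv.orderOf_eq, ht]
  set C := Subgroup.centralizer ({y} : Set G)
  have hC : Nat.card C = 14 := K.seven_cent hy
  let a : C := ⟨c * t * c⁻¹, Subgroup.mem_centralizer_singleton_iff.mpr h1.eq⟩
  let b : C := ⟨u, Subgroup.mem_centralizer_singleton_iff.mpr hyu.eq⟩
  have ha : orderOf a = 2 := by rw [Subgroup.orderOf_mk, ho]
  have hb : orderOf b = 2 := by rw [Subgroup.orderOf_mk, hu]
  have hab : Commute a b := by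
    let z : C := ⟨y, Subgroup.mem_centralizer_singleton_iff.mpr rfl⟩
    have hz : Subgroup.zpowers z ≤ Subgroup.center C := by
      rw [Subgroup.zpowers_le, Subgroup.mem_center_iff]
      exact fun g => Subtype.ext (Subgroup.mem_centralizer_singleton_iff.mp g.2)
    have hcyc : IsCyclic (C ⧸ Subgroup.center C) := by
      haveI : Fact (Nat.Prime 7) := ⟨by norm_num⟩
      have h7 : 7 ∣ Nat.card (Subgroup.center C) := by
        have := Subgroup.card_dvd_of_le hz
        rwa [Nat.card_zpowers, Subgroup.orderOf_mk, hy] at this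
      have e := Subgroup.card_eq_card_quotient_mul_card_subgroup (Subgroup.center C)
      rw [hC] at e
      obtain ⟨m, hm⟩ := h7
      rw [hm] at e
      rcases (Nat.dvd_prime Nat.prime_two).mp (⟨m, by linarith⟩ : Nat.card (C ⧸ Subgroup.center C) ∣ 2) with h | h
      · haveI : Subsingleton (C ⧸ Subgroup.center C) := (Nat.card_eq_one_iff_unique.mp h).1
        infer_instance
      · exact isCyclic_of_prime_card h
    letI := commGroupOfCyclicCenterQuotient (QuotientGroup.mk' (Subgroup.center C))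
      (le_of_eq (QuotientGroup.ker_mk' _))
    exact mul_comm a b
  by_contra hne
  have hne' : a ≠ b := fun e => hne (congrArg Subtype.val e)
  have h4 : Subgroup.zpowers a ⊔ Subgroup.zpowers b ≤ Subgroup.centralizer ({a} : Set C) := by
    refine sup_le ?_ ?_ <;> rw [Subgroup.zpowers_le, Subgroup.mem_centralizer_singleton_iff]
    exact hab.symm.eq
  have hinf : Subgroup.zpowers a ⊓ Subgroup.zpowers b = ⊥ := by
    refine (Subgroup.eq_bot_iff_forall _).mpr fun g ⟨hga, hgb⟩ => ?_
    obtain ⟨i, rfl⟩ := hga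
    obtain ⟨j, hj⟩ := hgb
    simp only at hj ⊢
    have pw : ∀ (d : C) (i : ℤ), orderOf d = 2 → d ^ i = 1 ∨ d ^ i = d := fun d i hd => by
      rcases Int.even_or_odd i with ⟨k, rfl⟩ | ⟨k, rfl⟩
      · left; rw [← two_mul, zpow_mul, show (2 : ℤ) = ((2 : ℕ) : ℤ) from rfl, zpow_natCast, ← hd,
          pow_orderOf_eq_one, one_zpow]
      · right; rw [zpow_add, zpow_one, zpow_mul, show (2 : ℤ) = ((2 : ℕ) : ℤ) from rfl, zpow_natCast, ← hd,
          pow_orderOf_eq_one, one_zpow, one_mul]
    rcases pw a i ha with h | h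
    · exact h
    · rcases pw b j hb with h' | h' <;> rw [hj] at h'
      · exact h'
      · exact absurd (h ▸ h') hne'
  haveI := Fintype.ofFinite C
  have hcard : 4 ∣ Nat.card C := by
    let f : Subgroup.zpowers a × Subgroup.zpowers b →* C := (Subgroup.zpowers a).subtype.noncommCoprod
      (Subgroup.zpowers b).subtype fun g h => by
        obtain ⟨_, i, rfl⟩ := g
        obtain ⟨_, j, rfl⟩ := h
        exact hab.zpow_zpow i j
    have hf : Function.Injective f := by
      rw [injective_iff_map_eq_one]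
      rintro ⟨g, h⟩ e
      have e' : (g : C) * (h : C) = 1 := e
      have hg : (g : C) ∈ Subgroup.zpowers a ⊓ Subgroup.zpowers b :=
        ⟨g.2, by rw [eq_inv_of_mul_eq_one_left e']; exact Subgroup.inv_mem _ h.2⟩
      rw [hinf, Subgroup.mem_bot] at hg
      rw [hg, one_mul] at e'
      exact Prod.ext (Subtype.ext hg) (Subtype.ext e')
    have := Subgroup.card_dvd_of_injective f hf
    rwa [Nat.card_prod, Nat.card_zpowers, Nat.card_zpowers, ha, hb] at this
  rw [hC] at hcard
  omega

theorem invol_cent {t : G} (ht : orderOf t = 2) : Nat.card (Subgroup.centralizer ({t} : Set G)) = 2688 := by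
  have he := conj_card_mul t
  have hs : Nat.card {g : G // IsConj t g} = 3795 := by
    rw [← K.two]
    refine Nat.card_congr (Equiv.subtypeEquivRight fun g => ⟨fun h => ?_, K.invol_conj ht⟩)
    obtain ⟨c, rfl⟩ := isConj_iff.mp h
    rw [show c * t * c⁻¹ = MulAut.conj c t from rfl, MulEquiv.orderOf_eq, ht]
  rw [hs, K.card] at he
  omega

theorem five_three {f : G} (hf : orderOf f = 5) :
    ∃ x : G, orderOf x = 3 ∧ Commute f x ∧ Nat.card (Subgroup.centralizer ({f} : Set G)) = 15 := by
  haveI : Fact (Nat.Prime 5) := ⟨by norm_num⟩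
  haveI : Fact (Nat.Prime 3) := ⟨by norm_num⟩
  haveI : Fact (Nat.Prime 2) := ⟨Nat.prime_two⟩
  have hm := cnt_mul (p := 5) (k := 3) (by rw [K.card]; norm_num) (by norm_num) hf
  rw [show (5 * 3 : ℕ) = 15 from rfl, K.fifteen, K.five] at hm
  obtain ⟨⟨x, hx, hxo⟩⟩ : Nonempty {v : G // Commute f v ∧ orderOf v = 3} :=
    (Nat.card_ne_zero.mp (show Nat.card {v : G // Commute f v ∧ orderOf v = 3} ≠ 0 by
      intro e
      rw [commCnt, e] at hm
      omega)).1
  refine ⟨x, hxo, hx, ?_⟩
  have hd := Subgroup.card_dvd_of_le (centralizer_le_normalizer f)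
  rw [K.five_norm hf] at hd
  have mem : ∀ y : G, Commute f y → orderOf y ∣ Nat.card (Subgroup.centralizer ({f} : Set G)) := fun y hy => by
    have := orderOf_dvd_natCard (⟨y, Subgroup.mem_centralizer_singleton_iff.mpr hy.symm.eq⟩ :
      Subgroup.centralizer ({f} : Set G))
    rwa [Subgroup.orderOf_mk] at this
  have h3 := mem x hx
  rw [hxo] at h3
  have h5 := mem f (Commute.refl f)
  rw [hf] at h5
  have h2 := K.not_dvd_cent (p := 2) hf (by norm_num) (by decide)
  have hle := Nat.le_of_dvd (by norm_num) hd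
  generalize Nat.card (Subgroup.centralizer ({f} : Set G)) = c at *
  obtain ⟨m, rfl⟩ := Nat.Coprime.mul_dvd_of_dvd_of_dvd (by norm_num) h3 h5
  have : m ≤ 4 := by omega
  interval_cases m <;> omega

end Counts

end Cfsg.Agent.MTwentyThree.Nse
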