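import Cfsg.Agent.Lib.Spor.MTwentyThreeNse.NormSplit

/-!
Involutions of the normaliser of a core modulo the core fix four points in it; the other elementary abelian
subgroups of order sixteen meet the core in four points.
-/

set_option autoImplicit false
set_option maxHeartbeats 800000
set_option maxRecDepth 100000
set_option linter.unusedSectionVars false
set_option linter.style.haveILetI false

namespace Cfsg.Agent.MTwentyThree.Nse

open Cfsg.Agent.Solv

namespace SplitData

open scoped Pointwise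

private abbrev A8 := alternatingGroup (Fin 8)

private abbrev P8 := Equiv.Perm (Fin 8)

/-- The stabiliser of the last point. -/
abbrev St : Subgroup A8 := MulAction.stabilizer A8 (7 : Fin 8)

theorem mem_St {q : A8} : q ∈ St ↔ (q : P8) 7 = 7 := MulAction.mem_stabilizer_iff

theorem card_St : Nat.card St = 2520 := by
  haveI : MulAction.IsPretransitive A8 (Fin 8) :=
    alternatingGroup.isPretransitive_of_three_le_card (Fin 8) (by simp)
  have h := Subgroup.index_mul_card St
  rw [MulAction.index_stabilizer_of_transitive, Nat.card_fin, nat_card_alternatingGroup, Nat.card_fin,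
    show Nat.factorial 8 / 2 = 20160 from rfl] at h
  omega

/-- A two-subgroup of the stabiliser moves into the group of order eight. -/
theorem into_eight {A : Subgroup A8} (hA : A ≤ St) (hp : IsPGroup 2 A) :
    ∃ k ∈ St, ∀ a ∈ A, k * a * k⁻¹ ∈ eightG := by
  haveI : Fact (Nat.Prime 2) := ⟨Nat.prime_two⟩
  have he : eightG ≤ St := fun x hx => mem_St.mpr (eightG_facts x hx).2
  let P : Sylow 2 St := Sylow.ofCard (eightG.subgroupOf St) (by
    rw [Nat.card_congr (Subgroup.subgroupOfEquivOfLe he).toEquiv, card_eightG, card_St,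
      show (2520 : ℕ) = 2 ^ 3 * 315 from rfl, Nat.factorization_mul (by norm_num) (by norm_num),
      Nat.Prime.factorization_pow Nat.prime_two]
    simp [Nat.factorization_eq_zero_of_not_dvd (show ¬ 2 ∣ 315 by norm_num)])
  have hp' : IsPGroup 2 (A.subgroupOf St) :=
    hp.of_injective (Subgroup.subgroupOfEquivOfLe hA).toMonoidHom (MulEquiv.injective _)
  obtain ⟨Q, hQ⟩ := hp'.exists_le_sylow
  obtain ⟨k, hk⟩ := MulAction.exists_smul_eq St Q P
  refine ⟨k, k.2, fun a ha => ?_⟩
  have hm : MulAut.conj k • (⟨a, hA ha⟩ : St) ∈ MulAut.conj k • (Q : Subgroup St) :=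
    Subgroup.smul_mem_pointwise_smul _ _ _ (hQ ha)
  rw [← Sylow.coe_subgroup_smul, hk] at hm
  exact hm

/-- The conjugators of the involutions of the group of order eight to one of them. -/
def toA : List (P8 × P8) :=
  [(aP, Equiv.swap 0 1 * Equiv.swap 3 4), (bP, Equiv.swap 0 1 * Equiv.swap 3 6),
   (aP * bP, Equiv.swap 0 1 * Equiv.swap 3 5), (dP, Equiv.swap 1 5 * Equiv.swap 2 6),
   (dP * aP, Equiv.swap 1 3 * Equiv.swap 2 4)]

theorem toA_check : (eightL.all fun x => same x 1 || !same (x * x) 1 ||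
      toA.any fun p => same p.1 x && same (p.2 * x) (aP * p.2)) = true ∧
    (same ((dP * bP) * (dP * bP)) 1) = false := by decide +kernel

theorem toA_even : ∀ p ∈ toA, p.2 ∈ alternatingGroup (Fin 8) ∧ p.2 7 = 7 := by
  intro p hp
  simp only [toA, List.mem_cons, List.not_mem_nil, or_false] at hp
  rcases hp with rfl | rfl | rfl | rfl | rfl <;>
    exact ⟨two_swap rfl (by decide) (by decide), by decide +kernel⟩

/-- An involution with the first class. -/
def aE : A8 := ⟨aP, two_swap rfl (by decide) (by decide)⟩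

theorem aE_mem : aE ∈ St := mem_St.mpr (show aP 7 = 7 by decide +kernel)

/-- One class of involutions in the stabiliser. -/
theorem invol_to_a {q : A8} (hq : q ∈ St) (h2 : q * q = 1) (h1 : q ≠ 1) :
    ∃ k ∈ St, k * q * k⁻¹ = aE := by
  haveI : Fact (Nat.Prime 2) := ⟨Nat.prime_two⟩
  have hp : IsPGroup 2 (Subgroup.zpowers q) :=
    IsPGroup.of_card (n := 1) (by rw [Nat.card_zpowers, pow_one]; exact orderOf_eq_prime (by rw [pow_two]; exact h2) h1)
  obtain ⟨k, hk, hall⟩ := into_eight (Subgroup.zpowers_le.mpr hq) hp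
  have hx := List.all_eq_true.mp toA_check.1 _ (hall q (Subgroup.mem_zpowers q))
  set x := k * q * k⁻¹ with hxdef
  simp only [Bool.or_eq_true, Bool.not_eq_true', List.any_eq_true, Bool.and_eq_true] at hx
  rcases hx with (hx | hx) | ⟨p, hpm, h3, h4⟩
  · refine absurd ?_ h1
    have e : x = 1 := Subtype.ext (eq_of_same hx)
    rw [hxdef] at e
    simpa using e
  · exfalso
    have e : x * x = 1 := by
      rw [hxdef, show k * q * k⁻¹ * (k * q * k⁻¹) = k * (q * q) * k⁻¹ by group, h2]; group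
    rw [show (x : P8) * (x : P8) = 1 from congrArg Subtype.val e] at hx
    simp [same] at hx
  · obtain ⟨he, h7⟩ := toA_even p hpm
    refine ⟨⟨p.2, he⟩ * k, mul_mem (mem_St.mpr h7) hk, ?_⟩
    have e : (⟨p.2, he⟩ : A8) * x = aE * ⟨p.2, he⟩ := Subtype.ext (eq_of_same h4)
    calc (⟨p.2, he⟩ : A8) * k * q * ((⟨p.2, he⟩ : A8) * k)⁻¹ = (⟨p.2, he⟩ : A8) * x * (⟨p.2, he⟩ : A8)⁻¹ := by
          rw [hxdef]; group
      _ = aE := by rw [e, mul_inv_cancel_right]

/-- The two involutions with a product of order five. -/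
def pP : P8 := Equiv.swap 0 1 * Equiv.swap 2 3

/-- The second one. -/
def rP : P8 := Equiv.swap 1 2 * Equiv.swap 3 4

theorem pr_check : same (pP * pP) 1 = true ∧ same (rP * rP) 1 = true ∧ same pP 1 = false ∧ same rP 1 = false ∧
    same ((pP * rP) * (pP * rP) * (pP * rP) * (pP * rP) * (pP * rP)) 1 = true ∧ same (pP * rP) 1 = false ∧
    (pP 7 == 7) = true ∧ (rP 7 == 7) = true := by decide +kernel

theorem four_of : ∀ k < 17, ∀ r < 17, r * k = 16 → r ≤ k → k ≠ 16 → k ≠ 8 → k = 4 := by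
  intro k hk r hr h hle h1 h2
  interval_cases k <;> omega

theorem exists_five_pair : ∃ q r : A8, q ∈ St ∧ r ∈ St ∧ q * q = 1 ∧ q ≠ 1 ∧ r * r = 1 ∧ r ≠ 1 ∧
    orderOf (q * r) = 5 := by
  haveI : Fact (Nat.Prime 5) := ⟨by norm_num⟩
  obtain ⟨a, b, c, d, e, f, g, h⟩ := pr_check
  simp only [beq_iff_eq] at g h
  have ne : ∀ {x : A8}, same (x : P8) 1 = false → x ≠ 1 := fun hx he => by
    rw [he] at hx; simp [same] at hx
  refine ⟨⟨pP, two_swap rfl (by decide) (by decide)⟩, ⟨rP, two_swap rfl (by decide) (by decide)⟩, mem_St.mpr g,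
    mem_St.mpr h, Subtype.ext (eq_of_same a), ne c, Subtype.ext (eq_of_same b), ne d, ?_⟩
  refine orderOf_eq_prime (Subtype.ext ?_) (ne f)
  simpa [pow_succ] using eq_of_same e

/-- The elementary abelian two-subgroups of the stabiliser have order at most four. -/
theorem card_sq_le {A : Subgroup A8} (hA : A ≤ St) (hsq : ∀ a ∈ A, a * a = 1) (hd : Nat.card A ∣ 16) :
    Nat.card A ≤ 4 := by
  haveI : Fact (Nat.Prime 2) := ⟨Nat.prime_two⟩
  obtain ⟨j, -, hj⟩ := (Nat.dvd_prime_pow Nat.prime_two).mp (show Nat.card A ∣ 2 ^ 4 from hd)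
  obtain ⟨k, -, hk⟩ := into_eight hA (IsPGroup.of_card (n := j) hj)
  set B := A.map (MulAut.conj k).toMonoidHom with hB
  have hBc : Nat.card B = Nat.card A := Subgroup.card_map_of_injective (MulAut.conj k).injective
  have hle : B ≤ eightG := by rintro _ ⟨a, ha, rfl⟩; exact hk a ha
  have hd8 := Subgroup.card_dvd_of_le hle
  rw [card_eightG, hBc] at hd8
  by_contra hgt
  have h8 : Nat.card A = 8 := (by decide +kernel : ∀ c < 9, c ∣ 8 → 4 < c → c = 8) _
    (Nat.lt_succ_of_le (Nat.le_of_dvd (by norm_num) hd8)) hd8 (not_le.mp hgt)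
  have e : B = eightG := Subgroup.eq_of_le_of_card_ge hle (by rw [card_eightG, hBc, h8])
  have hm : (⟨dP * bP, eight_even _ (by simp [eightL])⟩ : A8) ∈ B := by
    rw [e]; show dP * bP ∈ eightL; simp [eightL]
  obtain ⟨a, ha, hae⟩ := hm
  have h2 := congrArg (fun z => z * z) hae
  simp only [← map_mul, hsq a ha, map_one] at h2
  have := toA_check.2
  rw [show (dP * bP) * (dP * bP) = (1 : P8) from (congrArg Subtype.val h2).symm] at this
  simp [same] at this

end SplitData

variable {G : Type*} [Group G] [Finite G]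

namespace Loc

variable (L : Loc G)
include L

/-- The normaliser of a core modulo the core as the stabiliser of a point. -/
theorem exists_act_eight {t : G} (ht : orderOf t = 2) :
    ∃ f : ↥(nr t) →* alternatingGroup (Fin 8), f.range = SplitData.St ∧ ∀ g, f g = 1 ↔ (g : G) ∈ core t := by
  obtain ⟨θ₀⟩ := AEight.aut_equiv (E := core t) (fun a b => Subtype.ext (L.core_abelian ht a a.2 b b.2).eq)
    (fun a => Subtype.ext (L.core_sq ht a a.2)) (L.card_core ht)
  set H₀ := (act t).range.map θ₀.toMonoidHom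
  have hH₀ : Nat.card H₀ = 2520 := by rw [Subgroup.card_map_of_injective θ₀.injective, L.card_act_range ht]
  obtain ⟨a₀, ha₀⟩ := AEight.alt_conj hH₀ SplitData.card_St
  refine ⟨((MulAut.conj a₀).toMonoidHom.comp θ₀.toMonoidHom).comp (act t), ?_, fun g => ?_⟩
  · rw [MonoidHom.range_comp, ← Subgroup.map_map]
    exact ha₀.symm
  · rw [← L.act_ker ht]
    show MulAut.conj a₀ (θ₀ (act t g)) = 1 ↔ _
    rw [MulEquiv.map_eq_one_iff, MulEquiv.map_eq_one_iff]

theorem core_conj_mem {t g a : G} (hg : g ∈ nr t) (ha : a ∈ core t) : g * a * g⁻¹ ∈ core t :=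
  (Subgroup.mem_normalizer_iff.mp hg a).mp ha

/-- An involution modulo the core fixes four points of the core. -/
theorem card_fix_invol {t h : G} (ht : orderOf t = 2) (hh : h ∈ nr t) (hn : h ∉ core t) (h2 : h * h ∈ core t) :
    Nat.card ↥(core t ⊓ cen h) = 4 := by
  classical
  set E := core t
  have hab := L.core_abelian ht
  have hsq := L.core_sq ht
  -- the commutator with an element
  have mk : ∀ g ∈ nr t, ∃ d : E →* G, (∀ a : E, d a = g * a * g⁻¹ * a) ∧
      Nat.card d.ker = Nat.card ↥(E ⊓ cen g) ∧ ∀ a : E, d a = 1 → Commute g (a : G) := fun g hg => by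
    let d : E →* G :=
      { toFun := fun a => g * a * g⁻¹ * a
        map_one' := by simp
        map_mul' := fun a b => by
          simp only [Subgroup.coe_mul]
          calc g * (a * b : G) * g⁻¹ * (a * b) = g * a * g⁻¹ * (g * b * g⁻¹ * a) * b := by group
            _ = g * a * g⁻¹ * (a * (g * b * g⁻¹)) * b := by
              rw [(hab _ (Loc.core_conj_mem L hg b.2) a a.2).eq]
            _ = g * a * g⁻¹ * a * (g * b * g⁻¹ * b) := by group }
    have hc : ∀ a : E, d a = 1 → Commute g (a : G) := fun a e => mul_inv_eq_iff_eq_mul.mp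
      ((mul_eq_one_iff_eq_inv.mp e).trans (inv_eq_of_mul_eq_one_right (hsq _ a.2)))
    refine ⟨d, fun a => rfl, Nat.card_congr
      { toFun := fun a => ⟨a.1.1, a.1.2, mem_cen.mpr (hc a.1 (MonoidHom.mem_ker.mp a.2))⟩
        invFun := fun a => ⟨⟨a.1, a.2.1⟩, MonoidHom.mem_ker.mpr (by
          show g * a.1 * g⁻¹ * a.1 = 1
          rw [(mem_cen.mp a.2.2).eq, mul_inv_cancel_right, hsq _ a.2.1])⟩
        left_inv := fun _ => rfl
        right_inv := fun _ => rfl }, hc⟩
  obtain ⟨d, hd, hk, -⟩ := mk h hh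
  have h16 : Nat.card d.range * Nat.card ↥(E ⊓ cen h) = 16 := by rw [← hk, card_of_hom, L.card_core ht]
  have hrk : Nat.card d.range ≤ Nat.card ↥(E ⊓ cen h) := by
    refine Nat.le_of_dvd Nat.card_pos (Subgroup.card_dvd_of_le ?_)
    rintro _ ⟨a, rfl⟩
    rw [hd]
    have hm := Loc.core_conj_mem L hh a.2
    refine ⟨mul_mem hm a.2, mem_cen.mpr (show Commute h _ from mul_inv_eq_iff_eq_mul.mp ?_)⟩
    calc h * (h * a * h⁻¹ * a) * h⁻¹ = (h * h) * a * (h * h)⁻¹ * (h * a * h⁻¹) := by group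
      _ = (a : G) * (h * a * h⁻¹) := by rw [(hab _ h2 _ a.2).eq, mul_inv_cancel_right]
      _ = _ := (hab _ a.2 _ hm).eq
  have hk16 : Nat.card ↥(E ⊓ cen h) ∣ 16 := ⟨_, h16.symm.trans (mul_comm _ _)⟩
  have hne : Nat.card ↥(E ⊓ cen h) ≠ 16 := fun e => hn (by
    rw [show E = Subgroup.centralizer (core t : Set G) from (L.core_self_cent ht).symm]
    intro a ha
    have hle : E ⊓ cen h = E := Subgroup.eq_of_le_of_card_ge inf_le_left (by rw [L.card_core ht, e])
    exact (mem_cen.mp ((le_of_eq hle.symm) ha).2).symm.eq)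
  have h8 : Nat.card ↥(E ⊓ cen h) ≠ 8 := fun e8 => by
    obtain ⟨f, hf, hfk⟩ := L.exists_act_eight ht
    have hfh : f ⟨h, hh⟩ ∈ SplitData.St := hf ▸ ⟨_, rfl⟩
    have hq2 : f ⟨h, hh⟩ * f ⟨h, hh⟩ = 1 := by rw [← map_mul, hfk]; exact h2
    have hq1 : f ⟨h, hh⟩ ≠ 1 := fun e => hn ((hfk _).mp e)
    obtain ⟨k, hk, hka⟩ := SplitData.invol_to_a hfh hq2 hq1
    -- lifts of the involutions fix eight
    have lift : ∀ q : alternatingGroup (Fin 8), q ∈ SplitData.St → q * q = 1 → q ≠ 1 →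
        ∃ g : nr t, f g = q ∧ Nat.card ↥(E ⊓ cen (g : G)) = 8 := fun q hq hq2' hq1' => by
      obtain ⟨k', hk', hk'a⟩ := SplitData.invol_to_a hq hq2' hq1'
      obtain ⟨x, hx⟩ : k'⁻¹ * k ∈ f.range := by rw [hf]; exact mul_mem (inv_mem hk') hk
      refine ⟨x * ⟨h, hh⟩ * x⁻¹, ?_, ?_⟩
      · rw [map_mul, map_mul, map_inv, hx]
        calc k'⁻¹ * k * f ⟨h, hh⟩ * (k'⁻¹ * k)⁻¹ = k'⁻¹ * (k * f ⟨h, hh⟩ * k⁻¹) * k' := by group
          _ = q := by rw [hka, ← hk'a]; group
      · rw [← e8]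
        have hxi : (x : G)⁻¹ ∈ nr t := inv_mem x.2
        refine Nat.card_congr
          { toFun := fun a => ⟨(x : G)⁻¹ * a.1 * (x : G), ?_, ?_⟩
            invFun := fun a => ⟨(x : G) * a.1 * (x : G)⁻¹, Loc.core_conj_mem L x.2 a.2.1, ?_⟩
            left_inv := fun a => Subtype.ext (by simp [mul_assoc])
            right_inv := fun a => Subtype.ext (by simp [mul_assoc]) }
        · simpa using Loc.core_conj_mem L hxi a.2.1
        · have := (mem_cen.mp a.2.2).map (MulAut.conj ((x : G)⁻¹)).toMonoidHom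
          exact mem_cen.mpr (by simpa [mul_assoc] using this)
        · have := (mem_cen.mp a.2.2).map (MulAut.conj (x : G)).toMonoidHom
          exact mem_cen.mpr (by simpa [mul_assoc] using this)
    obtain ⟨q, r, hq, hr, q2, q1, r2, r1, h5⟩ := SplitData.exists_five_pair
    obtain ⟨g₁, hg₁, c₁⟩ := lift q hq q2 q1
    obtain ⟨g₂, hg₂, c₂⟩ := lift r hr r2 r1
    obtain ⟨d₁, -, k₁, hcom₁⟩ := mk g₁ g₁.2
    obtain ⟨d₂, -, k₂, hcom₂⟩ := mk g₂ g₂.2
    have r₁ : Nat.card d₁.range = 2 := by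
      have := card_of_hom d₁
      rw [k₁, c₁, L.card_core ht] at this
      omega
    have r₂ : Nat.card d₂.range = 2 := by
      have := card_of_hom d₂
      rw [k₂, c₂, L.card_core ht] at this
      omega
    have h4 : 4 ≤ Nat.card (d₁.prod d₂).ker := by
      have hle : (d₁.prod d₂).range ≤ d₁.range.prod d₂.range := by
        rintro _ ⟨a, rfl⟩; exact ⟨⟨a, rfl⟩, ⟨a, rfl⟩⟩
      have h1 := Nat.le_of_dvd Nat.card_pos (Subgroup.card_dvd_of_le hle)
      rw [Nat.card_congr (Subgroup.prodEquiv d₁.range d₂.range).toEquiv, Nat.card_prod, r₁, r₂] at h1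
      have h2' := card_of_hom (d₁.prod d₂)
      rw [L.card_core ht] at h2'
      by_contra hlt
      have := Nat.mul_le_mul h1 (Nat.le_of_lt_succ (not_le.mp hlt) : _ ≤ 3)
      omega
    haveI : Finite (d₁.prod d₂).ker := inferInstance
    haveI : Nontrivial (d₁.prod d₂).ker := Finite.one_lt_card_iff_nontrivial.mp (by omega)
    obtain ⟨⟨u, hu⟩, hu1⟩ := exists_ne (1 : (d₁.prod d₂).ker)
    rw [MonoidHom.mem_ker, MonoidHom.prod_apply, Prod.mk_eq_one] at hu
    have hu0 : (u : G) ≠ 1 := fun e => hu1 (Subtype.ext (Subtype.ext e))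
    have hc₁ : Commute (g₁ : G) (u : G) := hcom₁ u hu.1
    have hc₂ : Commute (g₂ : G) (u : G) := hcom₂ u hu.2
    have ho := L.order_of_mem_core ht u.2 hu0
    have hd5 : 5 ∣ orderOf ((g₁ * g₂ : nr t) : G) := by
      rw [← h5, ← hg₁, ← hg₂, ← map_mul, Subgroup.orderOf_coe]
      exact orderOf_map_dvd f _
    have hd := orderOf_dvd_natCard (⟨_, mem_cen.mpr (hc₁.mul_left hc₂).symm⟩ : cen (u : G))
    rw [Subgroup.orderOf_mk, L.invol _ ho] at hd
    exact absurd (hd5.trans hd) (by norm_num)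
  exact SplitData.four_of _
    (Nat.lt_succ_of_le (Nat.le_of_dvd (by norm_num) hk16)) _
    (Nat.lt_succ_of_le (Nat.le_of_dvd (by norm_num) ⟨_, h16.symm⟩)) h16 hrk hne h8

/-- An elementary abelian group of order sixteen in the normaliser of another core meets it in four points and is
normalised by it. -/
theorem inf_core {t : G} (ht : orderOf t = 2) {A : Subgroup G} (hA : A ≤ nr t) (hc : Nat.card A = 16)
    (hab : ∀ a ∈ A, ∀ b ∈ A, Commute a b) (hsq : ∀ a ∈ A, a * a = 1) (hne : A ≠ core t) :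
    Nat.card ↥(A ⊓ core t) = 4 ∧ core t ≤ Subgroup.normalizer (A : Set G) := by
  classical
  set E := core t with hE
  obtain ⟨a, ha, haE⟩ := SetLike.not_le_iff_exists.mp fun hle =>
    hne (Subgroup.eq_of_le_of_card_ge hle (by rw [hc, L.card_core ht]))
  have ha2 : a * a ∈ E := by rw [hsq a ha]; exact one_mem _
  have hle : A ⊓ E ≤ E ⊓ cen a := fun b hb => ⟨hb.2, mem_cen.mpr (hab a ha b hb.1)⟩
  have h4 := L.card_fix_invol ht (hA ha) haE ha2
  have hup := Nat.le_of_dvd Nat.card_pos (Subgroup.card_dvd_of_le hle)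
  rw [h4] at hup
  have hlow : 4 ≤ Nat.card ↥(A ⊓ E) := by
    obtain ⟨f, hf, hfk⟩ := L.exists_act_eight ht
    set B := A.subgroupOf (nr t)
    have hB : Nat.card B = 16 := by rw [Nat.card_congr (Subgroup.subgroupOfEquivOfLe hA).toEquiv, hc]
    have e := card_map_sub f B
    have hk : Nat.card ↥(B ⊓ f.ker) = Nat.card ↥(A ⊓ E) := Nat.card_congr
      { toFun := fun g => ⟨g.1.1, g.2.1, (hfk _).mp g.2.2⟩
        invFun := fun g => ⟨⟨g.1, hA g.2.1⟩, g.2.1, (hfk _).mpr g.2.2⟩
        left_inv := fun _ => rfl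
        right_inv := fun _ => rfl }
    rw [hk, hB] at e
    have h4' : Nat.card (B.map f) ≤ 4 := SplitData.card_sq_le (hf ▸ Subgroup.map_le_range f B) (by
      rintro _ ⟨b, hb, rfl⟩
      rw [← map_mul, show b * b = 1 from Subtype.ext (hsq _ hb), map_one]) ⟨_, e.symm⟩
    by_contra hlt
    have := Nat.mul_le_mul h4' (Nat.le_of_lt_succ (not_le.mp hlt) : _ ≤ 3)
    omega
  refine ⟨le_antisymm hup hlow, ?_⟩
  have heq : A ⊓ E = E ⊓ cen a := Subgroup.eq_of_le_of_card_ge hle (by rw [h4]; exact hlow)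
  intro e he
  refine Subgroup.mem_normalizer_iff_map_conj_eq.mpr (Subgroup.eq_of_le_of_card_ge ?_
    (by rw [Subgroup.card_map_of_injective (MulEquiv.injective _)]))
  rintro _ ⟨b, hb, rfl⟩
  show e * b * e⁻¹ ∈ A
  by_cases hbE : b ∈ E
  · rw [(L.core_abelian ht e he b hbE).eq, mul_inv_cancel_right]; exact hb
  have hbe : b * e * b⁻¹ ∈ E := Loc.core_conj_mem L (hA hb) he
  have hm : e * (b * e * b⁻¹) ∈ E ⊓ cen a := by
    have h' : Nat.card ↥(A ⊓ E) ≤ Nat.card ↥(E ⊓ cen b) := Nat.le_of_dvd Nat.card_pos (Subgroup.card_dvd_of_le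
      fun c hc => ⟨hc.2, mem_cen.mpr (hab b hb c hc.1)⟩)
    have hb4 := L.card_fix_invol ht (hA hb) hbE (by rw [hsq b hb]; exact one_mem _)
    have hbeq : A ⊓ E = E ⊓ cen b := Subgroup.eq_of_le_of_card_ge
      (fun c hc => ⟨hc.2, mem_cen.mpr (hab b hb c hc.1)⟩) (by rw [hb4]; exact hlow)
    rw [← heq, hbeq]
    refine ⟨mul_mem he hbe, mem_cen.mpr (show Commute b _ from mul_inv_eq_iff_eq_mul.mp ?_)⟩
    calc b * (e * (b * e * b⁻¹)) * b⁻¹ = (b * e * b⁻¹) * ((b * b) * e * (b * b)⁻¹) := by group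
      _ = (b * e * b⁻¹) * e := by rw [hsq b hb]; group
      _ = _ := (L.core_abelian ht _ hbe e he).eq
  rw [← heq] at hm
  have hbi : b⁻¹ = b := inv_eq_of_mul_eq_one_right (hsq b hb)
  have hei : e⁻¹ = e := inv_eq_of_mul_eq_one_right (L.core_sq ht e he)
  have e1 : e * b * e⁻¹ = e * (b * e * b⁻¹) * b := by rw [hei]; group
  rw [e1]
  exact mul_mem hm.1 hb

end Loc

end Cfsg.Agent.MTwentyThree.Nse
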