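import Cfsg.Agent.Lib.Spor.MTwentyThreeNse.Counts
import Mathlib.GroupTheory.GroupAction.ConjAct

/-!
The element numbers from the set of their values.
-/

set_option autoImplicit false
set_option linter.unusedSectionVars false
set_option linter.style.haveILetI false
set_option maxHeartbeats 800000

namespace Cfsg.Agent.MTwentyThree.Nse

open Cfsg.Agent.Solv

/-- The values. -/
def vals : List ℕ := [1, 3795, 56672, 318780, 680064, 850080, 887040, 1275120, 1360128, 1457280, 1854720]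

/-- The set of values of the element numbers. -/
def HasVals (G : Type*) [Group G] : Prop :=
  {c : ℕ | 0 < c ∧ ∃ n : ℕ, c = Nat.card {g : G // orderOf g = n}} = {c | c ∈ vals}

theorem prime_value : ∀ q ∈ [(3, 56672), (5, 680064), (7, 1457280), (11, 1854720), (23, 887040)],
    ∀ v ∈ vals, v % (q.1 - 1) = 0 → (1 + v) % q.1 = 0 → v = q.2 := by decide +kernel

theorem patterns : ∀ b₁ b₂ b₃ : Bool,
    128 ∣ 1 + 3795 + (if b₁ then 318780 else 0) + (if b₂ then 850080 else 0) + (if b₃ then 1275120 else 0) →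
      b₁ = true ∧ b₂ = false ∧ b₃ = true := by decide +kernel

theorem cube_one_five : ∀ a : ZMod 5, a ^ 3 = 1 → a = 1 := by decide +kernel

theorem div128 : ∀ n : Fin 129, (n : ℕ) ∣ 128 → 2 < (n : ℕ) → 4 ∣ (n : ℕ) := by decide +kernel

theorem div1152 : ∀ n : Fin 1153, (n : ℕ) ∣ 1152 → ¬ (n : ℕ) ∣ 128 → (n : ℕ) ≠ 3 →
    6 ∣ (n : ℕ) ∨ 9 ∣ (n : ℕ) := by decide +kernel

section Transfer

variable {G : Type*} [Group G] [Finite G]

theorem val_mem (h : HasVals G) {n : ℕ} (hn : CV.cnt G n ≠ 0) : CV.cnt G n ∈ vals := by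
  have : CV.cnt G n ∈ {c : ℕ | 0 < c ∧ ∃ n : ℕ, c = Nat.card {g : G // orderOf g = n}} :=
    ⟨Nat.pos_of_ne_zero hn, n, rfl⟩
  rwa [h] at this

theorem val_attained (h : HasVals G) {v : ℕ} (hv : v ∈ vals) : ∃ n, CV.cnt G n = v := by
  have : v ∈ {c : ℕ | 0 < c ∧ ∃ n : ℕ, c = Nat.card {g : G // orderOf g = n}} := h ▸ hv
  obtain ⟨-, n, hn⟩ := this
  exact ⟨n, hn.symm⟩

theorem prime_cnt (hcard : Nat.card G = 10200960) (h : HasVals G) {p v : ℕ} [hp : Fact p.Prime]
    (hq : (p, v) ∈ [(3, 56672), (5, 680064), (7, 1457280), (11, 1854720), (23, 887040)]) (hd : p ∣ 10200960) :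
    CV.cnt G p = v := by
  have hd' : p ∣ Nat.card G := hcard ▸ hd
  refine prime_value _ hq _ (val_mem h (CV.cnt_prime_ne_zero hd')) ?_ ?_
  · exact Nat.mod_eq_zero_of_dvd (Nat.totient_prime hp.out ▸ CV.totient_dvd_cnt p)
  · have := CV.key p hd'
    rw [hp.out.sum_divisors, CV.cnt_one, add_comm] at this
    exact Nat.mod_eq_zero_of_dvd this

theorem two_le_commCnt {x : G} {q : ℕ} [hq : Fact q.Prime] (h2 : q ≠ 2)
    (hd : q ∣ Nat.card (Subgroup.centralizer ({x} : Set G))) : 2 ≤ commCnt x q := by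
  obtain ⟨y, hy, hc⟩ := exists_comm hd
  haveI := Fintype.ofFinite G
  classical
  rw [commCnt, Nat.card_eq_fintype_card]
  refine Fintype.one_lt_card_iff.mpr ⟨⟨y, hc, hy⟩, ⟨y⁻¹, hc.inv_right, by rw [orderOf_inv, hy]⟩, fun e => ?_⟩
  have h1 : y = y⁻¹ := congrArg Subtype.val e
  have : y ^ 2 = 1 := by rw [pow_two]; exact mul_eq_one_iff_inv_eq.mpr h1.symm
  have := orderOf_dvd_of_pow_eq_one this
  rw [hy] at this
  exact h2 ((Nat.prime_dvd_prime_iff_eq hq.out Nat.prime_two).mp this)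

theorem order_dvd_cent {g : G} {p : ℕ} (hp : 0 < p) (hd : p ∣ orderOf g) :
    ∃ x : G, orderOf x = p ∧ orderOf g ∣ Nat.card (Subgroup.centralizer ({x} : Set G)) := by
  refine ⟨g ^ (orderOf g / p), orderOf_pow_orderOf_div (orderOf_pos g).ne' hd, ?_⟩
  have hm : g ∈ Subgroup.centralizer ({g ^ (orderOf g / p)} : Set G) :=
    Subgroup.mem_centralizer_singleton_iff.mpr ((Commute.refl g).pow_right _).eq
  have := orderOf_dvd_natCard (⟨g, hm⟩ : Subgroup.centralizer ({g ^ (orderOf g / p)} : Set G))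
  rwa [Subgroup.orderOf_mk] at this

theorem exists_invol_comm (h2 : CV.cnt G 2 = 3795) {x : G} (hx : orderOf x = 7) :
    2 ∣ Nat.card (Subgroup.centralizer ({x} : Set G)) := by
  classical
  haveI : Fact (Nat.Prime 7) := ⟨by norm_num⟩
  let Z := Subgroup.zpowers x
  letI : MulAction Z {g : G // orderOf g = 2} :=
    { smul := fun z g => ⟨(z : G) * g.1 * (z : G)⁻¹, by
        rw [show (z : G) * g.1 * (z : G)⁻¹ = MulAut.conj (z : G) g.1 from rfl, MulEquiv.orderOf_eq, g.2]⟩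
      one_smul := fun g => Subtype.ext (show ((1 : Z) : G) * g.1 * ((1 : Z) : G)⁻¹ = g.1 by simp)
      mul_smul := fun a b g => Subtype.ext (show ((a * b : Z) : G) * g.1 * ((a * b : Z) : G)⁻¹ =
        (a : G) * ((b : G) * g.1 * (b : G)⁻¹) * (a : G)⁻¹ by simp [mul_assoc]) }
  have hP : IsPGroup 7 Z := IsPGroup.of_card (n := 1) (by rw [Nat.card_zpowers, hx, pow_one])
  have hmod := hP.card_modEq_card_fixedPoints {g : G // orderOf g = 2}
  rw [show Nat.card {g : G // orderOf g = 2} = 3795 from h2] at hmod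
  have hne : Nat.card (MulAction.fixedPoints Z {g : G // orderOf g = 2}) ≠ 0 := fun e => by
    rw [e] at hmod
    exact absurd hmod (by decide)
  obtain ⟨⟨⟨g, hg⟩, hfix⟩⟩ := (Nat.card_ne_zero.mp hne).1
  have e : x * g * x⁻¹ = g := congrArg Subtype.val (hfix ⟨x, Subgroup.mem_zpowers x⟩)
  have := orderOf_dvd_natCard (⟨g, Subgroup.mem_centralizer_singleton_iff.mpr
    (mul_inv_eq_iff_eq_mul.mp e).symm⟩ : Subgroup.centralizer ({x} : Set G))
  rwa [Subgroup.orderOf_mk, hg] at this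

theorem mul_le_max (h : HasVals G) {p k a j : ℕ} [Fact p.Prime] (hp2 : ¬ p ^ 2 ∣ Nat.card G) (hk : ¬ p ∣ k)
    {x : G} (hx : orderOf x = p) (ha : CV.cnt G p = a) (hj : commCnt x k = j) : a * j ≤ 1854720 := by
  have e := cnt_mul hp2 hk hx
  rw [ha, hj] at e
  rcases Nat.eq_zero_or_pos (a * j) with h0 | h0
  · omega
  · have hm := val_mem h (n := p * k) (by omega)
    rw [e] at hm
    exact (by decide +kernel : ∀ v ∈ vals, v ≤ 1854720) _ hm

/-- The numbers of elements of prime order. -/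
structure Primes (G : Type*) [Group G] : Prop where
  c2 : CV.cnt G 2 = 3795
  c3 : CV.cnt G 3 = 56672
  c5 : CV.cnt G 5 = 680064
  c7 : CV.cnt G 7 = 1457280
  c11 : CV.cnt G 11 = 1854720
  c23 : CV.cnt G 23 = 887040

theorem np (hcard : Nat.card G = 10200960) (p : ℕ) (h : ¬ p ^ 2 ∣ 10200960) : ¬ p ^ 2 ∣ Nat.card G := hcard ▸ h

theorem primes (hcard : Nat.card G = 10200960) (h : HasVals G) : Primes G := by
  haveI : Fact (Nat.Prime 2) := ⟨Nat.prime_two⟩
  haveI : Fact (Nat.Prime 3) := ⟨by norm_num⟩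
  haveI : Fact (Nat.Prime 5) := ⟨by norm_num⟩
  haveI : Fact (Nat.Prime 7) := ⟨by norm_num⟩
  haveI : Fact (Nat.Prime 11) := ⟨by norm_num⟩
  haveI : Fact (Nat.Prime 23) := ⟨by norm_num⟩
  have c3 : CV.cnt G 3 = 56672 := prime_cnt hcard h (by simp) (by norm_num)
  have c5 : CV.cnt G 5 = 680064 := prime_cnt hcard h (by simp) (by norm_num)
  have c7 : CV.cnt G 7 = 1457280 := prime_cnt hcard h (by simp) (by norm_num)
  have c11 : CV.cnt G 11 = 1854720 := prime_cnt hcard h (by simp) (by norm_num)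
  have c23 : CV.cnt G 23 = 887040 := prime_cnt hcard h (by simp) (by norm_num)
  have c2 : CV.cnt G 2 = 3795 := by
    obtain ⟨n, hn⟩ := val_attained h (v := 3795) (by decide)
    have hodd : n ≤ 2 := by
      by_contra hlt
      have h2 := (Nat.totient_even (by omega : 2 < n)).two_dvd.trans (CV.totient_dvd_cnt (G := G) n)
      rw [hn] at h2
      norm_num at h2
    rcases (by omega : n = 0 ∨ n = 1 ∨ n = 2) with rfl | rfl | rfl
    · obtain ⟨g, hg⟩ := CV.cnt_ne_zero.mp (by omega : CV.cnt G 0 ≠ 0)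
      exact absurd hg (orderOf_pos g).ne'
    · rw [CV.cnt_one] at hn; omega
    · exact hn
  exact ⟨c2, c3, c5, c7, c11, c23⟩

theorem norm (hcard : Nat.card G = 10200960) {p v m : ℕ} [Fact p.Prime] {x : G} (hp2 : ¬ p ^ 2 ∣ 10200960)
    (hx : orderOf x = p) (hv : CV.cnt G p = v) (hpos : 0 < v) (he : v * m = (p - 1) * 10200960) :
    Nat.card (Subgroup.centralizer ({x} : Set G)) ∣ m ∧ p ∣ Nat.card (Subgroup.centralizer ({x} : Set G)) ∧
      Nat.card (Subgroup.normalizer ((Subgroup.zpowers x : Subgroup G) : Set G)) = m := by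
  have e := cnt_mul_normalizer (np hcard p hp2) hx
  rw [hv, hcard, ← he] at e
  have e' := Nat.eq_of_mul_eq_mul_left hpos e
  refine ⟨e' ▸ Subgroup.card_dvd_of_le (centralizer_le_normalizer x), ?_, e'⟩
  have := orderOf_dvd_natCard (⟨x, Subgroup.mem_centralizer_singleton_iff.mpr rfl⟩ :
    Subgroup.centralizer ({x} : Set G))
  rwa [Subgroup.orderOf_mk, hx] at this

theorem cent23 (hcard : Nat.card G = 10200960) (h : HasVals G) (P : Primes G) :
    ∀ x : G, orderOf x = 23 → Nat.card (Subgroup.centralizer ({x} : Set G)) = 23 := by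
  haveI : Fact (Nat.Prime 2) := ⟨Nat.prime_two⟩
  haveI : Fact (Nat.Prime 3) := ⟨by norm_num⟩
  haveI : Fact (Nat.Prime 5) := ⟨by norm_num⟩
  haveI : Fact (Nat.Prime 7) := ⟨by norm_num⟩
  haveI : Fact (Nat.Prime 11) := ⟨by norm_num⟩
  haveI : Fact (Nat.Prime 23) := ⟨by norm_num⟩
  have C23 : ∀ x : G, orderOf x = 23 → Nat.card (Subgroup.centralizer ({x} : Set G)) = 23 := fun x hx => by
    obtain ⟨hd, hp, -⟩ := norm hcard (m := 253) (by norm_num) hx P.c23 (by norm_num) (by norm_num)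
    have h11 : ¬ 11 ∣ Nat.card (Subgroup.centralizer ({x} : Set G)) := fun hd' => by
      have hj := two_le_commCnt (by norm_num) hd'
      have e := mul_le_max h (np hcard 23 (by norm_num)) (k := 11) (by norm_num) hx P.c23 rfl
      have e2 := cnt_mul (np hcard 23 (by norm_num)) (k := 11) (by norm_num) hx
      have h2 : commCnt x 11 = 2 := by omega
      rw [P.c23, h2] at e2
      have hm := val_mem h (n := 23 * 11) (by omega)
      rw [e2] at hm
      exact absurd hm (by decide)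
    have hle := Nat.le_of_dvd (by norm_num) hd
    obtain ⟨q, hq⟩ := hp
    rw [hq] at hd h11 hle ⊢
    have : q ∣ 11 := by rwa [show (253 : ℕ) = 23 * 11 from rfl, Nat.mul_dvd_mul_iff_left (by norm_num)] at hd
    rcases (Nat.dvd_prime (by norm_num)).mp this with rfl | rfl <;> omega
  exact C23

theorem cent11 (hcard : Nat.card G = 10200960) (h : HasVals G) (P : Primes G) :
    ∀ x : G, orderOf x = 11 → Nat.card (Subgroup.centralizer ({x} : Set G)) = 11 := by
  haveI : Fact (Nat.Prime 2) := ⟨Nat.prime_two⟩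
  haveI : Fact (Nat.Prime 3) := ⟨by norm_num⟩
  haveI : Fact (Nat.Prime 5) := ⟨by norm_num⟩
  haveI : Fact (Nat.Prime 7) := ⟨by norm_num⟩
  haveI : Fact (Nat.Prime 11) := ⟨by norm_num⟩
  haveI : Fact (Nat.Prime 23) := ⟨by norm_num⟩
  have C11 : ∀ x : G, orderOf x = 11 → Nat.card (Subgroup.centralizer ({x} : Set G)) = 11 := fun x hx => by
    obtain ⟨hd, hp, -⟩ := norm hcard (m := 55) (by norm_num) hx P.c11 (by norm_num) (by norm_num)
    have h5 : ¬ 5 ∣ Nat.card (Subgroup.centralizer ({x} : Set G)) := fun hd' => by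
      have hj := two_le_commCnt (by norm_num) hd'
      have e := mul_le_max h (np hcard 11 (by norm_num)) (k := 5) (by norm_num) hx P.c11 rfl
      omega
    obtain ⟨q, hq⟩ := hp
    rw [hq] at hd h5 ⊢
    have : q ∣ 5 := by rwa [show (55 : ℕ) = 11 * 5 from rfl, Nat.mul_dvd_mul_iff_left (by norm_num)] at hd
    rcases (Nat.dvd_prime (by norm_num)).mp this with rfl | rfl <;> omega
  exact C11

theorem cent7 (hcard : Nat.card G = 10200960) (h : HasVals G) (P : Primes G) :
    ∀ x : G, orderOf x = 7 → Nat.card (Subgroup.centralizer ({x} : Set G)) = 14 := by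
  haveI : Fact (Nat.Prime 2) := ⟨Nat.prime_two⟩
  haveI : Fact (Nat.Prime 3) := ⟨by norm_num⟩
  haveI : Fact (Nat.Prime 5) := ⟨by norm_num⟩
  haveI : Fact (Nat.Prime 7) := ⟨by norm_num⟩
  haveI : Fact (Nat.Prime 11) := ⟨by norm_num⟩
  haveI : Fact (Nat.Prime 23) := ⟨by norm_num⟩
  have C7 : ∀ x : G, orderOf x = 7 → Nat.card (Subgroup.centralizer ({x} : Set G)) = 14 := fun x hx => by
    obtain ⟨hd, hp, -⟩ := norm hcard (m := 42) (by norm_num) hx P.c7 (by norm_num) (by norm_num)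
    have h3 : ¬ 3 ∣ Nat.card (Subgroup.centralizer ({x} : Set G)) := fun hd' => by
      have hj := two_le_commCnt (by norm_num) hd'
      have e := mul_le_max h (np hcard 7 (by norm_num)) (k := 3) (by norm_num) hx P.c7 rfl
      omega
    have h2 := exists_invol_comm P.c2 hx
    have hle := Nat.le_of_dvd (by norm_num) hd
    generalize Nat.card (Subgroup.centralizer ({x} : Set G)) = c at *
    obtain ⟨q, rfl⟩ := hp
    have : q ≤ 6 := by omega
    interval_cases q <;> omega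
  exact C7

theorem cnt14 (hcard : Nat.card G = 10200960) (h : HasVals G) (P : Primes G) :
    CV.cnt G 14 = 1457280 := by
  haveI : Fact (Nat.Prime 2) := ⟨Nat.prime_two⟩
  haveI : Fact (Nat.Prime 3) := ⟨by norm_num⟩
  haveI : Fact (Nat.Prime 5) := ⟨by norm_num⟩
  haveI : Fact (Nat.Prime 7) := ⟨by norm_num⟩
  haveI : Fact (Nat.Prime 11) := ⟨by norm_num⟩
  haveI : Fact (Nat.Prime 23) := ⟨by norm_num⟩
  obtain ⟨x7, hx7⟩ := exists_prime_orderOf_dvd_card' (G := G) 7 (by rw [hcard]; norm_num)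
  have c14 : CV.cnt G 14 = 1457280 := by
    have e := cnt_mul (np hcard 7 (by norm_num)) (k := 2) (by norm_num) hx7
    rw [show (7 * 2 : ℕ) = 14 from rfl] at e
    obtain ⟨y, hy, hc⟩ := exists_comm (p := 2) (x := x7) (by rw [cent7 hcard h P x7 hx7]; norm_num)
    have hj : 0 < commCnt x7 2 := by
      haveI : Nonempty {v : G // Commute x7 v ∧ orderOf v = 2} := ⟨⟨y, hc, hy⟩⟩
      exact Nat.card_pos
    have hle := mul_le_max h (np hcard 7 (by norm_num)) (k := 2) (by norm_num) hx7 P.c7 rfl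
    rw [P.c7] at e
    omega
  exact c14

theorem five_data (hcard : Nat.card G = 10200960) (h : HasVals G) (P : Primes G) :
    ∀ x : G, orderOf x = 5 → 3 ∣ Nat.card (Subgroup.centralizer ({x} : Set G)) := by
  haveI : Fact (Nat.Prime 2) := ⟨Nat.prime_two⟩
  haveI : Fact (Nat.Prime 3) := ⟨by norm_num⟩
  haveI : Fact (Nat.Prime 5) := ⟨by norm_num⟩
  haveI : Fact (Nat.Prime 7) := ⟨by norm_num⟩
  haveI : Fact (Nat.Prime 11) := ⟨by norm_num⟩
  haveI : Fact (Nat.Prime 23) := ⟨by norm_num⟩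
  have five_data : ∀ x : G, orderOf x = 5 → 3 ∣ Nat.card (Subgroup.centralizer ({x} : Set G)) := fun x hx => by
    obtain ⟨-, -, hN⟩ := norm hcard (m := 60) (by norm_num) hx P.c5 (by norm_num) (by norm_num)
    set N := Subgroup.normalizer ((Subgroup.zpowers x : Subgroup G) : Set G)
    obtain ⟨y, hy⟩ := exists_prime_orderOf_dvd_card' (G := N) 3 (by rw [hN]; norm_num)
    obtain ⟨i, hi⟩ := (Subgroup.mem_normalizer_iff.mp y.2 x).mp (Subgroup.mem_zpowers x)
    have hi' : x ^ i = MulAut.conj (y : G) x := hi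
    have step : ∀ k : ℕ, ((MulAut.conj (y : G)) ^ k) x = x ^ (i ^ k) := by
      intro k
      induction k with
      | zero => simp
      | succ k ih =>
        show (MulAut.conj (y : G) ^ k) (MulAut.conj (y : G) x) = _
        rw [← hi', map_zpow, ih, ← zpow_mul, pow_succ]
    have h3 : x ^ (i ^ 3) = x := by
      rw [← step 3, ← map_pow, show (y : G) ^ 3 = 1 by
        rw [← hy]; exact_mod_cast congrArg Subtype.val (pow_orderOf_eq_one y)]
      simp
    have hd1 : (5 : ℤ) ∣ i ^ 3 - 1 := by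
      rw [show (5 : ℤ) = ((5 : ℕ) : ℤ) from rfl, ← hx]
      refine orderOf_dvd_iff_zpow_eq_one.mpr ?_
      rw [zpow_sub, zpow_one, h3, mul_inv_cancel]
    have hd2 : (5 : ℤ) ∣ i - 1 := by
      have hz : ((i : ZMod 5)) ^ 3 = 1 := by
        have := (ZMod.intCast_zmod_eq_zero_iff_dvd (i ^ 3 - 1) 5).mpr hd1
        push_cast at this
        linear_combination this
      have key := cube_one_five
      refine (ZMod.intCast_zmod_eq_zero_iff_dvd (i - 1) 5).mp ?_
      push_cast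
      rw [key _ hz, sub_self]
    have hfix : MulAut.conj (y : G) x = x := by
      obtain ⟨d, hd⟩ := hd2
      rw [← hi', show i = 1 + 5 * d by linarith, zpow_add, zpow_one, zpow_mul,
        show (5 : ℤ) = ((5 : ℕ) : ℤ) from rfl, zpow_natCast, ← hx, pow_orderOf_eq_one, one_zpow, mul_one]
    have := orderOf_dvd_natCard (⟨(y : G), Subgroup.mem_centralizer_singleton_iff.mpr
      (mul_inv_eq_iff_eq_mul.mp hfix)⟩ : Subgroup.centralizer ({x} : Set G))
    rwa [Subgroup.orderOf_mk, Subgroup.orderOf_coe, hy] at this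
  exact five_data

theorem cnt15 (hcard : Nat.card G = 10200960) (h : HasVals G) (P : Primes G) :
    CV.cnt G 15 = 1360128 := by
  haveI : Fact (Nat.Prime 2) := ⟨Nat.prime_two⟩
  haveI : Fact (Nat.Prime 3) := ⟨by norm_num⟩
  haveI : Fact (Nat.Prime 5) := ⟨by norm_num⟩
  haveI : Fact (Nat.Prime 7) := ⟨by norm_num⟩
  haveI : Fact (Nat.Prime 11) := ⟨by norm_num⟩
  haveI : Fact (Nat.Prime 23) := ⟨by norm_num⟩
  obtain ⟨x5, hx5⟩ := exists_prime_orderOf_dvd_card' (G := G) 5 (by rw [hcard]; norm_num)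
  have c15 : CV.cnt G 15 = 1360128 := by
    have e := cnt_mul (np hcard 5 (by norm_num)) (k := 3) (by norm_num) hx5
    rw [show (5 * 3 : ℕ) = 15 from rfl] at e
    have hj := two_le_commCnt (by norm_num) (five_data hcard h P x5 hx5)
    have hle := mul_le_max h (np hcard 5 (by norm_num)) (k := 3) (by norm_num) hx5 P.c5 rfl
    rw [P.c5] at e
    have h2 : commCnt x5 3 = 2 := by omega
    rw [h2] at e
    exact e
  exact c15

/-- The nine known orders and three others. -/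
def ords (n₁ n₂ n₃ : ℕ) : Finset ℕ := {1, 2, 3, 5, 7, 11, 23, 14, 15, n₁, n₂, n₃}

/-- The three other orders. -/
structure Three (G : Type*) [Group G] (n₁ n₂ n₃ : ℕ) : Prop where
  e₁ : CV.cnt G n₁ = 318780
  e₂ : CV.cnt G n₂ = 850080
  e₃ : CV.cnt G n₃ = 1275120
  d₁ : n₁ ∉ ({1, 2, 3, 5, 7, 11, 23, 14, 15} : Finset ℕ)
  d₂ : n₂ ∉ ({1, 2, 3, 5, 7, 11, 23, 14, 15} : Finset ℕ)
  d₃ : n₃ ∉ ({1, 2, 3, 5, 7, 11, 23, 14, 15} : Finset ℕ)
  all : ∀ g : G, orderOf g ∈ ords n₁ n₂ n₃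

theorem three_orders (hcard : Nat.card G = 10200960) (h : HasVals G) (P : Primes G) :
    ∃ n₁ n₂ n₃, Three G n₁ n₂ n₃ := by
  obtain ⟨n₁, hn₁⟩ := val_attained h (v := 318780) (by decide)
  obtain ⟨n₂, hn₂⟩ := val_attained h (v := 850080) (by decide)
  obtain ⟨n₃, hn₃⟩ := val_attained h (v := 1275120) (by decide)
  have c1 : CV.cnt G 1 = 1 := CV.cnt_one
  obtain ⟨c2, c3, c5, c7, c11, c23⟩ := P
  have c14 := cnt14 hcard h ⟨c2, c3, c5, c7, c11, c23⟩
  have c15 := cnt15 hcard h ⟨c2, c3, c5, c7, c11, c23⟩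
  -- no other orders
  let K0 : Finset ℕ := ords n₁ n₂ n₃
  have d1 : n₁ ∉ ({1, 2, 3, 5, 7, 11, 23, 14, 15} : Finset ℕ) := fun hm => by
    simp only [Finset.mem_insert, Finset.mem_singleton] at hm
    rcases hm with rfl | rfl | rfl | rfl | rfl | rfl | rfl | rfl | rfl <;> omega
  have d2 : n₂ ∉ ({1, 2, 3, 5, 7, 11, 23, 14, 15} : Finset ℕ) := fun hm => by
    simp only [Finset.mem_insert, Finset.mem_singleton] at hm
    rcases hm with rfl | rfl | rfl | rfl | rfl | rfl | rfl | rfl | rfl <;> omega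
  have d3 : n₃ ∉ ({1, 2, 3, 5, 7, 11, 23, 14, 15} : Finset ℕ) := fun hm => by
    simp only [Finset.mem_insert, Finset.mem_singleton] at hm
    rcases hm with rfl | rfl | rfl | rfl | rfl | rfl | rfl | rfl | rfl <;> omega
  have e12 : n₁ ≠ n₂ := fun e => by rw [e] at hn₁; omega
  have e13 : n₁ ≠ n₃ := fun e => by rw [e] at hn₁; omega
  have e23 : n₂ ≠ n₃ := fun e => by rw [e] at hn₂; omega
  have hsum : ∑ d ∈ K0, CV.cnt G d = 10200960 := by
    simp only [Finset.mem_insert, Finset.mem_singleton, not_or] at d1 d2 d3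
    simp only [K0, ords]
    repeat rw [Finset.sum_insert (by simp only [Finset.mem_insert, Finset.mem_singleton]; omega)]
    rw [Finset.sum_singleton]
    omega
  have hnone : ∀ g : G, orderOf g ∈ K0 := fun g => by
    by_contra hg
    have h1 := CV.sum_cnt_le (G := G) (insert (orderOf g) K0)
    rw [Finset.sum_insert hg, hsum, hcard] at h1
    have := CV.cnt_ne_zero.mpr (⟨g, rfl⟩ : ∃ a : G, orderOf a = orderOf g)
    omega
  exact ⟨n₁, n₂, n₃, hn₁, hn₂, hn₃, d1, d2, d3, hnone⟩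

theorem five_odd (hcard : Nat.card G = 10200960) (h : HasVals G) (P : Primes G) {n₁ n₂ n₃ : ℕ} (T : Three G n₁ n₂ n₃) {x : G} (hx : orderOf x = 5) :
    ¬ 2 ∣ Nat.card (Subgroup.centralizer ({x} : Set G)) := by
  haveI : Fact (Nat.Prime 2) := ⟨Nat.prime_two⟩
  haveI : Fact (Nat.Prime 5) := ⟨by norm_num⟩
  intro hd2
  obtain ⟨y, hy, hc⟩ := exists_comm hd2
  have hj : 0 < commCnt x 2 := by
    haveI : Nonempty {v : G // Commute x v ∧ orderOf v = 2} := ⟨⟨y, hc, hy⟩⟩
    exact Nat.card_pos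
  have e := cnt_mul (np hcard 5 (by norm_num)) (k := 2) (by norm_num) hx
  rw [P.c5, show (5 * 2 : ℕ) = 10 from rfl] at e
  obtain ⟨g, hg⟩ := CV.cnt_ne_zero.mp (by omega : CV.cnt G 10 ≠ 0)
  have hm := T.all g
  rw [hg] at hm
  simp only [ords, Finset.mem_insert, Finset.mem_singleton] at hm
  have := T.e₁; have := T.e₂; have := T.e₃
  rcases hm with h' | h' | h' | h' | h' | h' | h' | h' | h' | h' | h' | h' <;>
    first
      | omega
      | (subst h'; omega)

theorem small_order (hcard : Nat.card G = 10200960) (h : HasVals G) (P : Primes G) {n₁ n₂ n₃ : ℕ} (T : Three G n₁ n₂ n₃) {n : ℕ} {g : G}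
    (hg : orderOf g = n) (hn : n ∉ ({1, 2, 3, 5, 7, 11, 23, 14, 15} : Finset ℕ)) : n ∣ 1152 := by
  haveI : Fact (Nat.Prime 2) := ⟨Nat.prime_two⟩
  haveI : Fact (Nat.Prime 3) := ⟨by norm_num⟩
  haveI : Fact (Nat.Prime 5) := ⟨by norm_num⟩
  haveI : Fact (Nat.Prime 7) := ⟨by norm_num⟩
  haveI : Fact (Nat.Prime 11) := ⟨by norm_num⟩
  haveI : Fact (Nat.Prime 23) := ⟨by norm_num⟩
  have hd : n ∣ 10200960 := hg ▸ hcard ▸ orderOf_dvd_natCard g
  simp only [Finset.mem_insert, Finset.mem_singleton, not_or] at hn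
  have no23 : ¬ 23 ∣ n := fun hp => by
    obtain ⟨x, hx, hxd⟩ := order_dvd_cent (g := g) (p := 23) (by norm_num) (hg ▸ hp)
    rw [cent23 hcard h P x hx, hg] at hxd
    rcases (Nat.dvd_prime (by norm_num)).mp hxd with e | e <;> omega
  have no11 : ¬ 11 ∣ n := fun hp => by
    obtain ⟨x, hx, hxd⟩ := order_dvd_cent (g := g) (p := 11) (by norm_num) (hg ▸ hp)
    rw [cent11 hcard h P x hx, hg] at hxd
    rcases (Nat.dvd_prime (by norm_num)).mp hxd with e | e <;> omega
  have no7 : ¬ 7 ∣ n := fun hp => by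
    obtain ⟨x, hx, hxd⟩ := order_dvd_cent (g := g) (p := 7) (by norm_num) (hg ▸ hp)
    rw [cent7 hcard h P x hx, hg] at hxd
    have := Nat.le_of_dvd (by norm_num) hxd
    interval_cases n <;> omega
  have no5 : ¬ 5 ∣ n := fun hp => by
    obtain ⟨x, hx, hxd⟩ := order_dvd_cent (g := g) (p := 5) (by norm_num) (hg ▸ hp)
    obtain ⟨hCd, h5d, -⟩ := norm hcard (m := 60) (by norm_num) hx P.c5 (by norm_num) (by norm_num)
    have h2 := five_odd hcard h P T hx
    have h3 := five_data hcard h P x hx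
    have hle := Nat.le_of_dvd (by norm_num) hCd
    generalize Nat.card (Subgroup.centralizer ({x} : Set G)) = c at *
    obtain ⟨q, rfl⟩ := Nat.Coprime.mul_dvd_of_dvd_of_dvd (by norm_num) h3 h5d
    have : q ≤ 4 := by omega
    obtain rfl : q = 1 := by interval_cases q <;> first | rfl | (revert h2 hCd; norm_num)
    rw [hg] at hxd
    have := Nat.le_of_dvd (by norm_num) hxd
    interval_cases n <;> omega
  have hco : n.Coprime (5 * 7 * 11 * 23) := by
    refine Nat.Coprime.mul_right (Nat.Coprime.mul_right (Nat.Coprime.mul_right ?_ ?_) ?_) ?_ <;>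
      exact ((Fact.out : Nat.Prime _).coprime_iff_not_dvd.mpr (by assumption)).symm
  exact hco.dvd_of_dvd_mul_right (by norm_num; exact hd)

theorem two_pattern (hcard : Nat.card G = 10200960) (h : HasVals G) (P : Primes G) {n₁ n₂ n₃ : ℕ} (T : Three G n₁ n₂ n₃)
    (e₁₂ : n₁ ≠ n₂) (e₁₃ : n₁ ≠ n₃) (e₂₃ : n₂ ≠ n₃) : n₁ ∣ 128 ∧ ¬ n₂ ∣ 128 ∧ n₃ ∣ 128 := by
  have d1 := T.d₁; have d2 := T.d₂; have d3 := T.d₃
  simp only [Finset.mem_insert, Finset.mem_singleton, not_or] at d1 d2 d3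
  have frob : 128 ∣ 1 + 3795 + (if (decide (n₁ ∣ 128)) = true then 318780 else 0) +
      (if (decide (n₂ ∣ 128)) = true then 850080 else 0) + (if (decide (n₃ ∣ 128)) = true then 1275120 else 0) := by
    have hk := CV.key (G := G) 128 (by rw [hcard]; norm_num)
    have e1 : ∑ d ∈ Nat.divisors 128, CV.cnt G d = ∑ d ∈ (ords n₁ n₂ n₃).filter (· ∣ 128), CV.cnt G d := by
      refine (Finset.sum_subset ?_ ?_).symm
      · intro d hd
        exact Nat.mem_divisors.mpr ⟨(Finset.mem_filter.mp hd).2, by norm_num⟩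
      · intro d hd hn
        by_contra hne
        obtain ⟨g, rfl⟩ := CV.cnt_ne_zero.mp hne
        exact hn (Finset.mem_filter.mpr ⟨T.all g, Nat.dvd_of_mem_divisors hd⟩)
    rw [e1, Finset.sum_filter] at hk
    simp only [ords] at hk
    repeat rw [Finset.sum_insert (by simp only [Finset.mem_insert, Finset.mem_singleton]; omega)] at hk
    rw [Finset.sum_singleton, T.e₁, T.e₂, T.e₃, CV.cnt_one, P.c2] at hk
    simp only [show ¬ (3 : ℕ) ∣ 128 by norm_num, show ¬ (5 : ℕ) ∣ 128 by norm_num, show ¬ (7 : ℕ) ∣ 128 by norm_num,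
      show ¬ (11 : ℕ) ∣ 128 by norm_num, show ¬ (23 : ℕ) ∣ 128 by norm_num, show ¬ (14 : ℕ) ∣ 128 by norm_num,
      show ¬ (15 : ℕ) ∣ 128 by norm_num, show (1 : ℕ) ∣ 128 by norm_num, show (2 : ℕ) ∣ 128 by norm_num,
      if_true, if_false, zero_add] at hk
    simp only [decide_eq_true_eq]
    convert hk using 1
    ring
  obtain ⟨p1, p2, p3⟩ := patterns _ _ _ frob
  simp only [decide_eq_true_eq, decide_eq_false_iff_not] at p1 p2 p3
  exact ⟨p1, p2, p3⟩

/-- The element numbers from their values. -/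
theorem counts_of_values (hcard : Nat.card G = 10200960) (h : HasVals G) : Counts G := by
  have P := primes hcard h
  obtain ⟨n₁, n₂, n₃, T⟩ := three_orders hcard h P
  have d1 := T.d₁; have d2 := T.d₂; have d3 := T.d₃
  have hnone := T.all; have hn₁ := T.e₁; have hn₂ := T.e₂; have hn₃ := T.e₃
  have e12 : n₁ ≠ n₂ := fun e => by rw [e] at hn₁; omega
  have e13 : n₁ ≠ n₃ := fun e => by rw [e] at hn₁; omega
  have e23 : n₂ ≠ n₃ := fun e => by rw [e] at hn₂; omega
  obtain ⟨g₁, hg₁⟩ := CV.cnt_ne_zero.mp (by omega : CV.cnt G n₁ ≠ 0)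
  obtain ⟨g₂, hg₂⟩ := CV.cnt_ne_zero.mp (by omega : CV.cnt G n₂ ≠ 0)
  obtain ⟨g₃, hg₃⟩ := CV.cnt_ne_zero.mp (by omega : CV.cnt G n₃ ≠ 0)
  have s2 := small_order hcard h P T hg₂ d2
  obtain ⟨p1, p2, p3⟩ := two_pattern hcard h P T e12 e13 e23
  simp only [Finset.mem_insert, Finset.mem_singleton, not_or] at d1 d2 d3
  have down : ∀ {n d : ℕ} {g : G}, orderOf g = n → d ∣ n → d ∈ ords n₁ n₂ n₃ := fun {n d g} hg hd => by
    have := hnone (g ^ (orderOf g / d))
    rwa [orderOf_pow_orderOf_div (orderOf_pos g).ne' (hg.symm ▸ hd)] at this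
  have pos : ∀ g : G, 0 < orderOf g := orderOf_pos
  have a1 := div128 ⟨n₁, Nat.lt_succ_of_le (Nat.le_of_dvd (by norm_num) p1)⟩ p1 (by
    have := pos g₁; show 2 < n₁; omega)
  have a3 := div128 ⟨n₃, Nat.lt_succ_of_le (Nat.le_of_dvd (by norm_num) p3)⟩ p3 (by
    have := pos g₃; show 2 < n₃; omega)
  simp only at a1 a3
  have m1 := down hg₁ a1
  simp only [ords, Finset.mem_insert, Finset.mem_singleton] at m1
  have h4 : n₁ = 4 ∨ n₃ = 4 := by
    rcases m1 with e | e | e | e | e | e | e | e | e | e | e | e <;> try omega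
    exact absurd (e ▸ (by norm_num : (4 : ℕ) ∣ 128)) p2
  have eight : ∀ n, n ∣ 128 → n ≠ 4 → 2 < n → 8 ∣ n := fun n hd h4' h2 =>
    (by decide +kernel : ∀ n : Fin 129, (n : ℕ) ∣ 128 → (n : ℕ) ≠ 4 → 2 < (n : ℕ) → 8 ∣ (n : ℕ))
      ⟨n, Nat.lt_succ_of_le (Nat.le_of_dvd (by norm_num) hd)⟩ hd h4' h2
  have h8 : (n₁ = 4 ∧ n₃ = 8) ∨ (n₁ = 8 ∧ n₃ = 4) := by
    rcases h4 with h | h
    · have m3 := down hg₃ (eight n₃ p3 (by omega) (by have := pos g₃; omega))
      simp only [ords, Finset.mem_insert, Finset.mem_singleton] at m3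
      rcases m3 with e | e | e | e | e | e | e | e | e | e | e | e <;> try omega
      exact absurd (e ▸ (by norm_num : (8 : ℕ) ∣ 128)) p2
    · have m3 := down hg₁ (eight n₁ p1 (by omega) (by have := pos g₁; omega))
      simp only [ords, Finset.mem_insert, Finset.mem_singleton] at m3
      rcases m3 with e | e | e | e | e | e | e | e | e | e | e | e <;> try omega
      exact absurd (e ▸ (by norm_num : (8 : ℕ) ∣ 128)) p2
  have h6 : n₂ = 6 := by
    rcases div1152 ⟨n₂, Nat.lt_succ_of_le (Nat.le_of_dvd (by norm_num) s2)⟩ s2 p2 d2.2.2.1 with hd | hd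
    · have m2 := down hg₂ hd
      simp only [ords, Finset.mem_insert, Finset.mem_singleton] at m2
      rcases m2 with e | e | e | e | e | e | e | e | e | e | e | e <;> omega
    · exfalso
      have m2 := down hg₂ hd
      simp only [ords, Finset.mem_insert, Finset.mem_singleton] at m2
      have h9 : n₂ = 9 := by
        rcases m2 with e | e | e | e | e | e | e | e | e | e | e | e <;> omega
      subst h9
      have hk := CV.key (G := G) 9 (by rw [hcard]; norm_num)
      rw [show Nat.divisors 9 = {1, 3, 9} from by decide, Finset.sum_insert (by decide),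
        Finset.sum_insert (by decide), Finset.sum_singleton, CV.cnt_one, P.c3, hn₂] at hk
      norm_num at hk
  refine ⟨hcard, fun g => ?_, P.c2, P.c3, P.c5, P.c7, cnt15 hcard h P, ?_, ?_⟩
  · have := hnone g
    simp only [ords, Finset.mem_insert, Finset.mem_singleton] at this
    simp only [List.mem_cons, List.not_mem_nil, or_false]
    omega
  · rcases h8 with ⟨-, e⟩ | ⟨e, -⟩
    · exact ⟨g₃, hg₃.trans e⟩
    · exact ⟨g₁, hg₁.trans e⟩
  · exact CV.cnt_ne_zero.mp (by rw [cnt14 hcard h P]; norm_num)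

end Transfer

end Cfsg.Agent.MTwentyThree.Nse
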