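import Cfsg.Agent.Lib.Spor.MTwentyThreeNse.ModelData
import Cfsg.Agent.Lib.Spor.MTwentyThreeAmal.Elems
import Cfsg.Agent.Lib.Solv.CountValues

/-!
Roots of one involution of the Mathieu group of degree twenty-three from packed lists.
-/

set_option autoImplicit false
set_option maxRecDepth 200000
set_option linter.unusedSectionVars false

namespace Cfsg.Agent.MTwentyThree.Nse

open Cfsg Cfsg.Agent.Spor Cfsg.Agent.Solv Amal

/-- An entry map is the identity. -/
def isId (f : ℕ → ℕ) : Bool := (List.range 24).all fun i => f i == i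

/-- The packed list of an entry map. -/
def keyOf (a : ℕ) : ℕ := (List.range 24).foldr (fun i r => r ||| (ent a i <<< (5 * i))) 0

/-- Strictly increasing. -/
def incr : List ℕ → Bool
  | a :: b :: l => decide (a < b) && incr (b :: l)
  | _ => true

/-- The check of a list of roots. -/
def rootsOK (h : ℕ) (L : List ℕ) : Bool :=
  incr L && L.all fun a => okPerm a && (keyOf a == a) &&
    entEq ((ent a)^[h]) (ent Data.tL) && !isId ((ent a)^[2])

theorem pow_toM {a : ℕ} (h : okPerm a = true) : ∀ (n : ℕ) (p : GolayPt),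
    idx (((toM a : Equiv.Perm GolayPt) ^ n) p) = ((ent a)^[n]) (idx p) := by
  intro n
  induction n with
  | zero => simp
  | succ n ih => intro p; rw [pow_succ', Equiv.Perm.mul_apply, toM_spec h, ih, Function.iterate_succ_apply']

theorem toM_pow_eq {a b n : ℕ} (ha : okPerm a = true) (hb : okPerm b = true)
    (h : entEq ((ent a)^[n]) (ent b) = true) : toM a ^ n = toM b := by
  simp only [entEq, List.all_eq_true, List.mem_range, beq_iff_eq] at h
  exact ext_ent fun p => by rw [SubmonoidClass.coe_pow, pow_toM ha, h _ (idx_lt p), toM_spec hb]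

theorem toM_pow_one {a n : ℕ} (ha : okPerm a = true) (h : isId ((ent a)^[n]) = true) : toM a ^ n = 1 := by
  simp only [isId, List.all_eq_true, List.mem_range, beq_iff_eq] at h
  exact ext_ent fun p => by rw [SubmonoidClass.coe_pow, pow_toM ha, h _ (idx_lt p)]; rfl

theorem toM_pow_ne {a n : ℕ} (ha : okPerm a = true) (h : isId ((ent a)^[n]) = false) : toM a ^ n ≠ 1 := fun e => by
  rw [← Bool.not_eq_true] at h
  refine h (List.all_eq_true.mpr fun i hi => beq_iff_eq.mpr ?_)
  have := pow_toM ha n (pt i)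
  rw [← SubmonoidClass.coe_pow, e, idx_pt i (List.mem_range.mp hi)] at this
  rw [← this]
  exact idx_pt i (List.mem_range.mp hi)

theorem incr_nodup : ∀ {L : List ℕ}, incr L = true → L.Nodup ∧ ∀ a l, L = a :: l → ∀ b ∈ l, a < b := by
  intro L
  induction L with
  | nil => exact fun _ => ⟨List.nodup_nil, fun a l e => absurd e (List.cons_ne_nil a l).symm⟩
  | cons a L ih =>
    intro h
    cases L with
    | nil => exact ⟨List.nodup_singleton a, fun a' l e b hb => by cases e; exact absurd hb List.not_mem_nil⟩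
    | cons b L =>
      simp only [incr, Bool.and_eq_true, decide_eq_true_eq] at h
      obtain ⟨hn, hlt⟩ := ih h.2
      have hall : ∀ c ∈ b :: L, a < c := fun c hc => by
        rcases List.mem_cons.mp hc with rfl | hc
        · exact h.1
        · exact h.1.trans (hlt b L rfl c hc)
      refine ⟨List.nodup_cons.mpr ⟨fun hm => lt_irrefl a (hall a hm), hn⟩, fun a' l e => ?_⟩
      cases e
      exact hall

theorem key_eq {a b : ℕ} (ha : okPerm a = true) (hb : okPerm b = true) (h : toM a = toM b) :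
    keyOf a = keyOf b := by
  have hent : ∀ i ∈ List.range 24, ent a i = ent b i := fun i hi => by
    have e := toM_spec ha (pt i)
    rw [h, toM_spec hb, idx_pt i (List.mem_range.mp hi)] at e
    exact e.symm
  unfold keyOf
  generalize List.range 24 = l at hent ⊢
  induction l with
  | nil => rfl
  | cons i l ih =>
    simp only [List.foldr_cons]
    rw [ih fun j hj => hent j (List.mem_cons_of_mem _ hj), hent i List.mem_cons_self]

theorem ord_of_root : ∀ n ∈ [4, 6, 8, 14], ∀ o < 15, o ∣ n → ¬ o ∣ n / 2 → ¬ o ∣ 2 → o = n := by decide +kernel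

/-- Enough elements of an order from roots of one involution, all involutions being conjugate. -/
theorem cnt_roots {n h : ℕ} (hn : n ∈ [4, 6, 8, 14]) (hh : n / 2 = h ∧ h * 2 = n) {L : List ℕ}
    (hL : rootsOK h L = true) (ht : okPerm Data.tL = true) (ht2 : orderOf (toM Data.tL) = 2)
    (hconj : ∀ t u : ↥Spor.M23, orderOf t = 2 → orderOf u = 2 → ∃ c : ↥Spor.M23, c * t * c⁻¹ = u) :
    L.length * CV.cnt ↥Spor.M23 2 ≤ CV.cnt ↥Spor.M23 n := by
  classical
  simp only [rootsOK, Bool.and_eq_true, List.all_eq_true, Bool.not_eq_true', beq_iff_eq] at hL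
  obtain ⟨hinc, hall⟩ := hL
  set t := toM Data.tL
  have hord : ∀ a ∈ L, orderOf (toM a) = n ∧ toM a ^ h = t := fun a ha => by
    obtain ⟨⟨⟨hok, -⟩, hp⟩, h2⟩ := hall a ha
    have e : toM a ^ h = t := toM_pow_eq hok ht hp
    have hne : ¬ orderOf (toM a) ∣ h := fun hd => by
      rw [orderOf_dvd_iff_pow_eq_one, e] at hd
      rw [hd, orderOf_one] at ht2
      omega
    have hd : orderOf (toM a) ∣ n := by
      rw [orderOf_dvd_iff_pow_eq_one, ← hh.2, pow_mul, e, ← ht2, pow_orderOf_eq_one]
    have hn2 : ¬ orderOf (toM a) ∣ 2 := fun hd' => toM_pow_ne hok h2 (orderOf_dvd_iff_pow_eq_one.mp hd')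
    have hn15 : n < 15 ∧ 0 < n := by
      simp only [List.mem_cons, List.not_mem_nil, or_false] at hn; omega
    exact ⟨ord_of_root n hn _ ((Nat.le_of_dvd hn15.2 hd).trans_lt hn15.1) hd (hh.1 ▸ hne) hn2, e⟩
  have hsel : ∀ s : {s : ↥Spor.M23 // orderOf s = 2}, ∃ c : ↥Spor.M23, c * t * c⁻¹ = s.1 := fun s =>
    hconj t s.1 ht2 s.2
  choose c hc using hsel
  rw [mul_comm, show L.length = Nat.card (Fin L.length) by simp, CV.cnt, ← Nat.card_prod]
  refine Nat.card_le_card_of_injective
    (fun q => ⟨MulAut.conj (c q.1) (toM (L.get q.2)), by rw [MulEquiv.orderOf_eq]; exact (hord _ (L.get_mem _)).1⟩)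
    fun q q' e => ?_
  have e' : MulAut.conj (c q.1) (toM (L.get q.2)) = MulAut.conj (c q'.1) (toM (L.get q'.2)) := congrArg Subtype.val e
  have h1 : q.1 = q'.1 := by
    have e2 := congrArg (fun z => z ^ h) e'
    simp only [← map_pow, (hord _ (L.get_mem _)).2] at e2
    exact Subtype.ext ((hc q.1).symm.trans (e2.trans (hc q'.1)))
  rw [h1] at e'
  have ok := fun a ha => (hall a ha).1.1.1
  have key := key_eq (ok _ (L.get_mem _)) (ok _ (L.get_mem _)) ((MulAut.conj (c q'.1)).injective e')
  rw [(hall _ (L.get_mem _)).1.1.2, (hall _ (L.get_mem _)).1.1.2] at key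
  exact Prod.ext h1 ((incr_nodup hinc).1.injective_get key)

theorem tL_ok : okPerm Data.tL = true ∧ isId ((ent Data.tL)^[2]) = true ∧ isId ((ent Data.tL)^[1]) = false := by
  decide +kernel

theorem wL_ok : okPerm Data.wL = true ∧ isId ((ent Data.wL)^[15]) = true ∧ isId ((ent Data.wL)^[5]) = false ∧
    isId ((ent Data.wL)^[3]) = false := by decide +kernel

theorem four_ok : rootsOK 2 Data.fourL = true ∧ Data.fourL.length = 84 := by decide +kernel

theorem six_ok : rootsOK 3 Data.sixL = true ∧ Data.sixL.length = 224 := by decide +kernel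

theorem eight_ok : rootsOK 4 Data.eightL = true ∧ Data.eightL.length = 336 := by decide +kernel

theorem fourteen_ok : rootsOK 7 Data.fourteenL = true ∧ Data.fourteenL.length = 384 := by decide +kernel

theorem orderOf_tL : orderOf (toM Data.tL) = 2 := by
  haveI : Fact (Nat.Prime 2) := ⟨Nat.prime_two⟩
  refine orderOf_eq_prime (toM_pow_one tL_ok.1 tL_ok.2.1) fun e => ?_
  exact toM_pow_ne tL_ok.1 tL_ok.2.2 (by rw [pow_one]; exact e)

theorem orderOf_wL : orderOf (toM Data.wL) = 15 := by
  have hd := orderOf_dvd_of_pow_eq_one (toM_pow_one wL_ok.1 wL_ok.2.1)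
  have h5 : ¬ orderOf (toM Data.wL) ∣ 5 := fun h => toM_pow_ne wL_ok.1 wL_ok.2.2.1 (orderOf_dvd_iff_pow_eq_one.mp h)
  have h3 : ¬ orderOf (toM Data.wL) ∣ 3 := fun h => toM_pow_ne wL_ok.1 wL_ok.2.2.2 (orderOf_dvd_iff_pow_eq_one.mp h)
  have key : ∀ o < 16, o ∣ 15 → ¬ o ∣ 5 → ¬ o ∣ 3 → o = 15 := by decide +kernel
  exact key _ ((Nat.le_of_dvd (by norm_num) hd).trans_lt (by norm_num)) hd h5 h3

end Cfsg.Agent.MTwentyThree.Nse
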