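import Cfsg.Agent.Lib.Spor.MTwentyThreeNse.KData
import Cfsg.Agent.Lib.Spor.MTwentyThreeNse.ModelLists
import Cfsg.Agent.Lib.Spor.MTwentyThreeAmal.Extend

/-!
The checks of the second local subgroup of the Mathieu group of degree twenty-three.
-/

set_option autoImplicit false
set_option maxRecDepth 200000

namespace Cfsg.Agent.MTwentyThree.Nse.KD

open Cfsg.Agent.Spor Amal Amal.Data Cfsg.Agent.Local.FS.Mathieu

/-- Composition of a list of packed maps. -/
def entW (l : List ℕ) : ℕ → ℕ := l.foldr (fun g f i => ent g (f i)) id

/-- The generators of the group of order eighteen. -/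
def bGen : List ℕ := [yK, zK, tK]

/-- The words of the group of order eighteen. -/
def bWords : List (List ℕ) := [yK, yK, zK, zK, tK].sublists

/-- The heptad and the triple. -/
def hP : List ℕ := baseL.getD 0 []
/-- The triple. -/
def tP : List ℕ := baseL.getD 4 []
/-- The octad. -/
def oP : List ℕ := 23 :: hP

/-- Stabilises a set of points. -/
def stabs (a : ℕ) (P : List ℕ) : Bool := imgMask a P == imgMask (pack (List.range 24)) P

/-- The common fixed points of the group of order sixteen. -/
def commonFix : List ℕ := (List.range 24).filter fun i => fL.all fun f => ent f i == i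

theorem base_eq : hP = [4, 5, 8, 9, 11, 12, 19] ∧ tP = [5, 11, 19] := ⟨rfl, rfl⟩

theorem gens_ok : (bGen ++ fGen ++ [tE]).all okPerm = true ∧ fGen.length = 4 := by decide +kernel

theorem t_check : isId ((ent tE)^[2]) = true ∧ ((List.range 24).all fun i => (ent tE i == i) == oP.contains i) = true ∧
    octMasks.contains (imgMask (pack (List.range 24)) oP) = true := by decide +kernel

theorem f_ok : fL.all (fun a => okPerm a && keyOf a == a) = true ∧ incr fL = true ∧ fL.length = 16 ∧
    (fL.all fun a => fL.all fun b => fL.any fun c => entEq (fun i => ent a (ent b i)) (ent c)) = true ∧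
    (fL.all fun a => isId ((ent a)^[2])) = true ∧ (fL.any fun a => isId (ent a)) = true := by decide +kernel

theorem f_props : (fL.all fun a => stabs a hP && stabs a tP) = true ∧ (fGen.all fun g => fL.any fun a => entEq (ent g) (ent a)) = true ∧
    (fL.all fun a => fGen.sublists.any fun w => entEq (ent a) (entW w)) = true ∧
    (fL.any fun a => !(ent a 4 == 4)) = true ∧
    commonFix = [5, 11, 19, 23] := by decide +kernel

theorem y_check : isId ((ent yK)^[3]) = true ∧ isId (ent yK) = false ∧
    (bGen.all fun g => stabs g hP && stabs g tP) = true ∧
    (fL.all fun a => isId (ent a) || !entEq (fun i => ent yK (ent a i)) (fun i => ent a (ent yK i))) = true := by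
  decide +kernel

theorem seq_check : stabs (seqL.getD 0 0) hP = true ∧ stabs (seqL.getD 0 0) tP = true ∧
    ((List.range 8).all fun j => bGen.all fun g => bWords.any fun w =>
      entEq (fun i => ent (seqL.getD j 0) (ent g i)) (fun i => entW w (ent (seqL.getD j 0) i))) = true := by
  decide +kernel

theorem rep_check : (repL.all fun a => okPerm a && stabs a hP) = true ∧ repL.length = 35 ∧
    (repL.map fun a => imgMask a tP).Nodup := by decide +kernel

theorem cen_check : (cenL.all fun a => okPerm a && keyOf a == a &&
      entEq (fun i => ent yK (ent a i)) (fun i => ent a (ent yK i)) &&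
      (isId (ent a) || !entEq (fun i => ent zK (ent a i)) (fun i => ent a (ent zK i)) ||
        !entEq (fun i => ent tK (ent a i)) (fun i => ent a (ent tK i)))) = true ∧
    incr cenL = true ∧ cenL.length = 180 := by decide +kernel

theorem inter_ok : (interL.all fun a => okPerm a && keyOf a == a && stabs a hP && stabs a tP) = true ∧
    incr interL = true ∧ interL.length = 1152 := by decide +kernel

theorem inter_norm : (interL.all fun a => fGen.all fun g => fL.any fun f =>
      entEq (fun i => ent a (ent g i)) (fun i => ent f (ent a i))) = true := by decide +kernel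

theorem inter_conj : (interL.all fun a => fL.any fun f => [yK].any fun y =>
      entEq (fun i => ent a (ent y i)) (fun i => ent f (ent y (ent a i))) ||
      entEq (fun i => ent a (ent y i)) (fun i => ent f (ent y (ent y (ent a i))))) = true := by decide +kernel

theorem inter_cent : (interL.all fun a => fL.contains a ||
      fGen.any fun g => !entEq (fun i => ent a (ent g i)) (fun i => ent g (ent a i))) = true := by decide +kernel

end Cfsg.Agent.MTwentyThree.Nse.KD
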