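import Cfsg.Agent.Lib.Spor.MTwentyThreeNse.NormSplit

/-!
The normalisers of the cores in two groups with the local data are isomorphic, core to core.
-/

set_option autoImplicit false
set_option maxHeartbeats 800000
set_option linter.unusedSectionVars false
set_option linter.style.haveILetI false

namespace Cfsg.Agent.MTwentyThree.Nse

variable {M G : Type*} [Group M] [Finite M] [Group G] [Finite G]

/-- A hom onto the complement with the same action, for a group with a map into the image of the action. -/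
theorem exists_section {X A : Type*} [Group X] [Group A] {N : Type*} [Group N] (f : N →* A) (S : Subgroup N)
    (h1 : S ⊓ f.ker = ⊥) (h2 : S ⊔ f.ker = ⊤) (g : X →* A) (hg : ∀ x, g x ∈ f.range) :
    ∃ k : X →* N, (∀ x, k x ∈ S ∧ f (k x) = g x) := by
  have hsur : ∀ x, ∃ s : S, f s = g x := fun x => by
    obtain ⟨n, hn⟩ := hg x
    obtain ⟨s, hs, z, hz, e⟩ := Subgroup.mem_sup_of_normal_right.mp (h2.symm ▸ Subgroup.mem_top n : n ∈ S ⊔ f.ker)
    exact ⟨⟨s, hs⟩, by rw [← hn, ← e, map_mul, MonoidHom.mem_ker.mp hz, mul_one]⟩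
  choose s hs using hsur
  have huniq : ∀ a b : S, f a = f b → a = b := fun a b e => by
    have hm : (a : N) * (b : N)⁻¹ ∈ S ⊓ f.ker :=
      Subgroup.mem_inf.mpr ⟨mul_mem a.2 (inv_mem b.2),
        MonoidHom.mem_ker.mpr (by rw [map_mul, map_inv, e, mul_inv_cancel])⟩
    rw [h1, Subgroup.mem_bot, mul_inv_eq_one] at hm
    exact Subtype.ext hm
  refine ⟨MonoidHom.mk' (fun x => (s x : N)) fun x y => ?_, fun x => ⟨(s x).2, hs x⟩⟩
  exact congrArg Subtype.val (huniq (s (x * y)) (s x * s y) (by rw [hs, Subgroup.coe_mul, map_mul, map_mul, hs, hs]))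

theorem Loc.norm_iso (K : Loc M) (L : Loc G) {t₀ : M} {t : G} (h₀ : orderOf t₀ = 2) (ht : orderOf t = 2) :
    ∃ φ : ↥(nr t₀) ≃* ↥(nr t), ∀ x : ↥(nr t₀), (x : M) ∈ core t₀ ↔ ((φ x : nr t) : G) ∈ core t := by
  classical
  have habM : ∀ a b : core t₀, Commute a b := fun a b => Subtype.ext (K.core_abelian h₀ a a.2 b b.2).eq
  have hsqM : ∀ a : core t₀, a * a = 1 := fun a => Subtype.ext (K.core_sq h₀ a a.2)
  have habG : ∀ a b : core t, Commute a b := fun a b => Subtype.ext (L.core_abelian ht a a.2 b b.2).eq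
  have hsqG : ∀ a : core t, a * a = 1 := fun a => Subtype.ext (L.core_sq ht a a.2)
  obtain ⟨eM⟩ := AEight.exists_equiv_vec habM hsqM (K.card_core h₀)
  obtain ⟨eG⟩ := AEight.exists_equiv_vec habG hsqG (L.card_core ht)
  set ψ₀ := eM.trans eG.symm
  set g₁ : ↥(nr t₀) →* MulAut ↥(core t) := (MulAut.congr ψ₀).toMonoidHom.comp (act t₀)
  obtain ⟨a, ha⟩ := AEight.aut_conj habG hsqG (L.card_core ht) (H₁ := g₁.range) (H₂ := (act t).range)
    (by rw [show g₁.range = (act t₀).range.map (MulAut.congr ψ₀).toMonoidHom from MonoidHom.range_comp _ _,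
          Subgroup.card_map_of_injective (MulAut.congr ψ₀).injective, K.card_act_range h₀])
    (L.card_act_range ht)
  set ψ := ψ₀.trans a
  set g₂ : ↥(nr t₀) →* MulAut ↥(core t) := (MulAut.conj a).toMonoidHom.comp g₁
  obtain ⟨S₀, hS₁, hS₂⟩ := K.exists_complement h₀
  obtain ⟨S, hT₁, hT₂⟩ := L.exists_complement ht
  obtain ⟨σ, hσ⟩ := exists_section (act t₀) S₀ hS₁ hS₂ (act t₀) fun x => ⟨x, rfl⟩
  obtain ⟨k, hk⟩ := exists_section (act t) S hT₁ hT₂ g₂ fun x => by
    rw [ha]; exact ⟨g₁ x, ⟨x, rfl⟩, rfl⟩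
  have hmem : ∀ x : nr t₀, ((x * (σ x)⁻¹ : nr t₀) : M) ∈ core t₀ := fun x =>
    (K.act_ker h₀).mp (by rw [map_mul, map_inv, (hσ x).2, mul_inv_cancel])
  set e : nr t₀ → core t₀ := fun x => ⟨_, hmem x⟩
  have he : ∀ x y, e (x * y) = e x * act t₀ (σ x) (e y) := fun x y => Subtype.ext (by
    simp only [e, Subgroup.coe_mul, act_apply, map_mul, Subgroup.coe_inv, mul_inv_rev]
    group)
  have hact : ∀ (x : nr t₀) (v : core t₀), ψ (act t₀ (σ x) v) = act t (k x) (ψ v) := fun x v => by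
    rw [(hσ x).2, (hk x).2]
    simp [g₂, g₁, ψ]
  have hE : ∀ v : core t, ((v : G)) ∈ nr t := fun v => Subgroup.le_normalizer v.2
  set φ₀ : nr t₀ → nr t := fun x => ⟨(ψ (e x) : G), hE _⟩ * k x
  have hmul : ∀ x y, φ₀ (x * y) = φ₀ x * φ₀ y := fun x y => Subtype.ext (by
    simp only [φ₀, he, map_mul, hact, Subgroup.coe_mul, act_apply]
    group)
  set φ := MonoidHom.mk' φ₀ hmul
  have hkker : ∀ x : nr t₀, (x : M) ∈ core t₀ → σ x = 1 ∧ k x = 1 := fun x hx => by
    have h0 := (K.act_ker h₀).mpr hx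
    constructor
    · have hm : σ x ∈ S₀ ⊓ (act t₀).ker :=
        Subgroup.mem_inf.mpr ⟨(hσ x).1, MonoidHom.mem_ker.mpr (by rw [(hσ x).2, h0])⟩
      rwa [hS₁, Subgroup.mem_bot] at hm
    · have hm : k x ∈ S ⊓ (act t).ker := Subgroup.mem_inf.mpr ⟨(hk x).1, MonoidHom.mem_ker.mpr (by
        rw [(hk x).2]
        show MulAut.conj a (MulAut.congr ψ₀ (act t₀ x)) = 1
        rw [h0, map_one, map_one])⟩
      rwa [hT₁, Subgroup.mem_bot] at hm
  have hkinv : ∀ x : nr t₀, k x = 1 → (x : M) ∈ core t₀ := fun x hx => by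
    refine (K.act_ker h₀).mp ((MulAut.congr ψ₀).injective ((MulAut.conj a).injective ?_))
    show g₂ x = _
    rw [← (hk x).2, hx, map_one, map_one, map_one]
  have hone : ∀ (x : nr t₀) (v : core t), (⟨(v : G), hE v⟩ : nr t) * k x ∈ (act t).ker → k x = 1 := fun x v h => by
    have hv : (⟨(v : G), hE v⟩ : nr t) ∈ (act t).ker := MonoidHom.mem_ker.mpr ((L.act_ker ht).mpr v.2)
    have hm : k x ∈ S ⊓ (act t).ker := ⟨(hk x).1, (Subgroup.mul_mem_cancel_left _ hv).mp h⟩
    rwa [hT₁, Subgroup.mem_bot] at hm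
  have hinj : Function.Injective φ := by
    rw [injective_iff_map_eq_one]
    intro x hx
    have hk1 : k x = 1 := hone x (ψ (e x)) (by rw [show (⟨(ψ (e x) : G), hE _⟩ : nr t) * k x = 1 from hx]; exact one_mem _)
    have hσ1 := (hkker x (hkinv x hk1)).1
    have h := congrArg Subtype.val hx
    simp only [φ, φ₀, MonoidHom.mk'_apply, hk1, mul_one, OneMemClass.coe_one] at h
    have h2 : ψ (e x) = 1 := Subtype.ext h
    rw [MulEquiv.map_eq_one_iff] at h2
    have h3 := congrArg Subtype.val h2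
    simp only [e, hσ1, inv_one, mul_one, OneMemClass.coe_one] at h3
    exact Subtype.ext h3
  have hbij : Function.Bijective φ :=
    (Nat.bijective_iff_injective_and_card φ).mpr ⟨hinj, by rw [(K.card_norm_core h₀).1, (L.card_norm_core ht).1]⟩
  refine ⟨MulEquiv.ofBijective φ hbij, fun x => ⟨fun hx => ?_, fun hx => ?_⟩⟩
  · show ((φ₀ x : nr t) : G) ∈ core t
    simp only [φ₀, (hkker x hx).2, mul_one]
    exact (ψ (e x)).2
  · refine hkinv x (hone x (ψ (e x)) ?_)
    exact MonoidHom.mem_ker.mpr ((L.act_ker ht).mpr hx)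

end Cfsg.Agent.MTwentyThree.Nse
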