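import Cfsg.Agent.Lib.Spor.MTwentyThreeNse.KModel
import Cfsg.Agent.Lib.Spor.MTwentyThreeNse.NormIso
import Cfsg.Agent.Lib.Spor.MTwentyThreeNse.ConjHom

/-!
Compatible injective maps on the heptad stabiliser and the triple stabiliser into a group with the local data.
-/

set_option autoImplicit false
set_option maxHeartbeats 800000
set_option linter.unusedSectionVars false
set_option linter.style.haveILetI false

namespace Cfsg.Agent.MTwentyThree.Nse

open Cfsg Cfsg.Agent.Solv Amal KD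

variable {G : Type*} [Group G] [Finite G]

theorem index_five_top {X : Type*} [Group X] [Finite X] {A S : Subgroup X} (hA : A ≤ S) (hcA : Nat.card A = 1152)
    (hX : Nat.card X = 5760) {T : Subgroup X} (hT : T ≤ S) (hcT : Nat.card T = 360) : S = ⊤ := by
  refine Subgroup.eq_top_of_card_eq S ?_
  have h1 := Subgroup.card_dvd_of_le hA
  have h2 := Subgroup.card_dvd_of_le hT
  have h3 := Subgroup.card_subgroup_dvd_card S
  rw [hcA] at h1; rw [hcT] at h2; rw [hX] at h3 ⊢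
  exact Nat.dvd_antisymm h3 ((show 5760 ∣ Nat.lcm 1152 360 by decide +kernel).trans (Nat.lcm_dvd h1 h2))

/-- The maps on the two stabilisers. -/
structure Glue (G : Type*) [Group G] where
  fH : ↥HM →* G
  fK : ↥KM →* G
  hk : ∀ x (h : x ∈ HM) (k : x ∈ KM), fH ⟨x, h⟩ = fK ⟨x, k⟩
  injH : Function.Injective fH
  injK : Function.Injective fK
  cenY : ∀ g : G, Commute g (fH ⟨yM, yM_mem.1⟩) → ∃ k : ↥KM, fK k = g

theorem Loc.exists_glue (L : Loc G) : Nonempty (Glue G) := by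
  classical
  haveI : Fact (Nat.Prime 2) := ⟨Nat.prime_two⟩
  haveI : Fact (Nat.Prime 3) := ⟨Nat.prime_three⟩
  obtain ⟨t, ht⟩ := exists_prime_orderOf_dvd_card' (G := G) 2 (by rw [L.card]; norm_num)
  obtain ⟨φ, hφ⟩ := model_loc.norm_iso L tM_two ht
  let ΦH : ↥HM →* G := (nr t).subtype.comp (φ.toMonoidHom.comp (Subgroup.inclusion (le_of_eq HM_eq)))
  have hinj : Function.Injective ΦH := fun a b h => by
    have h' : φ (Subgroup.inclusion (le_of_eq HM_eq) a) = φ (Subgroup.inclusion (le_of_eq HM_eq) b) := Subtype.ext h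
    exact Subgroup.inclusion_injective _ (φ.injective h')
  have hmem : ∀ x, ΦH x ∈ nr t := fun x => (φ (Subgroup.inclusion (le_of_eq HM_eq) x)).2
  have hsur : ∀ g ∈ nr t, ∃ x, ΦH x = g := fun g hg => by
    obtain ⟨z, hz⟩ := φ.surjective ⟨g, hg⟩
    exact ⟨⟨z.1, (le_of_eq HM_eq.symm) z.2⟩, congrArg Subtype.val hz⟩
  have hcore : ∀ x : ↥HM, (x : M) ∈ core tM ↔ ΦH x ∈ core t := fun x =>
    hφ (Subgroup.inclusion (le_of_eq HM_eq) x)
  set F0H := F0.subgroupOf HM
  set F := F0H.map ΦH with hF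
  have hF0 : F0 ≤ HM := F0_le.trans inf_le_left
  have hmemF : ∀ x : ↥HM, ΦH x ∈ F ↔ (x : M) ∈ F0 := fun x =>
    ⟨fun ⟨z, hz, e⟩ => by rw [← hinj e]; exact hz, fun h => ⟨x, h, rfl⟩⟩
  set y := ΦH ⟨yM, yM_mem.1⟩ with hy
  have hFle : F ≤ nr t := by rintro _ ⟨x, -, rfl⟩; exact hmem x
  have hnorm : ∀ x : ↥HM, ΦH x ∈ Subgroup.normalizer (F : Set G) ↔ (x : M) ∈ Subgroup.normalizer (F0 : Set M) := by
    intro x
    constructor
    · intro h
      refine normalizer_of_conj_le fun f hf => ?_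
      have := conj_mem_norm h ((hmemF ⟨f, hF0 hf⟩).mpr hf)
      rw [← map_inv, ← map_mul, ← map_mul, hmemF] at this
      exact this
    · intro h
      refine normalizer_of_conj_le ?_
      rintro _ ⟨z, hz, rfl⟩
      rw [← map_inv, ← map_mul, ← map_mul, hmemF]
      exact conj_mem_norm h hz
  have hne : F ≠ core t := fun e => by
    refine model_K.ne (Subgroup.eq_of_le_of_card_ge (fun f hf => ?_) (by
      rw [model_loc.card_core tM_two, card_F0]))
    exact (hcore ⟨f, hF0 hf⟩).mpr (e ▸ (hmemF ⟨f, hF0 hf⟩).mpr hf)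
  have hy3 : orderOf y = 3 := by rw [hy, orderOf_injective ΦH hinj, Subgroup.orderOf_mk, model_K.ord]
  have D : KData t F y :=
    { le := hFle
      card := by
        rw [Subgroup.card_map_of_injective hinj, Nat.card_congr (Subgroup.subgroupOfEquivOfLe hF0).toEquiv, card_F0]
      comm := by
        rintro _ ⟨a, ha, rfl⟩ _ ⟨b, hb, rfl⟩
        exact (show Commute a b from Subtype.ext (comm_F0 _ ha _ hb).eq).map ΦH
      sq := by
        rintro _ ⟨a, ha, rfl⟩
        rw [← map_mul, show a * a = 1 from Subtype.ext (sq_F0 _ ha), map_one]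
      ne := hne
      inter := by
        have e : Subgroup.normalizer (F : Set G) ⊓ nr t = ((HM ⊓ KM).subgroupOf HM).map ΦH := by
          rw [← norm_inf]
          ext g
          constructor
          · rintro ⟨h1, h2⟩
            obtain ⟨x, rfl⟩ := hsur g h2
            exact ⟨x, ⟨(hnorm x).mp h1, (le_of_eq HM_eq) x.2⟩, rfl⟩
          · rintro ⟨x, hx, rfl⟩
            exact ⟨(hnorm x).mpr hx.1, hmem x⟩
        rw [e, Subgroup.card_map_of_injective hinj,
          Nat.card_congr (Subgroup.subgroupOfEquivOfLe (inf_le_left : HM ⊓ KM ≤ HM)).toEquiv, inter_card]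
      cent := fun c hc => by
        have h4 : Nat.card ↥(F0 ⊓ core tM) = 4 :=
          (model_loc.inf_core tM_two model_K.le card_F0 comm_F0 sq_F0 model_K.ne).1
        haveI : Nontrivial ↥(F0 ⊓ core tM) := Finite.one_lt_card_iff_nontrivial.mp (by omega)
        obtain ⟨⟨u, hu⟩, hu1⟩ := exists_ne (1 : ↥(F0 ⊓ core tM))
        have hu0 : ΦH ⟨u, hF0 hu.1⟩ ≠ 1 := fun e => hu1 (Subtype.ext (show u = 1 from congrArg Subtype.val (hinj (e.trans (map_one ΦH).symm))))
        obtain ⟨x, rfl⟩ := hsur c (L.cen_le_norm ht ((hcore ⟨u, hF0 hu.1⟩).mp hu.2) hu0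
          (mem_cen.mpr (hc _ ((hmemF _).mpr hu.1))))
        refine (hmemF x).mpr (model_K.cent fun f hf => ?_)
        have := hc _ ((hmemF ⟨f, hF0 hf⟩).mpr hf)
        rw [← map_mul, ← map_mul] at this
        exact congrArg Subtype.val (hinj this)
      ymem := ⟨(hnorm _).mpr model_K.ymem.1, hmem _⟩
      ord := hy3
      free := by
        rintro _ ⟨a, ha, rfl⟩ hc
        have : Commute yM (a : M) := congrArg Subtype.val (hinj (by
          rw [map_mul, map_mul]; exact hc.eq) : (⟨yM, yM_mem.1⟩ : ↥HM) * a = a * ⟨yM, yM_mem.1⟩)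
        rw [show a = 1 from Subtype.ext (model_K.free _ ha this), map_one]
      conj := fun n hn => by
        obtain ⟨x, rfl⟩ := hsur n hn.2
        have h := model_K.conj x ⟨(hnorm x).mp hn.1, (le_of_eq HM_eq) x.2⟩
        have hle : F0 ⊔ Subgroup.zpowers yM ≤ ((F ⊔ Subgroup.zpowers y).comap ΦH).map HM.subtype := sup_le
          (fun f hf => ⟨⟨f, hF0 hf⟩, Subgroup.mem_sup_left ((hmemF ⟨f, hF0 hf⟩).mpr hf), rfl⟩)
          (Subgroup.zpowers_le.mpr ⟨⟨yM, yM_mem.1⟩, Subgroup.mem_sup_right (Subgroup.mem_zpowers _), rfl⟩)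
        obtain ⟨z, hz, e⟩ := hle h
        have e' : z = x * ⟨yM, yM_mem.1⟩ * x⁻¹ := Subtype.ext e
        rw [hy, ← map_inv, ← map_mul, ← map_mul, ← e']
        exact hz }
  -- the map on the group of order forty-eight
  set X0 := F0 ⊔ Subgroup.zpowers yM
  have hX0 : X0 ≤ HM := sup_le hF0 (Subgroup.zpowers_le.mpr yM_mem.1)
  let φ0 : ↥X0 →* G := ΦH.comp (Subgroup.inclusion hX0)
  have hF0X : F0 ≤ X0 := le_sup_left
  have hyX : yM ∈ X0 := Subgroup.mem_sup_right (Subgroup.mem_zpowers _)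
  have hone : ∀ g : G, (∀ b, g * φ0 b * g⁻¹ = φ0 b) → g = 1 := fun g hg => by
    have hgF : g ∈ F := D.cent fun a ha => by
      obtain ⟨z, hz, rfl⟩ := ha
      exact (mul_inv_eq_iff_eq_mul.mp (hg ⟨z, hF0X hz⟩)).symm
    exact D.free g hgF (show Commute y g from (mul_inv_eq_iff_eq_mul.mp (hg ⟨yM, hyX⟩)).symm)
  have hKN : KM ≤ Subgroup.normalizer (X0 : Set M) := fun n hn => normalizer_of_conj_le fun a ha => by
    have hn' : n ∈ Subgroup.normalizer (F0 : Set M) := (le_of_eq KM_eq) hn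
    exact (sup_le (fun b hb => hF0X (conj_mem_norm hn' hb))
      (Subgroup.zpowers_le.mpr (model_K.conj_all model_loc tM_two n hn')) : X0 ≤ X0.comap (MulAut.conj n).toMonoidHom) ha
  have hIR : HM ⊓ KM ≤ realised φ0 := fun x hx =>
    inf_le_realised ΦH hX0 (fun b => rfl) ⟨hx.1, hKN hx.2⟩
  set Ny0 := Subgroup.normalizer ((Subgroup.zpowers yM : Subgroup M) : Set M)
  have hNy : Ny0 ≤ KM := (model_K.norm_y_le model_loc tM_two).trans (le_of_eq KM_eq.symm)
  have hyR : Ny0 ≤ realised φ0 := by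
    intro s hs
    refine ⟨hKN (hNy hs), ?_⟩
    have hsF : s ∈ Subgroup.normalizer (F0 : Set M) := (le_of_eq KM_eq) (hNy hs)
    obtain ⟨i, hi⟩ := mem_norm_zpowers.mp hs
    have hi : yM ^ i = s * yM * s⁻¹ := hi
    let ψ : ↥F0 ≃* ↥F := (Subgroup.subgroupOfEquivOfLe hF0).symm.trans (Subgroup.equivMapOfInjective F0H ΦH hinj)
    have hψ : ∀ a : F0, (ψ a : G) = ΦH ⟨a, hF0 a.2⟩ := fun a => rfl
    let ny : ↥(Subgroup.normalizer (F0 : Set M)) := ⟨yM, model_K.ymem.1⟩
    let ns : ↥(Subgroup.normalizer (F0 : Set M)) := ⟨s, hsF⟩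
    have hbar : MulAut.congr ψ (F0.normalizerMonoidHom ny) = F.normalizerMonoidHom ⟨y, D.ymem.1⟩ :=
      MulEquiv.ext fun a => Subtype.ext (by
        obtain ⟨b, rfl⟩ := ψ.surjective a
        show (ψ ((F0.normalizerMonoidHom ny) (ψ.symm (ψ b))) : G) = y * (ψ b : G) * y⁻¹
        rw [MulEquiv.symm_apply_apply, hψ, hψ, hy, ← map_inv, ← map_mul, ← map_mul]
        rfl)
    set α := MulAut.congr ψ (F0.normalizerMonoidHom ns)
    have hconj : α * F.normalizerMonoidHom ⟨y, D.ymem.1⟩ * α⁻¹ = F.normalizerMonoidHom ⟨y, D.ymem.1⟩ ^ i := by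
      rw [← hbar, ← map_inv, ← map_mul, ← map_mul, ← map_inv, ← map_mul, ← map_mul, ← map_zpow, ← map_zpow]
      exact congrArg _ (congrArg _ (Subtype.ext hi.symm))
    obtain ⟨g, hgN, hg⟩ := D.realise L ht (α := α) (mem_norm_zpowers.mpr ⟨i, hconj.symm⟩)
    have hgF : g ∈ Subgroup.normalizer (F : Set G) := D.norm_y_le L ht hgN
    -- the image of the element of order three
    have hgy : g * y * g⁻¹ = y ^ i := by
      obtain ⟨j, hj⟩ := mem_norm_zpowers.mp hgN
      have hj : y ^ j = g * y * g⁻¹ := hj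
      have hgbar : F.normalizerMonoidHom ⟨g, hgF⟩ = α := MulEquiv.ext fun a => Subtype.ext (hg a)
      have e : F.normalizerMonoidHom (⟨y, D.ymem.1⟩ ^ j) = F.normalizerMonoidHom (⟨y, D.ymem.1⟩ ^ i) := by
        rw [show (⟨y, D.ymem.1⟩ : ↥(Subgroup.normalizer (F : Set G))) ^ j = ⟨g, hgF⟩ * ⟨y, D.ymem.1⟩ * ⟨g, hgF⟩⁻¹
          from Subtype.ext (by simpa using hj), map_mul, map_mul, map_inv, hgbar, map_zpow]
        exact hconj
      have hc : y ^ (j - i) ∈ F := D.cent fun a ha => by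
        have h := congrArg (fun q : F => (q : G)) (MulEquiv.congr_fun e ⟨y ^ (-i) * a * (y ^ (-i))⁻¹,
          conj_mem_norm (Subgroup.zpow_mem _ D.ymem.1 _) ha⟩)
        have h'' : (((⟨y, D.ymem.1⟩ : ↥(Subgroup.normalizer (F : Set G))) ^ j : ↥(Subgroup.normalizer (F : Set G))) : G) *
            (y ^ (-i) * a * (y ^ (-i))⁻¹) *
            (((⟨y, D.ymem.1⟩ : ↥(Subgroup.normalizer (F : Set G))) ^ j : ↥(Subgroup.normalizer (F : Set G))) : G)⁻¹ =
            (((⟨y, D.ymem.1⟩ : ↥(Subgroup.normalizer (F : Set G))) ^ i : ↥(Subgroup.normalizer (F : Set G))) : G) *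
            (y ^ (-i) * a * (y ^ (-i))⁻¹) *
            (((⟨y, D.ymem.1⟩ : ↥(Subgroup.normalizer (F : Set G))) ^ i : ↥(Subgroup.normalizer (F : Set G))) : G)⁻¹ := h
        have h' : y ^ j * (y ^ (-i) * a * (y ^ (-i))⁻¹) * (y ^ j)⁻¹ =
            y ^ i * (y ^ (-i) * a * (y ^ (-i))⁻¹) * (y ^ i)⁻¹ := by
          simpa only [Subgroup.coe_zpow] using h''
        have h2 : y ^ (j - i) * a * (y ^ (j - i))⁻¹ = a := by
          rw [zpow_sub, ← zpow_neg]
          calc y ^ j * y ^ (-i) * a * (y ^ j * y ^ (-i))⁻¹ = y ^ j * (y ^ (-i) * a * (y ^ (-i))⁻¹) * (y ^ j)⁻¹ := by group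
            _ = y ^ i * (y ^ (-i) * a * (y ^ (-i))⁻¹) * (y ^ i)⁻¹ := h'
            _ = a := by group
        exact (mul_inv_eq_iff_eq_mul.mp h2).symm
      have h1 := D.free _ hc ((Commute.refl y).zpow_right _)
      rw [← hj, ← mul_one (y ^ i), ← h1, ← zpow_add, add_sub_cancel]
    refine ⟨g, fun b hb => ?_⟩
    let c1 : ↥X0 →* G := (MulAut.conj g).toMonoidHom.comp φ0
    let c2 : ↥X0 →* G := φ0.comp
      { toFun := fun b => ⟨s * b * s⁻¹, conj_mem_norm (hKN (hNy hs)) b.2⟩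
        map_one' := Subtype.ext (by simp)
        map_mul' := fun a b => Subtype.ext (by simp [mul_assoc]) }
    have hle : X0 ≤ (MonoidHom.eqLocus c1 c2).map X0.subtype := by
      refine sup_le (fun a ha => ⟨⟨a, hF0X ha⟩, ?_, rfl⟩) (Subgroup.zpowers_le.mpr ⟨⟨yM, hyX⟩, ?_, rfl⟩)
      · show g * ΦH ⟨a, hF0 ha⟩ * g⁻¹ = ΦH ⟨s * a * s⁻¹, hF0 (conj_mem_norm hsF ha)⟩
        rw [← hψ ⟨a, ha⟩, hg (ψ ⟨a, ha⟩)]
        show (ψ ((F0.normalizerMonoidHom ns) (ψ.symm (ψ ⟨a, ha⟩))) : G) = _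
        rw [MulEquiv.symm_apply_apply, hψ]
        rfl
      · show g * y * g⁻¹ = ΦH ⟨s * yM * s⁻¹, _⟩
        rw [hgy, hy, ← map_zpow]
        exact congrArg ΦH (Subtype.ext (by simpa using hi))
    obtain ⟨b', hb', e⟩ := hle b.2
    rw [show b' = b from Subtype.ext e] at hb'
    exact hb'
  have hKR : KM ≤ realised φ0 := by
    have hS : (realised φ0).subgroupOf KM = ⊤ := index_five_top (A := (HM ⊓ KM).subgroupOf KM)
      (T := Ny0.subgroupOf KM) (fun a ha => hIR ha)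
      (by rw [Nat.card_congr (Subgroup.subgroupOfEquivOfLe (inf_le_right : HM ⊓ KM ≤ KM)).toEquiv, inter_card])
      (by rw [KM_eq, model_K.card_norm model_loc tM_two]) (fun a ha => hyR ha)
      (by rw [Nat.card_congr (Subgroup.subgroupOfEquivOfLe hNy).toEquiv, (model_loc.three yM model_K.ord).2])
    exact Subgroup.subgroupOf_eq_top.mp hS
  obtain ⟨ΦK, hΦ, huniq⟩ := exists_conj_hom φ0 hone hKR
  have hagree : ∀ x (h : x ∈ HM) (k : x ∈ KM), ΦH ⟨x, h⟩ = ΦK ⟨x, k⟩ := fun x h k =>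
    (huniq ⟨x, k⟩ _ (realises_of_hom ΦH hX0 (fun b => rfl) ⟨x, h⟩)).symm
  have hinjK : Function.Injective ΦK := by
    rw [injective_iff_map_eq_one]
    intro k hk
    have hr := hΦ k
    rw [hk] at hr
    have hfix : ∀ a (ha : a ∈ X0), (k : M) * a * (k : M)⁻¹ = a := fun a ha => by
      have h := hr ⟨a, ha⟩ (conj_mem_norm (hKN k.2) ha)
      rw [one_mul, inv_one, mul_one] at h
      exact (congrArg Subtype.val (hinj h)).symm
    have hkF : (k : M) ∈ F0 := model_K.cent fun a ha => (mul_inv_eq_iff_eq_mul.mp (hfix a (hF0X ha))).symm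
    exact Subtype.ext (model_K.free _ hkF (mul_inv_eq_iff_eq_mul.mp (hfix yM hyX)).symm)
  refine ⟨⟨ΦH, ΦK, hagree, hinj, hinjK, fun g hg => ?_⟩⟩
  have hyy : ΦK ⟨yM, yM_mem.2⟩ = y := (hagree yM yM_mem.1 yM_mem.2).symm
  let f : ↥((cen yM).subgroupOf KM) → ↥(cen y) := fun k => ⟨ΦK k.1, mem_cen.mpr (by
    rw [← hyy]
    exact (show Commute (⟨yM, yM_mem.2⟩ : ↥KM) k.1 from Subtype.ext (mem_cen.mp k.2).eq).map ΦK)⟩
  have hc : cen yM ≤ KM := (centralizer_le_normalizer yM).trans hNy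
  have hbij : Function.Bijective f := (Nat.bijective_iff_injective_and_card f).mpr
    ⟨fun a b h => Subtype.ext (hinjK (congrArg Subtype.val h)), by
      rw [Nat.card_congr (Subgroup.subgroupOfEquivOfLe hc).toEquiv, (model_loc.three yM model_K.ord).1,
        (L.three y hy3).1]⟩
  obtain ⟨k, hk⟩ := hbij.2 ⟨g, mem_cen.mpr hg.symm⟩
  exact ⟨k.1, congrArg Subtype.val hk⟩

end Cfsg.Agent.MTwentyThree.Nse
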