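import Cfsg.Agent.Lib.Spor.MTwentyThreeNse.AutSixteen

/-!
The normaliser of a subgroup of order three in the automorphisms of an elementary abelian group of order sixteen
has order at most 360.
-/

set_option autoImplicit false
set_option linter.unusedSectionVars false
set_option linter.style.haveILetI false

namespace Cfsg.Agent.MTwentyThree.AEight

theorem card_norm_three {x : alternatingGroup (Fin 8)} (hx : orderOf x = 3) :
    Nat.card (Subgroup.normalizer ((Subgroup.zpowers x : Subgroup (alternatingGroup (Fin 8))) :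
      Set (alternatingGroup (Fin 8)))) ≤ 360 := by
  classical
  haveI : Fact (Nat.Prime 3) := ⟨Nat.prime_three⟩
  set σ : Equiv.Perm (Fin 8) := (x : Equiv.Perm (Fin 8))
  have hσ : orderOf σ = 3 := by rw [Subgroup.orderOf_coe]; exact hx
  obtain ⟨n, hn⟩ := Equiv.Perm.cycleType_prime_order (σ := σ) (by rw [hσ]; exact Nat.prime_three)
  rw [hσ] at hn
  have hn2 : n ≤ 1 := by
    have := σ.sum_cycleType_le
    rw [hn, Multiset.sum_replicate, Fintype.card_fin, smul_eq_mul] at this
    omega
  have hS : Nat.card (Subgroup.centralizer ({σ} : Set (Equiv.Perm (Fin 8)))) ≤ 360 := by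
    rw [Equiv.Perm.nat_card_centralizer, hn, Fintype.card_fin]
    rcases Nat.le_one_iff_eq_zero_or_eq_one.mp hn2 with rfl | rfl <;> decide +kernel
  -- a transposition of two fixed points
  obtain ⟨a, b, hab, ha, hb⟩ : ∃ a b : Fin 8, a ≠ b ∧ σ a = a ∧ σ b = b := by
    have hc : 1 < σ.supportᶜ.card := by
      rw [Finset.card_compl, Fintype.card_fin, ← σ.sum_cycleType, hn, Multiset.sum_replicate, smul_eq_mul]
      omega
    obtain ⟨a, ha, b, hb, hab⟩ := Finset.one_lt_card.mp hc
    rw [Finset.mem_compl, Equiv.Perm.notMem_support] at ha hb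
    exact ⟨a, b, hab, ha, hb⟩
  set τ := Equiv.swap a b
  have hτ : Commute τ σ := by
    refine mul_inv_eq_iff_eq_mul.mp (?_ : τ * σ * τ⁻¹ = σ)
    rw [show τ⁻¹ = Equiv.swap a b from Equiv.swap_inv a b]
    refine Equiv.ext fun i => ?_
    show Equiv.swap a b (σ (Equiv.swap a b i)) = σ i
    rcases eq_or_ne i a with rfl | hia
    · rw [Equiv.swap_apply_left, hb, Equiv.swap_apply_right, ha]
    rcases eq_or_ne i b with rfl | hib
    · rw [Equiv.swap_apply_right, ha, Equiv.swap_apply_left, hb]
    rw [Equiv.swap_apply_of_ne_of_ne hia hib, Equiv.swap_apply_of_ne_of_ne]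
    · exact fun h => hia (σ.injective (h.trans ha.symm))
    · exact fun h => hib (σ.injective (h.trans hb.symm))
  set C := Subgroup.centralizer ({x} : Set (alternatingGroup (Fin 8)))
  set S := Subgroup.centralizer ({σ} : Set (Equiv.Perm (Fin 8)))
  have hCS : ∀ c : C, ((c : alternatingGroup (Fin 8)) : Equiv.Perm (Fin 8)) ∈ S := fun c =>
    Subgroup.mem_centralizer_singleton_iff.mpr
      (congrArg Subtype.val (Subgroup.mem_centralizer_singleton_iff.mp c.2))
  have hC : Nat.card C * 2 ≤ 360 := by
    refine le_trans (le_of_eq (by rw [Nat.card_prod]; simp)) (le_trans (Nat.card_le_card_of_injective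
      (fun q : C × Bool => if q.2 then (⟨τ * _, mul_mem (Subgroup.mem_centralizer_singleton_iff.mpr hτ.eq)
        (hCS q.1)⟩ : S) else ⟨_, hCS q.1⟩) ?_) hS)
    rintro ⟨c, i⟩ ⟨d, j⟩ h
    have hsig : ∀ c : C, Equiv.Perm.sign ((c : alternatingGroup (Fin 8)) : Equiv.Perm (Fin 8)) = 1 := fun c =>
      Equiv.Perm.mem_alternatingGroup.mp c.1.2
    cases i <;> cases j <;> simp only [Bool.false_eq_true, if_false, if_true, Subtype.mk.injEq] at h
    · exact Prod.ext (Subtype.ext (Subtype.ext h)) rfl
    · have := congrArg Equiv.Perm.sign h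
      rw [map_mul, hsig, hsig, Equiv.Perm.sign_swap hab] at this
      exact absurd this (by decide)
    · have := congrArg Equiv.Perm.sign h
      rw [map_mul, hsig, hsig, Equiv.Perm.sign_swap hab] at this
      exact absurd this (by decide)
    · exact Prod.ext (Subtype.ext (Subtype.ext (mul_left_cancel h))) rfl
  -- the index of the centraliser
  set N := Subgroup.normalizer ((Subgroup.zpowers x : Subgroup (alternatingGroup (Fin 8))) :
      Set (alternatingGroup (Fin 8)))
  set f := (Subgroup.zpowers x).normalizerMonoidHom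
  have h1 : Nat.card f.range * Nat.card f.ker = Nat.card N := by rw [← Subgroup.index_ker, Subgroup.index_mul_card]
  have h2 : Nat.card f.range ≤ 2 := by
    refine le_trans (Nat.card_le_card_of_injective _ Subtype.val_injective) (le_of_eq ?_)
    haveI : IsCyclic (Subgroup.zpowers x) := Subgroup.isCyclic_zpowers x
    rw [IsCyclic.card_mulAut, Nat.card_zpowers, hx]
    rfl
  have h3 : Nat.card f.ker ≤ Nat.card C := by
    refine Nat.card_le_card_of_injective (fun g => ⟨(g.1 : alternatingGroup (Fin 8)), ?_⟩) fun g g' h =>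
      Subtype.ext (Subtype.ext (congrArg (fun c : C => (c : alternatingGroup (Fin 8))) h))
    have hg : (g : N) ∈ f.ker := g.2
    have hg : (g : alternatingGroup (Fin 8)) ∈ Subgroup.centralizer (Subgroup.zpowers x : Set _) :=
      Subgroup.mem_subgroupOf.mp ((le_of_eq (Subgroup.normalizerMonoidHom_ker _)) hg)
    exact Subgroup.mem_centralizer_singleton_iff.mpr (hg x (Subgroup.mem_zpowers x)).symm
  calc Nat.card N = Nat.card f.range * Nat.card f.ker := h1.symm
    _ ≤ 2 * Nat.card C := Nat.mul_le_mul h2 h3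
    _ ≤ 360 := by rw [mul_comm]; exact hC

theorem aut_norm_three {E : Type*} [Group E] [Finite E] (hab : ∀ a b : E, Commute a b) (h2 : ∀ a : E, a * a = 1)
    (hc : Nat.card E = 16) {α : MulAut E} (hα : orderOf α = 3) :
    Nat.card (Subgroup.normalizer ((Subgroup.zpowers α : Subgroup (MulAut E)) : Set (MulAut E))) ≤ 360 := by
  obtain ⟨θ⟩ := aut_equiv hab h2 hc
  refine le_trans (le_of_eq ?_) (card_norm_three (x := θ α) (by rw [MulEquiv.orderOf_eq, hα]))
  rw [← Subgroup.card_map_of_injective (f := θ.toMonoidHom) θ.injective, Subgroup.map_equiv_normalizer_eq,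
    MonoidHom.map_zpowers]
  rfl

end Cfsg.Agent.MTwentyThree.AEight
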