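import Cfsg.Agent.Lib.Spor.MTwentyThreeNse.FixFour
import Cfsg.Agent.Lib.Spor.MTwentyThreeNse.ThreeNorm

/-!
The normaliser of a second elementary abelian group of order sixteen in the normaliser of a core: five blocks,
order 5760, and all the semilinear automorphisms.
-/

set_option autoImplicit false
set_option maxHeartbeats 800000
set_option linter.unusedSectionVars false
set_option linter.style.haveILetI false

namespace Cfsg.Agent.MTwentyThree.Nse

open Cfsg.Agent.Solv
open scoped Pointwise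

variable {G : Type*} [Group G] [Finite G]

/-- The data of the second group of order sixteen with its element of order three. -/
structure KData (t : G) (F : Subgroup G) (y : G) : Prop where
  le : F ≤ nr t
  card : Nat.card F = 16
  comm : ∀ a ∈ F, ∀ b ∈ F, Commute a b
  sq : ∀ a ∈ F, a * a = 1
  ne : F ≠ core t
  inter : Nat.card ↥(Subgroup.normalizer (F : Set G) ⊓ nr t) = 1152
  cent : Subgroup.centralizer (F : Set G) ≤ F
  ymem : y ∈ Subgroup.normalizer (F : Set G) ⊓ nr t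
  ord : orderOf y = 3
  free : ∀ a ∈ F, Commute y a → a = 1
  conj : ∀ n ∈ Subgroup.normalizer (F : Set G) ⊓ nr t, n * y * n⁻¹ ∈ F ⊔ Subgroup.zpowers y

theorem normalizer_of_conj_le {H : Subgroup G} {g : G} (h : ∀ a ∈ H, g * a * g⁻¹ ∈ H) :
    g ∈ Subgroup.normalizer (H : Set G) :=
  Subgroup.mem_normalizer_iff_map_conj_eq.mpr (Subgroup.eq_of_le_of_card_ge
    (by rintro _ ⟨a, ha, rfl⟩; exact h a ha) (by rw [Subgroup.card_map_of_injective (MulEquiv.injective _)]))

theorem map_of_norm {H : Subgroup G} {g : G} (hg : g ∈ Subgroup.normalizer (H : Set G)) :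
    H.map (MulAut.conj g).toMonoidHom = H :=
  Subgroup.mem_normalizer_iff_map_conj_eq.mp hg

theorem conj_mem_norm {H : Subgroup G} {g a : G} (hg : g ∈ Subgroup.normalizer (H : Set G)) (ha : a ∈ H) :
    g * a * g⁻¹ ∈ H := (Subgroup.mem_normalizer_iff.mp hg a).mp ha

theorem mem_of_odd_pow {W : Subgroup G} {z : G} {m : ℕ} (hm : Odd m) (h4 : z ^ 4 = 1) (hz : z ^ m ∈ W) : z ∈ W := by
  have e : z ^ (m * m) = z := by
    obtain ⟨k, rfl⟩ := hm
    rw [show (2 * k + 1) * (2 * k + 1) = 4 * (k * k + k) + 1 by ring, pow_succ, pow_mul, h4, one_pow, one_mul]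
  rw [← e, pow_mul]
  exact Subgroup.pow_mem _ hz _

theorem three_perm {α : Type*} [Finite α] (h : Nat.card α = 3) (p q : Equiv.Perm α) (hp : p ^ 3 = 1) (hp1 : p ≠ 1)
    (hq : q ^ 3 = 1) : q = 1 ∨ q = p ∨ q = p * p := by
  have key : ∀ p q : Equiv.Perm (Fin 3), p ^ 3 = 1 → p ≠ 1 → q ^ 3 = 1 → q = 1 ∨ q = p ∨ q = p * p := by
    decide +kernel
  let e : α ≃ Fin 3 := (Finite.equivFinOfCardEq h)
  let E : Equiv.Perm α ≃* Equiv.Perm (Fin 3) :=
    { e.permCongr with map_mul' := fun a b => Equiv.ext fun i => by simp [Equiv.permCongr_apply] }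
  rcases key (E p) (E q) (by rw [← map_pow, hp, map_one]) (fun h' => hp1 (E.injective (h'.trans (map_one E).symm)))
    (by rw [← map_pow, hq, map_one]) with h' | h' | h'
  · exact Or.inl (E.injective (h'.trans (map_one E).symm))
  · exact Or.inr (Or.inl (E.injective h'))
  · exact Or.inr (Or.inr (E.injective (h'.trans (map_mul E p p).symm)))

namespace KData

variable {t y : G} {F : Subgroup G}

theorem le_norm (_D : KData t F y) : F ≤ Subgroup.normalizer (F : Set G) := Subgroup.le_normalizer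

theorem blocks (L : Loc G) (ht : orderOf t = 2) (D : KData t F y) {f : G} (hf : f ∈ F) (hf1 : f ≠ 1) :
    orderOf f = 2 ∧ Nat.card ↥(F ⊓ core f) = 4 ∧ core f ≤ Subgroup.normalizer (F : Set G) ∧ f ∈ F ⊓ core f ∧
      ∀ g ∈ F ⊓ core f, g ≠ 1 → F ⊓ core g = F ⊓ core f := by
  haveI : Fact (Nat.Prime 2) := ⟨Nat.prime_two⟩
  have ho : orderOf f = 2 := orderOf_eq_prime (by rw [pow_two]; exact D.sq f hf) hf1
  have hle : F ≤ nr f := fun a ha =>
    L.cen_le_norm ho (self_mem_core ho) hf1 (mem_cen.mpr (D.comm f hf a ha))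
  have hne : F ≠ core f := fun e => by
    have h := (L.inf_core ht D.le D.card D.comm D.sq D.ne).1
    obtain ⟨⟨u, hu⟩, hu1⟩ : ∃ u : ↥(F ⊓ core t), u ≠ 1 := by
      haveI : Nontrivial ↥(F ⊓ core t) := Finite.one_lt_card_iff_nontrivial.mp (by omega)
      exact exists_ne 1
    have hu0 : u ≠ 1 := fun h => hu1 (Subtype.ext h)
    exact D.ne (e.trans ((L.core_eq ho (e ▸ hu.1) hu0).symm.trans (L.core_eq ht hu.2 hu0)))
  obtain ⟨h4, hn⟩ := L.inf_core ho hle D.card D.comm D.sq hne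
  exact ⟨ho, h4, hn, ⟨hf, self_mem_core ho⟩, fun g hg hg1 => by rw [L.core_eq ho hg.2 hg1]⟩

/-- The blocks. -/
def Blk (F : Subgroup G) : Type _ := {B : Subgroup G // ∃ f ∈ F, f ≠ 1 ∧ B = F ⊓ core f}

instance (F : Subgroup G) : Finite (Blk F) := Subtype.finite

theorem card_blk (L : Loc G) (ht : orderOf t = 2) (D : KData t F y) : Nat.card (Blk F) = 5 := by
  classical
  let F1 := {a : F // a ≠ 1}
  have h15 : Nat.card F1 = 15 := by
    haveI := Fintype.ofFinite F
    rw [Nat.card_eq_fintype_card, Fintype.card_subtype_compl, Fintype.card_subtype_eq, ← Nat.card_eq_fintype_card,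
      D.card]
  let π : F1 → Blk F := fun a => ⟨F ⊓ core (a.1 : G), a.1, a.1.2, fun h => a.2 (Subtype.ext h), rfl⟩
  have hfib : ∀ B : Blk F, Nat.card {a : F1 // π a = B} = 3 := by
    rintro ⟨B, f, hf, hf1, rfl⟩
    obtain ⟨ho, h4, -, hmem, heq⟩ := D.blocks L ht hf hf1
    haveI := Fintype.ofFinite ↥(F ⊓ core f)
    have h3 : Nat.card {a : ↥(F ⊓ core f) // a ≠ 1} = 3 := by
      rw [Nat.card_eq_fintype_card, Fintype.card_subtype_compl, Fintype.card_subtype_eq, ← Nat.card_eq_fintype_card,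
        h4]
    rw [← h3]
    exact Nat.card_congr
      { toFun := fun a => ⟨⟨a.1.1.1, by
          have h := congrArg Subtype.val a.2
          simp only [π] at h
          refine (le_of_eq h) ?_
          exact ⟨a.1.1.2, self_mem_core (D.blocks L ht a.1.1.2 fun h => a.1.2 (Subtype.ext h)).1⟩⟩,
          fun h => a.1.2 (Subtype.ext (congrArg (fun q : ↥(F ⊓ core f) => (q : G)) h))⟩
        invFun := fun a => ⟨⟨⟨a.1.1, a.1.2.1⟩, fun h => a.2 (Subtype.ext (congrArg (fun q : F => (q : G)) h))⟩,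
          Subtype.ext (heq _ a.1.2 fun h => a.2 (Subtype.ext h))⟩
        left_inv := fun _ => rfl
        right_inv := fun _ => rfl }
  haveI := Fintype.ofFinite (Blk F)
  have h := Nat.card_congr (Equiv.sigmaFiberEquiv π)
  rw [Nat.card_sigma, Finset.sum_congr rfl fun B _ => hfib B, Finset.sum_const, smul_eq_mul, h15, Finset.card_univ,
    ← Nat.card_eq_fintype_card] at h
  omega

theorem conj_block (L : Loc G) (ht : orderOf t = 2) (D : KData t F y) {n f : G}
    (hn : n ∈ Subgroup.normalizer (F : Set G)) (hf : f ∈ F) (hf1 : f ≠ 1) :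
    (F ⊓ core f).map (MulAut.conj n).toMonoidHom = F ⊓ core (n * f * n⁻¹) := by
  rw [L.core_conj (D.blocks L ht hf hf1).1, Subgroup.map_inf _ _ _ (MulEquiv.injective _), map_of_norm hn]

/-- The action on the blocks. -/
theorem exists_block_hom (L : Loc G) (ht : orderOf t = 2) (D : KData t F y) :
    ∃ β : ↥(Subgroup.normalizer (F : Set G)) →* Equiv.Perm (Blk F),
      ∀ n B, (β n B).1 = B.1.map (MulAut.conj (n : G)).toMonoidHom := by
  have hmap : ∀ (n : ↥(Subgroup.normalizer (F : Set G))) (B : Blk F),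
      ∃ f ∈ F, f ≠ 1 ∧ B.1.map (MulAut.conj (n : G)).toMonoidHom = F ⊓ core f := by
    rintro n ⟨B, f, hf, hf1, rfl⟩
    refine ⟨_, conj_mem_norm n.2 hf, fun h => hf1 ?_, D.conj_block L ht n.2 hf hf1⟩
    simpa using h
  letI act : MulAction ↥(Subgroup.normalizer (F : Set G)) (Blk F) :=
    { smul := fun n B => ⟨B.1.map (MulAut.conj (n : G)).toMonoidHom, hmap n B⟩
      one_smul := fun B => Subtype.ext (by
        show B.1.map (MulAut.conj ((1 : ↥(Subgroup.normalizer (F : Set G))) : G)).toMonoidHom = B.1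
        ext a
        simp [Subgroup.mem_map])
      mul_smul := fun n m B => Subtype.ext (by
        show B.1.map (MulAut.conj ((n * m : ↥(Subgroup.normalizer (F : Set G))) : G)).toMonoidHom = _
        show _ = (B.1.map (MulAut.conj (m : G)).toMonoidHom).map (MulAut.conj (n : G)).toMonoidHom
        rw [Subgroup.map_map]
        congr 1
        ext a
        simp [mul_assoc]) }
  exact ⟨MulAction.toPermHom _ _, fun n B => rfl⟩

/-- The block in the core. -/
theorem exists_base (L : Loc G) (ht : orderOf t = 2) (D : KData t F y) :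
    ∃ u ∈ F, u ≠ 1 ∧ u ∈ core t ∧ core u = core t := by
  have h := (L.inf_core ht D.le D.card D.comm D.sq D.ne).1
  haveI : Nontrivial ↥(F ⊓ core t) := Finite.one_lt_card_iff_nontrivial.mp (by omega)
  obtain ⟨⟨u, hu⟩, hu1⟩ := exists_ne (1 : ↥(F ⊓ core t))
  exact ⟨u, hu.1, fun h => hu1 (Subtype.ext h), hu.2, L.core_eq ht hu.2 fun h => hu1 (Subtype.ext h)⟩

theorem stab_base (L : Loc G) (ht : orderOf t = 2) (D : KData t F y) {u n : G} (hu : u ∈ F) (hu1 : u ≠ 1)
    (hcu : core u = core t) (_hn : n ∈ Subgroup.normalizer (F : Set G))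
    (h : (F ⊓ core u).map (MulAut.conj n).toMonoidHom = F ⊓ core u) : n ∈ nr t := by
  obtain ⟨ho, -, -, hmem, -⟩ := D.blocks L ht hu hu1
  have hm : n * u * n⁻¹ ∈ F ⊓ core u := h ▸ ⟨u, hmem, rfl⟩
  refine Subgroup.mem_normalizer_iff_map_conj_eq.mpr ?_
  show (core t).map (MulAut.conj n).toMonoidHom = core t
  rw [← hcu, ← L.core_conj ho]
  exact L.core_eq ho hm.2 fun e => hu1 (by simpa using e)

/-- The normaliser has order 5760. -/
theorem card_norm (L : Loc G) (ht : orderOf t = 2) (D : KData t F y) :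
    Nat.card ↥(Subgroup.normalizer (F : Set G)) = 5760 := by
  classical
  set N := Subgroup.normalizer (F : Set G)
  obtain ⟨β, hβ⟩ := D.exists_block_hom L ht
  obtain ⟨u, hu, hu1, hut, hcu⟩ := D.exists_base L ht
  letI : MulAction ↥N (Blk F) := MulAction.compHom _ β
  have hsm : ∀ (n : ↥N) (B : Blk F), (n • B).1 = B.1.map (MulAut.conj (n : G)).toMonoidHom := hβ
  let U : Blk F := ⟨F ⊓ core u, u, hu, hu1, rfl⟩
  have hst : Nat.card (MulAction.stabilizer ↥N U) = 1152 := by
    rw [← D.inter]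
    refine Nat.card_congr
      { toFun := fun n => ⟨n.1.1, n.1.2, ?_⟩
        invFun := fun n => ⟨⟨n.1, n.2.1⟩, ?_⟩
        left_inv := fun _ => rfl
        right_inv := fun _ => rfl }
    · exact D.stab_base L ht hu hu1 hcu n.1.2 ((hsm n.1 U).symm.trans (congrArg Subtype.val n.2))
    · refine Subtype.ext ((hsm _ U).trans ?_)
      show (F ⊓ core u).map _ = F ⊓ core u
      rw [Subgroup.map_inf _ _ _ (MulEquiv.injective _), map_of_norm n.2.1, hcu, map_of_norm n.2.2]
  have hmul : Nat.card (MulAction.orbit ↥N U) * 1152 = Nat.card N := by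
    rw [← hst, ← Nat.card_prod]
    exact Nat.card_congr (MulAction.orbitProdStabilizerEquivGroup ↥N U)
  set k := Nat.card (MulAction.orbit ↥N U)
  have hk5 : k ≤ 5 := (D.card_blk L ht) ▸ Nat.card_le_card_of_injective _ Subtype.val_injective
  have hk1 : k ≠ 1 := fun hk => by
    obtain ⟨f, hf, hfE⟩ := SetLike.not_le_iff_exists.mp fun hle =>
      D.ne (Subgroup.eq_of_le_of_card_ge hle (by rw [D.card, L.card_core ht]))
    have hf1 : f ≠ 1 := fun h => hfE (h ▸ one_mem _)
    obtain ⟨ho, -, hn, -, -⟩ := D.blocks L ht hf hf1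
    haveI : Subsingleton (MulAction.orbit ↥N U) := (Nat.card_eq_one_iff_unique.mp hk).1
    have hle : core f ≤ nr t := fun e he => D.stab_base L ht hu hu1 hcu (hn he) ((hsm ⟨e, hn he⟩ U).symm.trans
      (congrArg Subtype.val (congrArg Subtype.val (Subsingleton.elim
        (⟨(⟨e, hn he⟩ : ↥N) • U, MulAction.mem_orbit _ _⟩ : MulAction.orbit ↥N U)
        ⟨U, MulAction.mem_orbit_self _⟩))))
    have hne : core f ≠ core t := fun e => hfE (e ▸ self_mem_core ho)
    have h4 := (L.inf_core ht hle (L.card_core ho) (L.core_abelian ho) (L.core_sq ho) hne).1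
    haveI : Nontrivial ↥(core f ⊓ core t) := Finite.one_lt_card_iff_nontrivial.mp (by omega)
    obtain ⟨⟨v, hv⟩, hv1⟩ := exists_ne (1 : ↥(core f ⊓ core t))
    have hv0 : v ≠ 1 := fun h => hv1 (Subtype.ext h)
    exact hne ((L.core_eq ho hv.1 hv0).symm.trans (L.core_eq ht hv.2 hv0))
  have hpos : 0 < k := by
    haveI : Nonempty (MulAction.orbit ↥N U) := ⟨⟨U, MulAction.mem_orbit_self _⟩⟩
    exact Nat.card_pos
  have hd : k * 1152 ∣ 10200960 := by rw [hmul, ← L.card]; exact Subgroup.card_subgroup_dvd_card N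
  have hd' : k ∣ 8855 := Nat.dvd_of_mul_dvd_mul_right (show 0 < 1152 by norm_num) (hd.trans (dvd_of_eq (by norm_num)))
  have : k = 5 := by interval_cases k <;> omega
  rw [← hmul, this]

/-- The group generated by the element of order three is normal. -/
theorem conj_all (L : Loc G) (ht : orderOf t = 2) (D : KData t F y) :
    ∀ n ∈ Subgroup.normalizer (F : Set G), n * y * n⁻¹ ∈ F ⊔ Subgroup.zpowers y := by
  classical
  haveI : Fact (Nat.Prime 3) := ⟨Nat.prime_three⟩
  set N := Subgroup.normalizer (F : Set G)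
  set X := F ⊔ Subgroup.zpowers y
  obtain ⟨β, hβ⟩ := D.exists_block_hom L ht
  obtain ⟨u, hu, hu1, hut, hcu⟩ := D.exists_base L ht
  set U := F ⊓ core t with hU
  have hXN : X ≤ N := sup_le D.le_norm (Subgroup.zpowers_le.mpr D.ymem.1)
  have hXI : ∀ n ∈ N ⊓ nr t, ∀ a ∈ X, n * a * n⁻¹ ∈ X := fun n hn a ha =>
    (sup_le (fun b hb => Subgroup.mem_sup_left (conj_mem_norm hn.1 hb))
      (Subgroup.zpowers_le.mpr (D.conj n hn)) : X ≤ X.comap (MulAut.conj n).toMonoidHom) ha
  -- elements of two-power order in the product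
  have hcube : ∀ a ∈ X, a ^ 3 ∈ F := by
    intro a ha
    have he : ((F ⊔ Subgroup.zpowers y : Subgroup G) : Set G) = (F : Set G) * (Subgroup.zpowers y : Set G) :=
      Subgroup.coe_mul_of_right_le_normalizer_left F _ (Subgroup.zpowers_le.mpr D.ymem.1)
    obtain ⟨f, hf, w, hw, rfl⟩ := Set.mem_mul.mp (he ▸ ha : a ∈ (F : Set G) * (Subgroup.zpowers y : Set G))
    have hwN : w ∈ N := Subgroup.zpowers_le.mpr D.ymem.1 hw
    have hw3 : w ^ 3 = 1 := by
      obtain ⟨i, rfl⟩ := hw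
      show (y ^ i) ^ 3 = 1
      rw [← zpow_natCast, ← zpow_mul, mul_comm, zpow_mul, zpow_natCast, ← D.ord, pow_orderOf_eq_one, one_zpow]
    rw [show (f * w) ^ 3 = f * (w * f * w⁻¹) * ((w * w) * f * (w * w)⁻¹) * w ^ 3 by simp [pow_succ, mul_assoc],
      hw3, mul_one]
    exact mul_mem (mul_mem hf (conj_mem_norm hwN hf)) (conj_mem_norm (mul_mem hwN hwN) hf)
  have hEX : ∀ e ∈ core t, e ∈ X → e ∈ U := fun e he hX => ⟨mem_of_odd_pow (m := 3) ⟨1, rfl⟩
    (by rw [show (4 : ℕ) = 2 * 2 from rfl, pow_mul, pow_two e, L.core_sq ht e he, one_pow]) (hcube e hX), he⟩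
  obtain ⟨-, hEN⟩ := L.inf_core ht D.le D.card D.comm D.sq D.ne
  -- the elements of order three fixing all the blocks
  have hker : ∀ (v : N), β v = 1 → ∀ B : Blk F, B.1 = B.1.map (MulAut.conj (v : G)).toMonoidHom := fun v hv B => by
    have h1 : β v B = B := congrArg (fun p : Equiv.Perm (Blk F) => p B) hv
    exact (congrArg Subtype.val h1).symm.trans (hβ v B)
  suffices key : ∀ w : N, β w = 1 → orderOf (w : G) = 3 → (w : G) ∈ X by
    haveI : Fintype (Blk F) := Fintype.ofFinite _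
    obtain ⟨w, hw⟩ := exists_prime_orderOf_dvd_card' (G := β.ker) 3 (by
      have h := card_of_hom β
      rw [D.card_norm L ht] at h
      have hd : Nat.card β.range ∣ 120 := by
        have := Subgroup.card_subgroup_dvd_card β.range
        rwa [Nat.card_perm, D.card_blk L ht] at this
      obtain ⟨q, hq⟩ := hd
      exact ⟨16 * q, Nat.eq_of_mul_eq_mul_left (Nat.card_pos (α := β.range)) (by rw [h]; nlinarith)⟩)
    have hwo : orderOf ((w : ↥N) : G) = 3 := by rw [Subgroup.orderOf_coe, Subgroup.orderOf_coe, hw]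
    have hwX := key w.1 w.2 hwo
    have hFk : F.subgroupOf N ≤ β.ker := fun f hf => by
      refine MonoidHom.mem_ker.mpr (Equiv.ext fun B => Subtype.ext ?_)
      rw [hβ, Equiv.Perm.one_apply]
      obtain ⟨B, g, hg, hg1, rfl⟩ := B
      refine Subgroup.eq_of_le_of_card_ge ?_ (by rw [Subgroup.card_map_of_injective (MulEquiv.injective _)])
      rintro _ ⟨b, hb, rfl⟩
      show (f : G) * b * (f : G)⁻¹ ∈ _
      rw [(D.comm f hf b hb.1).eq, mul_inv_cancel_right]
      exact hb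
    have hXk : X.subgroupOf N ≤ β.ker := by
      intro a ha
      have hy : (⟨y, D.ymem.1⟩ : N) ∈ β.ker := by
        have he : ((F ⊔ Subgroup.zpowers y : Subgroup G) : Set G) = (F : Set G) * (Subgroup.zpowers y : Set G) :=
          Subgroup.coe_mul_of_right_le_normalizer_left F _ (Subgroup.zpowers_le.mpr D.ymem.1)
        obtain ⟨f, hf, s, hs, he'⟩ := Set.mem_mul.mp (show ((w : ↥N) : G) ∈ (F : Set G) * (Subgroup.zpowers y : Set G) by
          rw [← he]; exact hwX)
        obtain ⟨i, rfl⟩ := (isOfFinOrder_of_finite y).mem_powers_iff_mem_zpowers.mpr hs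
        simp only at he'
        have hyi : (⟨y, D.ymem.1⟩ : N) ^ i ∈ β.ker := by
          rw [show (⟨y, D.ymem.1⟩ : N) ^ i = (⟨f, D.le_norm hf⟩ : N)⁻¹ * w.1 from Subtype.ext (by
            show y ^ i = f⁻¹ * ((w : ↥N) : G)
            rw [← he']; group)]
          exact mul_mem (inv_mem (hFk hf)) w.2
        have h3 : ¬ 3 ∣ i := fun ⟨j, hj⟩ => by
          subst hj
          have e : ((w : ↥N) : G) = f := by
            rw [← he', pow_mul, ← D.ord, pow_orderOf_eq_one, one_pow, mul_one]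
          have h2 : orderOf f ∣ 2 := orderOf_dvd_of_pow_eq_one (by rw [pow_two]; exact D.sq f hf)
          rw [← e, hwo] at h2
          norm_num at h2
        have := Subgroup.pow_mem _ hyi (i % 3)
        rw [← pow_mul] at this
        have hmod : i * (i % 3) % 3 = 1 := by
          rw [Nat.mul_mod, Nat.mod_mod]
          rcases (show i % 3 = 1 ∨ i % 3 = 2 by omega) with e | e <;> rw [e]
        rwa [← pow_mod_orderOf, show orderOf (⟨y, D.ymem.1⟩ : N) = 3 by rw [Subgroup.orderOf_mk, D.ord], hmod,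
          pow_one] at this
      have hle : X.subgroupOf N ≤ β.ker := by
        intro b hb
        have hle' : X ≤ β.ker.map N.subtype := sup_le
          (fun f hf => ⟨⟨f, D.le_norm hf⟩, hFk hf, rfl⟩) (Subgroup.zpowers_le.mpr ⟨_, hy, rfl⟩)
        obtain ⟨c, hc, hce⟩ := hle' hb
        rwa [show c = b from Subtype.ext hce] at hc
      exact hle ha
    intro n hn
    have hyk : (⟨y, D.ymem.1⟩ : N) ∈ β.ker := hXk (Subgroup.mem_sup_right (Subgroup.mem_zpowers y))
    refine key ⟨n * y * n⁻¹, mul_mem (mul_mem hn D.ymem.1) (inv_mem hn)⟩ ?_ ?_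
    · exact (MonoidHom.normal_ker β).conj_mem _ hyk ⟨n, hn⟩
    · show orderOf (MulAut.conj n y) = 3
      rw [MulEquiv.orderOf_eq, D.ord]
  intro w hwk hwo
  set z₀ : G := (w : G)
  have hblock : ∀ f ∈ F, f ≠ 1 → ∀ a ∈ F ⊓ core f, z₀ * a * z₀⁻¹ ∈ F ⊓ core f := fun f hf hf1 a ha => by
    have h := hker w hwk ⟨_, f, hf, hf1, rfl⟩
    show z₀ * a * z₀⁻¹ ∈ F ⊓ core f
    rw [show F ⊓ core f = (F ⊓ core f).map (MulAut.conj z₀).toMonoidHom from h]
    exact ⟨a, ha, rfl⟩
  have hUu : F ⊓ core u = U := by rw [hcu]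
  have hwI : z₀ ∈ nr t := D.stab_base L ht hu hu1 hcu w.2 (by
    exact (hker w hwk ⟨_, u, hu, hu1, rfl⟩).symm)
  -- the element centralises the core modulo the block
  have hmod : ∀ e ∈ core t, z₀ * e * z₀⁻¹ * e⁻¹ ∈ U := by
    intro e he
    set c := z₀ * e * z₀⁻¹ * e⁻¹
    have hcE : c ∈ core t := mul_mem (L.core_conj_mem hwI he) (inv_mem he)
    have hcN : c ∈ N := mul_mem (mul_mem (mul_mem w.2 (hEN he)) (inv_mem w.2)) (inv_mem (hEN he))
    have hck : (⟨c, hcN⟩ : N) ∈ β.ker := by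
      rw [show (⟨c, hcN⟩ : N) = w * (⟨e, hEN he⟩ * w⁻¹ * ⟨e, hEN he⟩⁻¹) from Subtype.ext (by
        show z₀ * e * z₀⁻¹ * e⁻¹ = z₀ * (e * z₀⁻¹ * e⁻¹); group)]
      exact mul_mem hwk ((MonoidHom.normal_ker β).conj_mem _ (inv_mem hwk) _)
    obtain ⟨f, hf, hfE⟩ := SetLike.not_le_iff_exists.mp fun hle =>
      D.ne (Subgroup.eq_of_le_of_card_ge hle (by rw [D.card, L.card_core ht]))
    have hf1 : f ≠ 1 := fun h => hfE (h ▸ one_mem _)
    refine ⟨D.cent fun a ha => ?_, hcE⟩
    have hcf : ∀ a ∈ F ⊓ core f, Commute a c := by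
      intro a ha
      have h1 : c * a * c⁻¹ ∈ F ⊓ core f := by
        have h := hker ⟨c, hcN⟩ (MonoidHom.mem_ker.mp hck) ⟨_, f, hf, hf1, rfl⟩
        rw [show F ⊓ core f = _ from h]
        exact ⟨a, ha, rfl⟩
      have hd : c * a * c⁻¹ * a⁻¹ ∈ core t := by
        rw [show c * a * c⁻¹ * a⁻¹ = c * (a * c⁻¹ * a⁻¹) by group]
        exact mul_mem hcE (L.core_conj_mem (D.le ha.1) (inv_mem hcE))
      by_contra hne
      have hd1 : c * a * c⁻¹ * a⁻¹ ≠ 1 := fun h => hne (mul_inv_eq_iff_eq_mul.mp (mul_inv_eq_one.mp h)).symm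
      have := L.core_eq ht hd hd1
      rw [(L.core_eq (D.blocks L ht hf hf1).1 (mul_mem h1.2 (inv_mem ha.2)) hd1)] at this
      exact hfE (this ▸ self_mem_core (D.blocks L ht hf hf1).1)
    have hab : (F : Set G) ⊆ (U : Set G) * ((F ⊓ core f : Subgroup G) : Set G) := by
      have hsup : F = U ⊔ (F ⊓ core f) := by
        refine (Subgroup.eq_of_le_of_card_ge (sup_le inf_le_left inf_le_left) ?_).symm
        have hi : U ⊓ (F ⊓ core f) = ⊥ := (Subgroup.eq_bot_iff_forall _).mpr fun a ha => by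
          by_contra ha1
          exact hfE ((L.core_eq ht ha.1.2 ha1).symm.trans (L.core_eq (D.blocks L ht hf hf1).1 ha.2.2 ha1) ▸
            self_mem_core (D.blocks L ht hf hf1).1)
        rw [D.card]
        refine le_trans (le_of_eq ?_) (Nat.card_le_card_of_injective
          (fun q : U × ↥(F ⊓ core f) => (⟨(q.1 : G) * q.2, mul_mem (Subgroup.mem_sup_left q.1.2)
            (Subgroup.mem_sup_right q.2.2)⟩ : ↥(U ⊔ (F ⊓ core f)))) ?_)
        · rw [Nat.card_prod, (D.blocks L ht hf hf1).2.1, ← hUu, (D.blocks L ht hu hu1).2.1]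
        · intro q q' h
          have hd : ∀ {a b : G}, a ∈ U → b ∈ F ⊓ core f → a * b = 1 → a = 1 ∧ b = 1 :=
            fun ha hb hab => Subgroup.disjoint_iff_mul_eq_one.mp (disjoint_iff.mpr hi) ha hb hab
          have h' : (q.1 : G) * q.2 = q'.1 * q'.2 := congrArg Subtype.val h
          obtain ⟨h1, h2⟩ := hd (mul_mem (inv_mem q'.1.2) q.1.2) (mul_mem q.2.2 (inv_mem q'.2.2))
            (by calc ((q'.1 : G))⁻¹ * q.1 * ((q.2 : G) * (q'.2 : G)⁻¹)
                  = (q'.1 : G)⁻¹ * ((q.1 : G) * q.2) * (q'.2 : G)⁻¹ := by group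
                _ = 1 := by rw [h']; group)
          exact Prod.ext (Subtype.ext (inv_mul_eq_one.mp h1).symm) (Subtype.ext (mul_inv_eq_one.mp h2))
      intro a ha
      rw [← Subgroup.coe_mul_of_right_le_normalizer_left U (F ⊓ core f) (fun b hb => normalizer_of_conj_le fun d hd => by
        rw [(D.comm b hb.1 d hd.1).eq, mul_inv_cancel_right]; exact hd), ← hsup]
      exact ha
    obtain ⟨a₁, h₁, a₂, h₂, rfl⟩ := Set.mem_mul.mp (hab ha)
    exact ((L.core_abelian ht _ h₁.2 _ hcE).mul_left (hcf a₂ h₂)).eq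
  have hymod : ∀ e ∈ core t, y * e * y⁻¹ * e⁻¹ ∈ U := fun e he => by
    refine hEX _ (mul_mem (L.core_conj_mem D.ymem.2 he) (inv_mem he)) ?_
    rw [show y * e * y⁻¹ * e⁻¹ = y * (e * y⁻¹ * e⁻¹) by group]
    exact mul_mem (Subgroup.mem_sup_right (Subgroup.mem_zpowers y))
      (hXI e ⟨hEN he, Subgroup.le_normalizer he⟩ _ (inv_mem (Subgroup.mem_sup_right (Subgroup.mem_zpowers y))))
  -- the action on the block
  let K : Subgroup G := Subgroup.normalizer (U : Set G)
  have hnU : ∀ g, g ∈ N → g ∈ nr t → g ∈ K := fun g h1 h2 => normalizer_of_conj_le fun a ha =>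
    ⟨conj_mem_norm h1 ha.1, L.core_conj_mem h2 ha.2⟩
  let U1 := {a : U // a ≠ 1}
  have hU1 : Nat.card U1 = 3 := by
    haveI := Fintype.ofFinite U
    rw [Nat.card_eq_fintype_card, Fintype.card_subtype_compl, Fintype.card_subtype_eq, ← Nat.card_eq_fintype_card,
      (L.inf_core ht D.le D.card D.comm D.sq D.ne).1]
  letI : MulAction K U1 :=
    { smul := fun g a => ⟨⟨(g : G) * a.1 * (g : G)⁻¹, conj_mem_norm g.2 a.1.2⟩, fun h => a.2 (Subtype.ext (by
        simpa using congrArg (fun q : U => (q : G)) h))⟩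
      one_smul := fun a => Subtype.ext (Subtype.ext (by show ((1 : K) : G) * (a.1 : G) * _ = _; simp))
      mul_smul := fun g k a => Subtype.ext (Subtype.ext (by
        show ((g * k : K) : G) * (a.1 : G) * ((g * k : K) : G)⁻¹ = (g : G) * ((k : G) * a.1 * (k : G)⁻¹) * (g : G)⁻¹
        simp [mul_assoc])) }
  set ρ := MulAction.toPermHom K U1
  let yK : K := ⟨y, hnU y D.ymem.1 D.ymem.2⟩
  let wK : K := ⟨z₀, hnU z₀ w.2 hwI⟩
  have hy1 : ρ yK ≠ 1 := fun h => by
    obtain ⟨a⟩ : Nonempty U1 := (Nat.card_pos_iff.mp (by omega : 0 < Nat.card U1)).1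
    have := congrArg (fun q : U1 => ((q.1 : U) : G)) (Equiv.congr_fun h a)
    exact a.2 (Subtype.ext (D.free _ a.1.2.1 (mul_inv_eq_iff_eq_mul.mp this)))
  obtain ⟨j, hj⟩ : ∃ j : ℕ, ρ (wK * yK ^ j) = 1 := by
    have hy3 : ρ yK ^ 3 = 1 := by
      rw [← map_pow, show yK ^ 3 = 1 from Subtype.ext (by
        rw [SubmonoidClass.coe_pow]; exact D.ord ▸ pow_orderOf_eq_one y), map_one]
    have hw3 : ρ wK ^ 3 = 1 := by
      rw [← map_pow, show wK ^ 3 = 1 from Subtype.ext (by
        rw [SubmonoidClass.coe_pow]; exact hwo ▸ pow_orderOf_eq_one z₀), map_one]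
    rcases three_perm hU1 _ _ hy3 hy1 hw3 with h | h | h
    · exact ⟨0, by rw [pow_zero, mul_one, h]⟩
    · exact ⟨2, by rw [map_mul, map_pow, h, ← pow_succ', hy3]⟩
    · exact ⟨1, by rw [map_mul, pow_one, h, ← pow_two, ← pow_succ, hy3]⟩
  set z := z₀ * y ^ j
  have hzU : ∀ a ∈ U, z * a * z⁻¹ = a := fun a ha => by
    by_cases ha1 : a = 1
    · rw [ha1]; group
    have := congrArg (fun q : U1 => ((q.1 : U) : G))
      (Equiv.congr_fun hj ⟨⟨a, ha⟩, fun h => ha1 (congrArg Subtype.val h)⟩)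
    exact this
  have hzI : z ∈ nr t := mul_mem hwI (Subgroup.pow_mem _ D.ymem.2 j)
  have hzmod : ∀ e ∈ core t, z * e * z⁻¹ * e⁻¹ ∈ U := fun e he => by
    have hpow : ∀ k : ℕ, ∀ e ∈ core t, y ^ k * e * (y ^ k)⁻¹ * e⁻¹ ∈ U := fun k => by
      induction k with
      | zero => intro e _; simp
      | succ k ih =>
        intro e he
        rw [show y ^ (k + 1) * e * (y ^ (k + 1))⁻¹ * e⁻¹ =
          (y * (y ^ k * e * (y ^ k)⁻¹) * y⁻¹ * (y ^ k * e * (y ^ k)⁻¹)⁻¹) * (y ^ k * e * (y ^ k)⁻¹ * e⁻¹) by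
          rw [pow_succ']; group]
        exact mul_mem (hymod _ (L.core_conj_mem (Subgroup.pow_mem _ D.ymem.2 k) he)) (ih e he)
    rw [show z * e * z⁻¹ * e⁻¹ = (z₀ * (y ^ j * e * (y ^ j)⁻¹) * z₀⁻¹ * (y ^ j * e * (y ^ j)⁻¹)⁻¹) *
      (y ^ j * e * (y ^ j)⁻¹ * e⁻¹) by simp only [z]; group]
    exact mul_mem (hmod _ (L.core_conj_mem (Subgroup.pow_mem _ D.ymem.2 j) he)) (hpow j e he)
  have hz2 : z * z ∈ core t := (le_of_eq (L.core_self_cent ht)) fun e he => by
    set d := z * e * z⁻¹ * e⁻¹ with hd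
    have hdU := hzmod e he
    have : (z * z) * e * (z * z)⁻¹ = e := by
      calc (z * z) * e * (z * z)⁻¹ = z * (d * e) * z⁻¹ := by rw [hd]; group
        _ = z * d * z⁻¹ * (z * e * z⁻¹ * e⁻¹) * e := by group
        _ = d * d * e := by rw [hzU d hdU]
        _ = e := by rw [D.sq d hdU.1, one_mul]
    exact (mul_inv_eq_iff_eq_mul.mp this).symm
  have hz4 : z ^ 4 = 1 := by
    rw [show (4 : ℕ) = 2 * 2 from rfl, pow_mul, pow_two z, pow_two]
    exact L.core_sq ht _ hz2
  have hcube3 : z ^ 3 ∈ X := by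
    have hyX : y ^ j ∈ X := Subgroup.mem_sup_right (Subgroup.pow_mem _ (Subgroup.mem_zpowers y) j)
    have hwI' : z₀ ∈ N ⊓ nr t := ⟨w.2, hwI⟩
    rw [show z ^ 3 = (z₀ * (y ^ j) * z₀⁻¹) * ((z₀ * z₀) * y ^ j * (z₀ * z₀)⁻¹) * (z₀ ^ 3) * y ^ j by
      simp only [z, pow_succ, pow_zero, one_mul]; group]
    rw [show z₀ ^ 3 = 1 from hwo ▸ pow_orderOf_eq_one z₀, mul_one]
    exact mul_mem (mul_mem (hXI z₀ hwI' _ hyX) (hXI _ (mul_mem hwI' hwI') _ hyX)) hyX
  have hzF : z ∈ F := mem_of_odd_pow (m := 9) ⟨4, rfl⟩ hz4 (by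
    rw [show (9 : ℕ) = 3 * 3 from rfl, pow_mul]; exact hcube _ hcube3)
  rw [show z₀ = z * (y ^ j)⁻¹ by simp only [z]; group]
  exact mul_mem (Subgroup.mem_sup_left hzF)
    (inv_mem (Subgroup.mem_sup_right (Subgroup.pow_mem _ (Subgroup.mem_zpowers y) j)))

/-- The normaliser of the subgroup of order three lies in the normaliser. -/
theorem norm_y_le (L : Loc G) (ht : orderOf t = 2) (D : KData t F y) :
    Subgroup.normalizer ((Subgroup.zpowers y : Subgroup G) : Set G) ≤ Subgroup.normalizer (F : Set G) := by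
  classical
  haveI : Fact (Nat.Prime 3) := ⟨Nat.prime_three⟩
  set N := Subgroup.normalizer (F : Set G)
  set Ny := Subgroup.normalizer ((Subgroup.zpowers y : Subgroup G) : Set G)
  set X := F ⊔ Subgroup.zpowers y
  have hyX : y ∈ X := Subgroup.mem_sup_right (Subgroup.mem_zpowers y)
  have hset : ((F ⊔ Subgroup.zpowers y : Subgroup G) : Set G) = (F : Set G) * (Subgroup.zpowers y : Set G) :=
    Subgroup.coe_mul_of_right_le_normalizer_left F _ (Subgroup.zpowers_le.mpr D.ymem.1)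
  have hX9 : ¬ 3 ^ 2 ∣ Nat.card X := fun h => by
    have hle : Nat.card X ≤ 48 := by
      refine le_trans (Nat.card_le_card_of_surjective (fun q : F × Subgroup.zpowers y =>
        (⟨(q.1 : G) * q.2, mul_mem (Subgroup.mem_sup_left q.1.2) (Subgroup.mem_sup_right q.2.2)⟩ : X)) ?_) ?_
      · rintro ⟨a, ha⟩
        obtain ⟨f, hf, w, hw, rfl⟩ := Set.mem_mul.mp (show a ∈ (F : Set G) * (Subgroup.zpowers y : Set G) by
          rw [← hset]; exact ha)
        exact ⟨(⟨f, hf⟩, ⟨w, hw⟩), rfl⟩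
      · rw [Nat.card_prod, D.card, Nat.card_zpowers, D.ord]
    have h16 : 16 ∣ Nat.card X := D.card ▸ Subgroup.card_dvd_of_le le_sup_left
    obtain ⟨a, ha⟩ := h
    have hpos : 0 < Nat.card X := Nat.card_pos
    omega
  have hcov : ∀ n ∈ N, ∃ f ∈ F, f⁻¹ * n ∈ Ny := by
    intro n hn
    have hu := D.conj_all L ht n hn
    obtain ⟨x, hx⟩ := exists_conj_zpowers (p := 3) (x := (⟨y, hyX⟩ : X)) (u := (⟨_, hu⟩ : X)) hX9
      (by rw [Subgroup.orderOf_mk, D.ord])
      (by rw [Subgroup.orderOf_mk, show n * y * n⁻¹ = MulAut.conj n y from rfl, MulEquiv.orderOf_eq, D.ord])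
    obtain ⟨f, hf, w, hw, hfw⟩ := Set.mem_mul.mp (show (x : G) ∈ (F : Set G) * (Subgroup.zpowers y : Set G) by
      rw [← hset]; exact x.2)
    refine ⟨f, hf, mem_norm_zpowers.mpr ?_⟩
    obtain ⟨_, ⟨i, rfl⟩, hi⟩ : (⟨_, hu⟩ : X) ∈
        (Subgroup.zpowers (⟨y, hyX⟩ : X)).map (MulAut.conj x).toMonoidHom := hx ▸ Subgroup.mem_zpowers _
    have hi' : (x : G) * y ^ i * (x : G)⁻¹ = n * y * n⁻¹ := by
      have := congrArg Subtype.val hi
      simpa using this
    obtain ⟨k, rfl⟩ := hw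
    refine ⟨i, ?_⟩
    show y ^ i = f⁻¹ * n * y * (f⁻¹ * n)⁻¹
    calc y ^ i = y ^ k * y ^ i * (y ^ k)⁻¹ := by rw [← zpow_add, add_comm, zpow_add, mul_inv_cancel_right]
      _ = f⁻¹ * ((x : G) * y ^ i * (x : G)⁻¹) * f := by rw [← hfw]; group
      _ = _ := by rw [hi']; group
  have hle : Nat.card N ≤ 16 * Nat.card ↥(N ⊓ Ny) := by
    rw [← D.card, ← Nat.card_prod]
    refine Nat.card_le_card_of_surjective (fun q : F × ↥(N ⊓ Ny) =>
      (⟨(q.1 : G) * q.2, mul_mem (D.le_norm q.1.2) q.2.2.1⟩ : N)) fun n => ?_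
    obtain ⟨f, hf, h⟩ := hcov n n.2
    exact ⟨(⟨f, hf⟩, ⟨f⁻¹ * n, Subgroup.mul_mem N (Subgroup.inv_mem N (D.le_norm hf)) n.2, h⟩), Subtype.ext (by
      show f * (f⁻¹ * (n : G)) = n; group)⟩
  rw [D.card_norm L ht] at hle
  have h := Subgroup.eq_of_le_of_card_ge (inf_le_right : N ⊓ Ny ≤ Ny) (by
    rw [(L.three y D.ord).2]; omega)
  rw [← h]
  exact inf_le_left

theorem free_norm (D : KData t F y) {a : G} (ha : a ∈ F)
    (hn : a ∈ Subgroup.normalizer ((Subgroup.zpowers y : Subgroup G) : Set G)) : a = 1 := by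
  refine D.free a ha ?_
  have h1 : y * a * y⁻¹ * a⁻¹ ∈ F := mul_mem (conj_mem_norm D.ymem.1 ha) (inv_mem ha)
  have h2 : y * a * y⁻¹ * a⁻¹ ∈ Subgroup.zpowers y := by
    rw [show y * a * y⁻¹ * a⁻¹ = y * (a * y⁻¹ * a⁻¹) by group]
    exact mul_mem (Subgroup.mem_zpowers y) (conj_mem_norm hn (inv_mem (Subgroup.mem_zpowers y)))
  have hd : orderOf (y * a * y⁻¹ * a⁻¹) ∣ Nat.gcd 2 3 := Nat.dvd_gcd
    (orderOf_dvd_of_pow_eq_one (by rw [pow_two]; exact D.sq _ h1)) (by
      have h := orderOf_dvd_natCard (⟨_, h2⟩ : Subgroup.zpowers y)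
      rwa [Subgroup.orderOf_mk, Nat.card_zpowers, D.ord] at h)
  rw [show Nat.gcd 2 3 = 1 from rfl, Nat.dvd_one, orderOf_eq_one_iff, mul_inv_eq_one] at hd
  exact mul_inv_eq_iff_eq_mul.mp hd

/-- The semilinear automorphisms are induced. -/
theorem realise (L : Loc G) (ht : orderOf t = 2) (D : KData t F y) {α : MulAut F}
    (hα : α ∈ Subgroup.normalizer ((Subgroup.zpowers (F.normalizerMonoidHom ⟨y, D.ymem.1⟩) :
      Subgroup (MulAut F)) : Set (MulAut F))) :
    ∃ g, g ∈ Subgroup.normalizer ((Subgroup.zpowers y : Subgroup G) : Set G) ∧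
      ∀ a : F, g * a * g⁻¹ = α a := by
  classical
  set Ny := Subgroup.normalizer ((Subgroup.zpowers y : Subgroup G) : Set G)
  let f : Ny →* MulAut F := F.normalizerMonoidHom.comp (Subgroup.inclusion (D.norm_y_le L ht))
  set yb := F.normalizerMonoidHom ⟨y, D.ymem.1⟩ with hy
  set NA := Subgroup.normalizer ((Subgroup.zpowers yb : Subgroup (MulAut F)) : Set (MulAut F))
  have hfy : ∀ g : Ny, f g ∈ NA := fun g => by
    obtain ⟨i, hi⟩ := mem_norm_zpowers.mp g.2
    refine mem_norm_zpowers.mpr ⟨i, ?_⟩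
    have e : ((⟨y, D.ymem.1⟩ : ↥(Subgroup.normalizer (F : Set G))) ^ i) =
        Subgroup.inclusion (D.norm_y_le L ht) g * ⟨y, D.ymem.1⟩ * (Subgroup.inclusion (D.norm_y_le L ht) g)⁻¹ :=
      Subtype.ext (by simpa using hi)
    have e' := congrArg F.normalizerMonoidHom e
    rw [map_zpow, map_mul, map_mul, map_inv] at e'
    exact e'.trans rfl
  have hfinj : Function.Injective f := by
    rw [injective_iff_map_eq_one]
    intro g hg
    have h : (g : G) ∈ Subgroup.centralizer (F : Set G) := fun a ha => by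
      have e : (g : G) * a * (g : G)⁻¹ = a :=
        congrArg (fun q : F => (q : G)) (MulEquiv.congr_fun hg (⟨a, ha⟩ : F))
      exact (mul_inv_eq_iff_eq_mul.mp e).symm
    exact Subtype.ext (D.free_norm (D.cent h) g.2)
  have hy3 : orderOf yb = 3 := by
    haveI : Fact (Nat.Prime 3) := ⟨Nat.prime_three⟩
    refine orderOf_eq_prime ?_ fun e => ?_
    · rw [hy, ← map_pow, show (⟨y, D.ymem.1⟩ : Subgroup.normalizer (F : Set G)) ^ 3 = 1 from Subtype.ext (by
        rw [SubmonoidClass.coe_pow]; exact D.ord ▸ pow_orderOf_eq_one y), map_one]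
    · have h : y ∈ F := D.cent fun a ha => by
        have h' : y * a * y⁻¹ = a := congrArg (fun q : F => (q : G)) (MulEquiv.congr_fun e (⟨a, ha⟩ : F))
        exact (mul_inv_eq_iff_eq_mul.mp h').symm
      have := D.free y h (Commute.refl y)
      have ho := D.ord
      rw [this, orderOf_one] at ho
      omega
  have hle := AEight.aut_norm_three (E := F) (fun a b => Subtype.ext (D.comm a a.2 b b.2).eq)
    (fun a => Subtype.ext (D.sq a a.2)) D.card hy3
  let f' : Ny → NA := fun g => ⟨f g, hfy g⟩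
  have hinj' : Function.Injective f' := fun a b h => hfinj (congrArg Subtype.val h)
  have hbij : Function.Bijective f' := (Nat.bijective_iff_injective_and_card f').mpr ⟨hinj',
    le_antisymm (Nat.card_le_card_of_injective f' hinj') (hle.trans (le_of_eq (L.three y D.ord).2.symm))⟩
  obtain ⟨g, hg⟩ := hbij.2 ⟨α, hα⟩
  exact ⟨g, g.2, fun a => congrArg (fun q : F => (q : G)) (MulEquiv.congr_fun (congrArg Subtype.val hg) a)⟩

end KData

end Cfsg.Agent.MTwentyThree.Nse
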