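import Cfsg.Agent.Lib.Spor.MTwentyThreeNse.Counts

/-!
The centraliser of an element of order three.
-/

set_option autoImplicit false
set_option linter.unusedSectionVars false
set_option linter.style.haveILetI false

namespace Cfsg.Agent.MTwentyThree.Nse

open Cfsg.Agent.Solv
open scoped Pointwise

theorem nine_candidates : ∀ n : Fin 49, (n : ℕ) % 5 = 1 → 3 ∣ (n : ℕ) → 30 * (n : ℕ) ∣ 1440 → (n : ℕ) = 6 := by
  decide +kernel

theorem fac_of {n p k : ℕ} (hp : p.Prime) (hn : n ≠ 0) (h1 : p ^ k ∣ n) (h2 : ¬ p ^ (k + 1) ∣ n) :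
    n.factorization p = k := by
  have a := (hp.pow_dvd_iff_le_factorization hn).1 h1
  have b := mt (hp.pow_dvd_iff_le_factorization hn).2 h2
  omega

namespace Counts

variable {G : Type*} [Group G] [Finite G] (K : Counts G)
include K

theorem two_part {x : G} (hx : orderOf x = 3) :
    ∀ (T : Subgroup G), IsPGroup 2 T → T ≤ Subgroup.centralizer ({x} : Set G) → Nat.card T ≤ 32 := by
  intro T hT hTC
  haveI : Fact (Nat.Prime 2) := ⟨Nat.prime_two⟩
  have hsq : ∀ y ∈ T, y ^ 2 = 1 := by
    intro y hy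
    obtain ⟨k, hk⟩ := IsPGroup.iff_orderOf.mp hT ⟨y, hy⟩
    rw [Subgroup.orderOf_mk] at hk
    by_contra hne
    have hk2 : 2 ≤ k := by
      by_contra h
      exact hne (orderOf_dvd_iff_pow_eq_one.mp (hk ▸ by
        rcases (by omega : k = 0 ∨ k = 1) with rfl | rfl <;> norm_num))
    have h4 : orderOf (y ^ 2 ^ (k - 2)) = 4 := by
      rw [orderOf_pow_of_dvd (pow_ne_zero _ two_ne_zero) (hk ▸ pow_dvd_pow 2 (by omega)), hk,
        Nat.pow_div (by omega) two_pos, show k - (k - 2) = 2 by omega]
      norm_num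
    exact K.not_comm hx h4 (by norm_num) (by decide)
      ((show Commute x y from (Subgroup.mem_centralizer_singleton_iff.mp (hTC hy)).symm).pow_right _)
  obtain ⟨S, hS⟩ := hT.exists_le_sylow
  have hSc : Nat.card S = 128 := by
    rw [S.card_eq_multiplicity, show (Nat.card G).factorization 2 = 7 by
      exact fac_of Nat.prime_two (by rw [K.card]; norm_num) (by rw [K.card]; norm_num) (by rw [K.card]; norm_num)]
    norm_num
  obtain ⟨g, hg⟩ := K.eight
  obtain ⟨U, hU⟩ := (IsPGroup.of_card (n := 3) (by rw [Nat.card_zpowers, hg]; rfl) :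
    IsPGroup 2 (Subgroup.zpowers g)).exists_le_sylow
  obtain ⟨c, hc⟩ := MulAction.exists_smul_eq G U S
  set a := c * g * c⁻¹ with ha
  have haS : a ∈ (S : Subgroup G) := hc ▸ ⟨g, hU (Subgroup.mem_zpowers g), rfl⟩
  have hao : orderOf a = 8 := by rw [show a = MulAut.conj c g from rfl, MulEquiv.orderOf_eq, hg]
  have hA : Subgroup.zpowers a ≤ S := Subgroup.zpowers_le.mpr haS
  have hinf : Nat.card (T ⊓ Subgroup.zpowers a : Subgroup G) ≤ 2 := by
    haveI : IsCyclic (T ⊓ Subgroup.zpowers a : Subgroup G) := Subgroup.isCyclic_of_le inf_le_right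
    obtain ⟨z, hz⟩ := IsCyclic.exists_generator (α := (T ⊓ Subgroup.zpowers a : Subgroup G))
    rw [← orderOf_eq_card_of_forall_mem_zpowers hz]
    exact Nat.le_of_dvd two_pos (orderOf_dvd_of_pow_eq_one (Subtype.ext (hsq _ z.2.1)))
  have hne : T.relIndex (S : Subgroup G) ≠ 0 := Subgroup.index_ne_zero_of_finite
  have hle := Subgroup.relIndex_le_of_le_right hA hne
  have e1 : T.relIndex (S : Subgroup G) * Nat.card T = 128 := by
    rw [← hSc, ← Nat.card_congr (Subgroup.subgroupOfEquivOfLe hS).toEquiv, Subgroup.relIndex, mul_comm,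
      Subgroup.card_mul_index]
  have e2 : T.relIndex (Subgroup.zpowers a) * Nat.card (T ⊓ Subgroup.zpowers a : Subgroup G) = 8 := by
    rw [← hao, ← Nat.card_zpowers a, ← Subgroup.inf_relIndex_right,
      ← Nat.card_congr (Subgroup.subgroupOfEquivOfLe (inf_le_right : T ⊓ Subgroup.zpowers a ≤ _)).toEquiv,
      Subgroup.relIndex, mul_comm, Subgroup.card_mul_index]
  have h4 : 4 ≤ T.relIndex (Subgroup.zpowers a) := by nlinarith
  nlinarith

theorem cent_le {x : G} (hx : orderOf x = 3) :
    Nat.card (Subgroup.centralizer ({x} : Set G)) ∣ 1440 ∧ 9 ∣ Nat.card (Subgroup.centralizer ({x} : Set G)) := by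
  haveI : Fact (Nat.Prime 7) := ⟨by norm_num⟩
  haveI : Fact (Nat.Prime 11) := ⟨by norm_num⟩
  haveI : Fact (Nat.Prime 23) := ⟨by norm_num⟩
  haveI : Fact (Nat.Prime 3) := ⟨by norm_num⟩
  haveI : Fact (Nat.Prime 2) := ⟨Nat.prime_two⟩
  have h7 := K.not_dvd_cent (p := 7) hx (by norm_num) (by decide)
  have h11 := K.not_dvd_cent (p := 11) hx (by norm_num) (by decide)
  have h23 := K.not_dvd_cent (p := 23) hx (by norm_num) (by decide)
  set C := Subgroup.centralizer ({x} : Set G) with hC
  have hd : Nat.card C ∣ 5760 * (7 * 11 * 23) := by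
    have := Subgroup.card_subgroup_dvd_card C
    rwa [K.card] at this
  have hco : (Nat.card C).Coprime (7 * 11 * 23) := by
    refine Nat.Coprime.mul_right (Nat.Coprime.mul_right ?_ ?_) ?_ <;>
      exact ((Fact.out : Nat.Prime _).coprime_iff_not_dvd.mpr (by assumption)).symm
  have hd' := hco.dvd_of_dvd_mul_right hd
  have h2 : ¬ 2 ^ 6 ∣ Nat.card C := fun h => by
    obtain ⟨T, hT⟩ := Sylow.exists_subgroup_card_pow_prime 2 h
    have := K.two_part hx (T.map C.subtype) ((IsPGroup.of_card hT).map _) (Subgroup.map_subtype_le T)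
    rw [Subgroup.card_map_of_injective C.subtype_injective, hT] at this
    norm_num at this
  refine ⟨?_, ?_⟩
  · obtain ⟨q, hq⟩ := hd'
    have hq4 : 4 ∣ q := by
      by_contra h4
      refine h2 ?_
      have h64 : 2 ^ 7 ∣ Nat.card C * q := by rw [← hq]; norm_num
      obtain ⟨i, j, hi, hj, hij⟩ := (dvd_mul.mp h64)
      obtain ⟨a, ha, rfl⟩ := (Nat.dvd_prime_pow Nat.prime_two).mp (hij ▸ dvd_mul_right i j : i ∣ 2 ^ 7)
      obtain ⟨b, hb, rfl⟩ := (Nat.dvd_prime_pow Nat.prime_two).mp (hij ▸ dvd_mul_left j (2 ^ a) : j ∣ 2 ^ 7)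
      have hb1 : b ≤ 1 := by
        by_contra hb1
        exact h4 (dvd_trans (pow_dvd_pow 2 (by omega : 2 ≤ b)) hj)
      rw [← pow_add] at hij
      have := Nat.pow_right_injective le_rfl hij
      exact dvd_trans (pow_dvd_pow 2 (by omega)) hi
    obtain ⟨r, rfl⟩ := hq4
    exact ⟨r, by linarith⟩
  · obtain ⟨S, hS⟩ := (IsPGroup.of_card (n := 1) (by rw [Nat.card_zpowers, hx, pow_one]) :
      IsPGroup 3 (Subgroup.zpowers x)).exists_le_sylow
    have hSc : Nat.card S = 3 ^ 2 := by
      rw [S.card_eq_multiplicity, show (Nat.card G).factorization 3 = 2 by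
        exact fac_of Nat.prime_three (by rw [K.card]; norm_num) (by rw [K.card]; norm_num) (by rw [K.card]; norm_num)]
    have hle : (S : Subgroup G) ≤ C := fun y hy => Subgroup.mem_centralizer_singleton_iff.mpr
      (congrArg Subtype.val ((IsPGroup.isMulCommutative_of_card_eq_prime_sq hSc).is_comm.comm ⟨y, hy⟩ ⟨x, hS (Subgroup.mem_zpowers x)⟩))
    have := Subgroup.card_dvd_of_le hle
    rwa [hSc] at this

theorem three_with_five : ∃ x : G, orderOf x = 3 ∧ Nat.card (Subgroup.centralizer ({x} : Set G)) = 180 := by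
  haveI : Fact (Nat.Prime 5) := ⟨by norm_num⟩
  haveI : Fact (Nat.Prime 2) := ⟨Nat.prime_two⟩
  obtain ⟨f, hf⟩ := exists_prime_orderOf_dvd_card' (G := G) 5 (by rw [K.card]; norm_num)
  obtain ⟨x, hx, hfx, hcf⟩ := K.five_three hf
  refine ⟨x, hx, ?_⟩
  set C := Subgroup.centralizer ({x} : Set G) with hC
  obtain ⟨hd, h9⟩ := K.cent_le hx
  have hfC : f ∈ C := Subgroup.mem_centralizer_singleton_iff.mpr hfx.eq
  set F := Subgroup.zpowers f with hF
  set Cf := Subgroup.centralizer ({f} : Set G) with hCf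
  set N := Subgroup.normalizer (F : Set G) with hN
  have hNc : Nat.card N = 60 := K.five_norm hf
  let xf : Cf := ⟨x, Subgroup.mem_centralizer_singleton_iff.mpr hfx.symm.eq⟩
  -- the conjugates of `x` under the normaliser
  have hconj : ∀ n ∈ N, n * x * n⁻¹ = x ∨ n * x * n⁻¹ = x⁻¹ := by
    intro n hn
    have hn' : n * x * n⁻¹ ∈ Cf := by
      obtain ⟨i, hi⟩ := (Subgroup.mem_normalizer_iff.mp hn (n⁻¹ * f * n)).mpr (by
        simp [mul_assoc, hF, Subgroup.mem_zpowers])
      refine Subgroup.mem_centralizer_singleton_iff.mpr ?_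
      have h1 : Commute x (n⁻¹ * f * n) := by rw [← hi]; exact (hfx.zpow_left i).symm
      have h2 := h1.map (MulAut.conj n).toMonoidHom
      simpa [mul_assoc] using h2.eq
    haveI : IsCyclic Cf := by
      refine isCyclic_of_orderOf_eq_card (⟨f * x, mul_mem (Subgroup.mem_centralizer_singleton_iff.mpr rfl) xf.2⟩) ?_
      rw [Subgroup.orderOf_mk, hfx.orderOf_mul_eq_mul_orderOf_of_coprime (by rw [hf, hx]; norm_num), hf, hx, hcf]
    have hxf : orderOf xf = 3 := by rw [Subgroup.orderOf_mk, hx]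
    have hyf : orderOf (⟨_, hn'⟩ : Cf) = 3 := by
      rw [Subgroup.orderOf_mk, show n * x * n⁻¹ = MulAut.conj n x from rfl, MulEquiv.orderOf_eq, hx]
    have e : Subgroup.zpowers (⟨_, hn'⟩ : Cf) = Subgroup.zpowers xf := by
      classical
      haveI := Fintype.ofFinite Cf
      have key : ∀ a : Cf, orderOf a = 3 →
          ∀ g : Cf, g ∈ Subgroup.zpowers a ↔ g ∈ (Finset.univ.filter fun g : Cf => g ^ 3 = 1) := by
        intro a ha g
        have hsub : (Subgroup.zpowers a : Set Cf).toFinset ⊆ Finset.univ.filter fun g : Cf => g ^ 3 = 1 := by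
          intro b hb
          rw [Set.mem_toFinset] at hb
          obtain ⟨i, rfl⟩ := hb
          refine Finset.mem_filter.mpr ⟨Finset.mem_univ _, ?_⟩
          rw [← zpow_natCast, ← zpow_mul, mul_comm, zpow_mul, zpow_natCast, ← ha, pow_orderOf_eq_one, one_zpow]
        have hcard : (Subgroup.zpowers a : Set Cf).toFinset.card = 3 := by
          rw [Set.toFinset_card, ← Nat.card_eq_fintype_card]
          exact (Nat.card_zpowers a).trans ha
        rw [← Finset.eq_of_subset_of_card_le hsub ((IsCyclic.card_pow_eq_one_le (by norm_num)).trans hcard.ge),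
          Set.mem_toFinset]
        rfl
      exact Subgroup.ext fun g => (key _ hyf g).trans (key _ hxf g).symm
    obtain ⟨i, hi⟩ : (⟨_, hn'⟩ : Cf) ∈ Subgroup.zpowers xf := e ▸ Subgroup.mem_zpowers _
    have hi' : x ^ i = n * x * n⁻¹ := congrArg Subtype.val hi
    have h3 : x ^ 3 = 1 := hx ▸ pow_orderOf_eq_one x
    have hmod : x ^ i = x ^ (i % 3) := by
      conv_lhs => rw [← Int.emod_add_mul_ediv i 3]
      rw [zpow_add, zpow_mul, show (3 : ℤ) = ((3 : ℕ) : ℤ) from rfl, zpow_natCast, h3, one_zpow, mul_one]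
    rw [hmod] at hi'
    rcases (by omega : i % 3 = 0 ∨ i % 3 = 1 ∨ i % 3 = 2) with h | h | h <;> rw [h] at hi'
    · exfalso
      rw [zpow_zero] at hi'
      have : x = 1 := by simpa using hi'.symm
      rw [this, orderOf_one] at hx
      norm_num at hx
    · left; rw [← hi', zpow_one]
    · right; rw [← hi', show (2 : ℤ) = ((2 : ℕ) : ℤ) from rfl, zpow_natCast]
      exact eq_inv_of_mul_eq_one_left (by rw [← pow_succ, h3])
  -- its part centralising x
  set D := N ⊓ C with hD
  have hidx : (C.subgroupOf N).index ≤ 2 := by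
    have hsub : ∀ a b : N, a ∉ C.subgroupOf N → b ∉ C.subgroupOf N → a⁻¹ * b ∈ C.subgroupOf N := by
      intro a b ha hb
      rw [Subgroup.mem_subgroupOf] at ha hb ⊢
      have key : ∀ n : N, (n : G) ∉ C → (n : G) * x * (n : G)⁻¹ = x⁻¹ := fun n hn => by
        rcases hconj n n.2 with h | h
        · exact absurd (Subgroup.mem_centralizer_singleton_iff.mpr (eq_mul_inv_iff_mul_eq.mp h.symm).symm) hn
        · exact h
      refine Subgroup.mem_centralizer_singleton_iff.mpr ?_
      have e : ((a : G)⁻¹ * b) * x * ((a : G)⁻¹ * b)⁻¹ = x := by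
        calc _ = (a : G)⁻¹ * ((b : G) * x * (b : G)⁻¹) * a := by group
          _ = (a : G)⁻¹ * ((a : G) * x * (a : G)⁻¹) * a := by rw [key a ha, key b hb]
          _ = x := by group
      exact mul_inv_eq_iff_eq_mul.mp e
    by_cases h : ∃ a : N, a ∉ C.subgroupOf N
    · obtain ⟨a, ha⟩ := h
      rw [Subgroup.index]
      refine le_trans (Nat.card_le_card_of_surjective
        (fun b : Fin 2 => ((if b = 0 then 1 else a : N) : N ⧸ C.subgroupOf N)) ?_) (by simp)
      intro q
      obtain ⟨b, rfl⟩ := QuotientGroup.mk_surjective q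
      by_cases hb : b ∈ C.subgroupOf N
      · exact ⟨0, QuotientGroup.eq.mpr (by simpa using hb)⟩
      · exact ⟨1, QuotientGroup.eq.mpr (by simpa using hsub a b ha hb)⟩
    · push Not at h
      rw [Subgroup.index_eq_one.mpr (eq_top_iff.mpr fun b _ => h b)]
      norm_num
  have hDc : Nat.card D = 30 := by
    have e : Nat.card (C.subgroupOf N) = Nat.card D := by
      rw [← Nat.card_congr (Subgroup.subgroupOfEquivOfLe (inf_le_left : D ≤ N)).toEquiv]
      congr 2
      simp
    have h1 := Subgroup.card_mul_index (C.subgroupOf N)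
    rw [e, hNc] at h1
    have hne : Nat.card D ≠ 60 := fun h60 => by
      -- a Sylow two-subgroup is elementary and embeds in a cyclic group
      obtain ⟨T, hT⟩ := Sylow.exists_subgroup_card_pow_prime (G := D) 2 (n := 2) (by rw [h60]; norm_num)
      set T' := T.map D.subtype with hT'
      have hT'c : Nat.card T' = 4 := by rw [Subgroup.card_map_of_injective D.subtype_injective, hT]; norm_num
      have hTle : ∀ y ∈ T', y ∈ N ∧ y ∈ C := fun y hy => Subgroup.map_subtype_le T hy
      let φ : T' →* MulAut F := (Subgroup.normalizerMonoidHom F).comp (Subgroup.inclusion fun y hy => (hTle y hy).1)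
      have hinj : Function.Injective φ := by
        rw [injective_iff_map_eq_one]
        intro y hy
        have hyC : (y : G) ∈ Cf := by
          refine Subgroup.mem_centralizer_singleton_iff.mpr ?_
          have := congrArg (fun a : MulAut F => ((a ⟨f, Subgroup.mem_zpowers f⟩ : F) : G)) hy
          have e2 : (y : G) * f * (y : G)⁻¹ = f := by simpa [φ] using this
          exact mul_inv_eq_iff_eq_mul.mp e2
        have hd1 : orderOf (y : G) ∣ 4 := by
          rw [Subgroup.orderOf_coe, ← hT'c]; exact orderOf_dvd_natCard y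
        have hd2 : orderOf (y : G) ∣ 15 := by
          rw [← hcf, ← Subgroup.orderOf_mk (H := Cf) _ hyC]
          exact orderOf_dvd_natCard _
        have := Nat.dvd_gcd hd1 hd2
        exact Subtype.ext (orderOf_eq_one_iff.mp (Nat.dvd_one.mp this))
      haveI : IsCyclic F := Subgroup.isCyclic_zpowers f
      have hcF : Nat.card F = 5 := by rw [Nat.card_zpowers, hf]
      haveI : IsCyclic (ZMod (Nat.card F))ˣ := hcF.symm ▸ ZMod.isCyclic_units_prime (by norm_num)
      let e := IsCyclic.mulAutMulEquiv F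
      haveI : IsCyclic T' := isCyclic_of_injective ((e.toMonoidHom).comp φ) (e.injective.comp hinj)
      obtain ⟨y, hy⟩ := IsCyclic.exists_generator (α := T')
      have hyo : orderOf (y : G) = 4 := by rw [Subgroup.orderOf_coe, orderOf_eq_card_of_forall_mem_zpowers hy, hT'c]
      exact K.not_comm hx hyo (by norm_num) (by decide)
        (Subgroup.mem_centralizer_singleton_iff.mp (hTle y y.2).2).symm
    obtain ⟨i, hi⟩ : ∃ i, (C.subgroupOf N).index = i := ⟨_, rfl⟩
    rw [hi] at h1 hidx
    interval_cases i <;> omega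
  -- Sylow counting in the centraliser
  haveI : Fact (Nat.Prime 5) := ⟨by norm_num⟩
  have hfac : (Nat.card C).factorization 5 = 1 := by
    refine fac_of Fact.out Nat.card_pos.ne' ?_ fun h => ?_
    · rw [pow_one, ← hf, ← Subgroup.orderOf_mk (H := C) f hfC]; exact orderOf_dvd_natCard _
    · exact absurd (h.trans hd) (by norm_num)
  let P : Sylow 5 C := Sylow.ofCard (Subgroup.zpowers (⟨f, hfC⟩ : C))
    (by rw [Nat.card_zpowers, Subgroup.orderOf_mk, hf, hfac, pow_one])
  have hn1 := card_sylow_modEq_one 5 C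
  have hn2 : Nat.card (Sylow 5 C) * 30 = Nat.card C := by
    rw [P.card_eq_index_normalizer, ← hDc,
      show Nat.card D = Nat.card (Subgroup.normalizer ((P : Subgroup C) : Set C)) from ?_]
    · exact Subgroup.index_mul_card _
    refine (Nat.card_congr (Equiv.ofBijective (fun c : Subgroup.normalizer ((P : Subgroup C) : Set C) =>
      (⟨((c : C) : G), ?_, (c : C).2⟩ : D)) ⟨fun a b e => Subtype.ext
      (Subtype.ext (Subtype.mk.inj e)), fun d => ⟨⟨⟨d.1, d.2.2⟩, ?_⟩, rfl⟩⟩)).symm
    · have h := Subgroup.mem_normalizer_iff_map_conj_eq.mp c.2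
      refine Subgroup.mem_normalizer_iff_map_conj_eq.mpr ?_
      have h2 := congrArg (Subgroup.map C.subtype) h
      simp only [P, Sylow.coe_ofCard, MonoidHom.map_zpowers] at h2
      rw [MonoidHom.map_zpowers]
      exact h2
    · refine Subgroup.mem_normalizer_iff_map_conj_eq.mpr (Subgroup.map_injective C.subtype_injective ?_)
      have h2 : (Subgroup.zpowers f).map (MulAut.conj (d : G)).toMonoidHom = Subgroup.zpowers f :=
        Subgroup.mem_normalizer_iff_map_conj_eq.mp d.2.1
      simp only [P, Sylow.coe_ofCard, MonoidHom.map_zpowers] at h2 ⊢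
      exact h2
  change Nat.card C ∣ 1440 at hd
  change 9 ∣ Nat.card C at h9
  have hle := Nat.le_of_dvd (by norm_num) hd
  have h3 : 3 ∣ Nat.card (Sylow 5 C) := by
    obtain ⟨m, hm⟩ := h9
    exact ⟨Nat.card (Sylow 5 C) / 3, by omega⟩
  have := nine_candidates ⟨Nat.card (Sylow 5 C), by omega⟩ hn1 h3 (by rw [mul_comm, hn2]; exact hd)
  simp only at this
  omega

theorem loc : Loc G := by
  obtain ⟨x₀, hx₀, hc₀⟩ := K.three_with_five
  have he := conj_card_mul x₀
  rw [hc₀, K.card] at he
  have hconj : ∀ x : G, orderOf x = 3 → IsConj x₀ x := by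
    classical
    have ho : ∀ g : G, IsConj x₀ g → orderOf g = 3 := fun g h => by
      obtain ⟨c, rfl⟩ := isConj_iff.mp h
      rw [show c * x₀ * c⁻¹ = MulAut.conj c x₀ from rfl, MulEquiv.orderOf_eq, hx₀]
    have hcard : Nat.card {g : G // IsConj x₀ g} = Nat.card {g : G // orderOf g = 3} := by
      show _ = CV.cnt G 3
      rw [K.three]; omega
    have hbij := (Function.Injective.bijective_of_nat_card_le
      (f := fun g : {g : G // IsConj x₀ g} => (⟨g.1, ho g.1 g.2⟩ : {g : G // orderOf g = 3}))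
      (fun a b e => Subtype.ext (Subtype.mk.inj e)) hcard.ge)
    intro x hx
    obtain ⟨⟨g, hg⟩, e⟩ := hbij.2 ⟨x, hx⟩
    exact (Subtype.mk.inj e) ▸ hg
  refine ⟨K.card, fun t u => K.invol_conj, fun t => K.invol_cent,
    fun x hx => ⟨K.seven_cent hx, K.seven_norm hx⟩, fun x hx => ?_⟩
  have hc : Nat.card (Subgroup.centralizer ({x} : Set G)) = 180 := by
    have e1 := conj_card_mul x
    have : Nat.card {g : G // IsConj x g} = 56672 := by
      rw [← K.three]
      refine Nat.card_congr (Equiv.subtypeEquivRight fun g => ⟨fun h => ?_, fun h => (hconj x hx).symm.trans (hconj g h)⟩)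
      obtain ⟨c, rfl⟩ := isConj_iff.mp h
      rw [show c * x * c⁻¹ = MulAut.conj c x from rfl, MulEquiv.orderOf_eq, hx]
    rw [this, K.card] at e1
    omega
  refine ⟨hc, ?_⟩
  obtain ⟨w, hw⟩ := isConj_iff.mp ((hconj x hx).symm.trans (hconj x⁻¹ (by rw [orderOf_inv, hx])))
  set C := Subgroup.centralizer ({x} : Set G) with hCdef
  set N := Subgroup.normalizer ((Subgroup.zpowers x : Subgroup G) : Set G) with hNdef
  have hwN : w ∈ N := by
    rw [hNdef, Subgroup.mem_normalizer_iff_map_conj_eq, MonoidHom.map_zpowers]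
    show Subgroup.zpowers (w * x * w⁻¹) = _
    rw [hw, Subgroup.zpowers_inv]
  have h3 : x ^ 3 = 1 := hx ▸ pow_orderOf_eq_one x
  have hidx : (C.subgroupOf N).index = 2 := by
    refine Subgroup.index_eq_two_iff.mpr ⟨⟨w, hwN⟩, fun b => ?_⟩
    have hb : (b : G) * x * (b : G)⁻¹ = x ∨ (b : G) * x * (b : G)⁻¹ = x⁻¹ := by
      obtain ⟨i, hi⟩ := (Subgroup.mem_normalizer_iff.mp b.2 x).mp (Subgroup.mem_zpowers x)
      have hi' : x ^ i = (b : G) * x * (b : G)⁻¹ := hi
      have hmod : x ^ i = x ^ (i % 3) := by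
        conv_lhs => rw [← Int.emod_add_mul_ediv i 3]
        rw [zpow_add, zpow_mul, show (3 : ℤ) = ((3 : ℕ) : ℤ) from rfl, zpow_natCast, h3, one_zpow, mul_one]
      rw [hmod] at hi'
      rcases (by omega : i % 3 = 0 ∨ i % 3 = 1 ∨ i % 3 = 2) with h | h | h <;> rw [h] at hi'
      · exfalso
        rw [zpow_zero] at hi'
        have : x = 1 := by simpa using hi'.symm
        rw [this, orderOf_one] at hx
        norm_num at hx
      · left; rw [← hi', zpow_one]
      · right; rw [← hi', show (2 : ℤ) = ((2 : ℕ) : ℤ) from rfl, zpow_natCast]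
        exact eq_inv_of_mul_eq_one_left (by rw [← pow_succ, h3])
    have hxi : x⁻¹ ≠ x := fun e => by
      have h2 : x ^ 2 = 1 := by rw [pow_two]; exact mul_eq_one_iff_inv_eq.mpr e
      have := orderOf_dvd_of_pow_eq_one h2
      rw [hx] at this
      omega
    have iffC : ∀ g : G, g ∈ C ↔ g * x * g⁻¹ = x := fun g => by
      rw [hCdef, Subgroup.mem_centralizer_singleton_iff, mul_inv_eq_iff_eq_mul]
    have e2 : ((b : G) * w) * x * ((b : G) * w)⁻¹ = ((b : G) * x * (b : G)⁻¹)⁻¹ := by
      calc _ = (b : G) * (w * x * w⁻¹) * (b : G)⁻¹ := by group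
        _ = _ := by rw [hw]; group
    simp only [Subgroup.mem_subgroupOf, Subgroup.coe_mul, iffC, e2]
    rcases hb with h | h
    · exact Or.inr ⟨h, by rw [h]; exact hxi⟩
    · exact Or.inl ⟨by rw [h, inv_inv], by rw [h]; exact hxi⟩
  have h := Subgroup.card_mul_index (C.subgroupOf N)
  rw [hidx, Nat.card_congr (Subgroup.subgroupOfEquivOfLe (centralizer_le_normalizer x)).toEquiv, hc] at h
  exact h.symm

end Counts

end Cfsg.Agent.MTwentyThree.Nse
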