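import Cfsg.Agent.Lib.Spor.MTwentyThreeNse.ModelPoints
import Cfsg.Agent.Lib.Spor.MTwentyThreeNse.ModelLists
import Cfsg.Agent.Lib.Spor.MTwentyThreeNse.FromValues
import Cfsg.Agent.Lib.Spor.MTwentyThreeNse.ThreeCent
import Cfsg.Agent.Lib.Local.FS.MathieuPerms

/-!
The element numbers of the Mathieu group of degree twenty-three.
-/

set_option autoImplicit false
set_option maxRecDepth 100000
set_option linter.unusedSectionVars false
set_option linter.style.haveILetI false

namespace Cfsg.Agent.MTwentyThree.Nse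

open Cfsg Cfsg.Agent.Spor Cfsg.Agent.Solv Amal

theorem card_M : Nat.card ↥Spor.M23 = 10200960 := Local.FS.Mathieu.card_m23

theorem two_lower : 3795 ≤ CV.cnt ↥Spor.M23 2 := by
  classical
  let O := {o : Finset GolayPt // o ∈ octads ∧ (none : GolayPt) ∈ o}
  have hO : Nat.card O = 253 := by
    rw [Nat.card_eq_fintype_card]
    have : (Finset.univ.filter fun m : Fin 759 => Nat.testBit (octMasks.getD m 0) 23).card = 253 := by decide +kernel
    rw [← this, ← Fintype.card_coe]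
    let f : {m // m ∈ Finset.univ.filter fun m : Fin 759 => Nat.testBit (octMasks.getD m 0) 23} → O := fun m =>
      ⟨ofMask (octMasks.getD m.1 0), by
        have hm : octMasks.getD m.1 0 ∈ octMasks := by
          rw [List.getD_eq_getElem _ _ (by rw [octMasks_length]; exact m.1.2)]; exact List.getElem_mem _
        rw [mem_octads, mask_ofMask (octMasks_lt hm)]; exact hm, by
        rw [mem_ofMask]
        exact (Finset.mem_filter.mp m.2).2⟩
    refine Fintype.card_congr (Equiv.ofBijective f ⟨?_, ?_⟩).symm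
    · intro a b h
      have hm : ∀ m : Fin 759, octMasks.getD m 0 < 2 ^ 24 := fun m => octMasks_lt (by
        rw [List.getD_eq_getElem _ _ (by rw [octMasks_length]; exact m.2)]; exact List.getElem_mem _)
      have e := congrArg (fun o : O => mask o.1) h
      simp only [f] at e
      simp only [mask_ofMask (hm _)] at e
      rw [List.getD_eq_getElem _ _ (by rw [octMasks_length]; exact a.1.2),
        List.getD_eq_getElem _ _ (by rw [octMasks_length]; exact b.1.2)] at e
      exact Subtype.ext (Fin.ext ((octMasks_nodup.getElem_inj_iff).mp e))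
    · rintro ⟨o, ho, hn⟩
      obtain ⟨i, hi, e⟩ := List.mem_iff_getElem.mp (mem_octads.mp ho)
      rw [octMasks_length] at hi
      have hd : octMasks.getD i 0 = mask o := by rw [List.getD_eq_getElem _ _ (by rw [octMasks_length]; exact hi), e]
      refine ⟨⟨⟨i, hi⟩, Finset.mem_filter.mpr ⟨Finset.mem_univ _, ?_⟩⟩, Subtype.ext ?_⟩
      · show Nat.testBit (octMasks.getD i 0) 23 = true
        rw [hd, testBit_mask]
        exact ⟨none, hn, rfl⟩
      · show ofMask (octMasks.getD i 0) = o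
        rw [hd, ofMask_mask]
  let S := Σ o : O, {g : ↥(fixM o.1) // g ≠ 1}
  have hS : Nat.card S = 3795 := by
    haveI := Fintype.ofFinite O
    have hf : ∀ o : O, Nat.card {g : ↥(fixM o.1) // g ≠ 1} = 15 := fun o => by
      haveI := Fintype.ofFinite ↥(fixM o.1)
      rw [Nat.card_eq_fintype_card, Fintype.card_subtype_compl, Fintype.card_subtype_eq,
        ← Nat.card_eq_fintype_card, (card_fixM_octad o.2.1).1]
    rw [Nat.card_sigma, Finset.sum_congr rfl fun o _ => hf o, Finset.sum_const, Finset.card_univ,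
      ← Nat.card_eq_fintype_card, hO]
    rfl
  rw [← hS, CV.cnt]
  have hsq : ∀ q : S, (q.2.1.1 : Equiv.Perm GolayPt) * q.2.1.1 = 1 := fun q =>
    (card_fixM_octad q.1.2.1).2 _ q.2.1.2
  have hfix : ∀ q : S, fixSet (q.2.1.1 : Equiv.Perm GolayPt) = q.1.1 := fun q => by
    ext p
    rw [mem_fixSet]
    refine ⟨fun hp => ?_, (mem_fixM.mp q.2.1.2).2 p⟩
    by_contra hno
    exact q.2.2 (Subtype.ext (fixM_octad_regular q.1.2.1 q.2.1.2 hno hp))
  haveI : Fact (Nat.Prime 2) := ⟨Nat.prime_two⟩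
  refine Nat.card_le_card_of_injective (fun q => ⟨⟨q.2.1.1, mem_m23.mpr
    ⟨(mem_fixM.mp q.2.1.2).1, (mem_fixM.mp q.2.1.2).2 none q.1.2.2⟩⟩, ?_⟩) fun q q' e => ?_
  · refine orderOf_eq_prime (Subtype.ext (by rw [SubmonoidClass.coe_pow, pow_two]; exact hsq q)) fun h => ?_
    exact q.2.2 (Subtype.ext (congrArg (fun x : ↥Spor.M23 => (x : Equiv.Perm GolayPt)) h))
  · have e' : (q.2.1.1 : Equiv.Perm GolayPt) = q'.2.1.1 :=
      congrArg (fun x : {g : ↥Spor.M23 // orderOf g = 2} => (x.1 : Equiv.Perm GolayPt)) e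
    have ho : q.1 = q'.1 := Subtype.ext (by rw [← hfix q, ← hfix q', e'])
    obtain ⟨o, g⟩ := q
    obtain ⟨o', g'⟩ := q'
    cases ho
    exact congrArg (Sigma.mk o) (Subtype.ext (Subtype.ext e'))

theorem roots_lower {n h L : ℕ} (hn : n ∈ [4, 6, 8, 14]) (hh : n / 2 = h ∧ h * 2 = n) {l : List ℕ}
    (hl : rootsOK h l = true ∧ l.length = L) : L * 3795 ≤ CV.cnt ↥Spor.M23 n := by
  have := cnt_roots hn hh hl.1 tL_ok.1 orderOf_tL invol_conj_m23
  rw [hl.2] at this
  exact (Nat.mul_le_mul_left L two_lower).trans this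

theorem six_le_three : CV.cnt ↥Spor.M23 6 ≤ 15 * CV.cnt ↥Spor.M23 3 := by
  classical
  let T := Σ x : {x : ↥Spor.M23 // orderOf x = 3}, {s : ↥Spor.M23 // Commute x.1 s ∧ orderOf s = 2}
  have h1 : CV.cnt ↥Spor.M23 6 ≤ Nat.card T := by
    refine Nat.card_le_card_of_injective (fun g => ⟨⟨g.1 ^ 4, ?_⟩, g.1 ^ 3, (Commute.refl g.1).pow_pow 4 3, ?_⟩)
      fun g g' e => ?_
    · rw [orderOf_pow' _ (by norm_num), g.2]; rfl
    · rw [orderOf_pow' _ (by norm_num), g.2]; rfl
    · have e1 : g.1 ^ 4 = g'.1 ^ 4 := congrArg (fun q : T => q.1.1) e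
      have e2 : g.1 ^ 3 = g'.1 ^ 3 := congrArg (fun q : T => q.2.1) e
      have k : ∀ g : {g : ↥Spor.M23 // orderOf g = 6}, g.1 ^ 4 * g.1 ^ 3 = g.1 := fun g => by
        rw [← pow_add, pow_eq_pow_mod (4 + 3) (orderOf_dvd_iff_pow_eq_one.mp (dvd_of_eq g.2))]
        exact pow_one _
      exact Subtype.ext ((k g).symm.trans ((by rw [e1, e2] : _ = g'.1 ^ 4 * g'.1 ^ 3).trans (k g')))
  refine h1.trans ?_
  haveI := Fintype.ofFinite {x : ↥Spor.M23 // orderOf x = 3}
  rw [Nat.card_sigma]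
  refine (Finset.sum_le_card_nsmul _ _ 15 fun x _ => commCnt_three x.2).trans (le_of_eq ?_)
  rw [smul_eq_mul, Finset.card_univ, ← Nat.card_eq_fintype_card, mul_comm]
  rfl

theorem fifteen_lower : 2 * CV.cnt ↥Spor.M23 5 ≤ CV.cnt ↥Spor.M23 15 := by
  classical
  haveI : Fact (Nat.Prime 5) := ⟨by norm_num⟩
  haveI : Fact (Nat.Prime 3) := ⟨by norm_num⟩
  set w := toM Data.wL
  have hf : orderOf (w ^ 3) = 5 := by rw [orderOf_pow' _ (by norm_num), orderOf_wL]; rfl
  have hv : orderOf (w ^ 5) = 3 := by rw [orderOf_pow' _ (by norm_num), orderOf_wL]; rfl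
  rw [show (15 : ℕ) = 5 * 3 from rfl, cnt_mul (p := 5) (k := 3) (by rw [card_M]; norm_num) (by norm_num) hf,
    mul_comm]
  refine Nat.mul_le_mul_left _ ?_
  have hc : Commute (w ^ 3) (w ^ 5) := (Commute.refl w).pow_pow 3 5
  haveI := Fintype.ofFinite {v : ↥Spor.M23 // Commute (w ^ 3) v ∧ orderOf v = 3}
  rw [commCnt, Nat.card_eq_fintype_card]
  refine Fintype.one_lt_card_iff.mpr ⟨⟨w ^ 5, hc, hv⟩, ⟨(w ^ 5)⁻¹, hc.inv_right, by rw [orderOf_inv, hv]⟩,
    fun e => ?_⟩
  have h2 : (w ^ 5) ^ 2 = 1 := by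
    rw [pow_two]; exact mul_eq_one_iff_inv_eq.mpr (congrArg Subtype.val e).symm
  have := orderOf_dvd_of_pow_eq_one h2
  rw [hv] at this
  norm_num at this

/-- The exact element numbers. -/
theorem model_cnt : CV.cnt ↥Spor.M23 2 = 3795 ∧ CV.cnt ↥Spor.M23 3 = 56672 ∧ CV.cnt ↥Spor.M23 4 = 318780 ∧
    CV.cnt ↥Spor.M23 5 = 680064 ∧ CV.cnt ↥Spor.M23 6 = 850080 ∧ CV.cnt ↥Spor.M23 7 = 1457280 ∧
    CV.cnt ↥Spor.M23 8 = 1275120 ∧ CV.cnt ↥Spor.M23 11 = 1854720 ∧ CV.cnt ↥Spor.M23 14 = 1457280 ∧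
    CV.cnt ↥Spor.M23 15 = 1360128 ∧ CV.cnt ↥Spor.M23 23 = 887040 ∧
    ∀ g : ↥Spor.M23, orderOf g ∈ [1, 2, 3, 4, 5, 6, 7, 8, 11, 14, 15, 23] := by
  classical
  have l2 := two_lower
  have l4 := roots_lower (n := 4) (by simp) ⟨rfl, rfl⟩ four_ok
  have l6 := roots_lower (n := 6) (by simp) ⟨rfl, rfl⟩ six_ok
  have l8 := roots_lower (n := 8) (by simp) ⟨rfl, rfl⟩ eight_ok
  have l14 := roots_lower (n := 14) (by simp) ⟨rfl, rfl⟩ fourteen_ok
  have l3 := six_le_three
  have l15 := fifteen_lower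
  have l5 := prime_double_count (p := 5) M24Block.five_count fun g hg => M24Block.fix_eq (by simp) hg
  have l7 := prime_double_count (p := 7) M24Block.seven_count fun g hg => M24Block.fix_eq (by simp) hg
  have l11 := prime_double_count (p := 11) (M24Block.big_count (p := 11) (N := 2225664) (by simp))
    fun g hg => M24Block.fix_eq (by simp) hg
  have l23 := prime_double_count (p := 23) (M24Block.big_count (p := 23) (N := 967680) (by simp))
    fun g hg => M24Block.fix_eq (by simp) hg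
  norm_num at l5 l7 l11 l23
  have h1 := CV.cnt_one (G := ↥Spor.M23)
  have hS := CV.sum_cnt_le (G := ↥Spor.M23) {1, 2, 3, 4, 5, 6, 7, 8, 11, 14, 15, 23}
  rw [card_M] at hS
  have hall : ∀ g : ↥Spor.M23, orderOf g ∈ [1, 2, 3, 4, 5, 6, 7, 8, 11, 14, 15, 23] := fun g => by
    by_contra hg
    have hn : orderOf g ∉ ({1, 2, 3, 4, 5, 6, 7, 8, 11, 14, 15, 23} : Finset ℕ) := fun h => hg (by simpa using h)
    have h := CV.sum_cnt_le (G := ↥Spor.M23) (insert (orderOf g) {1, 2, 3, 4, 5, 6, 7, 8, 11, 14, 15, 23})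
    have hpos : 0 < CV.cnt ↥Spor.M23 (orderOf g) := Nat.pos_of_ne_zero (CV.cnt_ne_zero.mpr ⟨g, rfl⟩)
    rw [Finset.sum_insert hn, card_M] at h
    repeat rw [Finset.sum_insert (by decide)] at h
    rw [Finset.sum_singleton] at h
    omega
  repeat rw [Finset.sum_insert (by decide)] at hS
  rw [Finset.sum_singleton] at hS
  exact ⟨by omega, by omega, by omega, by omega, by omega, by omega, by omega, by omega, by omega, by omega,
    by omega, hall⟩

theorem model_counts : Counts ↥Spor.M23 := by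
  obtain ⟨c2, c3, -, c5, -, c7, c8, -, c14, c15, -, hall⟩ := model_cnt
  exact ⟨card_M, hall, c2, c3, c5, c7, c15, CV.cnt_ne_zero.mp (by omega), CV.cnt_ne_zero.mp (by omega)⟩

theorem model_vals : HasVals ↥Spor.M23 := by
  classical
  obtain ⟨c2, c3, c4, c5, c6, c7, c8, c11, c14, c15, c23, hall⟩ := model_cnt
  refine Set.ext fun c => ⟨?_, fun hc => ?_⟩
  · rintro ⟨hpos, n, rfl⟩
    show CV.cnt ↥Spor.M23 n ∈ vals
    obtain ⟨g, rfl⟩ := CV.cnt_ne_zero.mp hpos.ne'
    have := hall g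
    simp only [List.mem_cons, List.not_mem_nil, or_false] at this
    rcases this with e | e | e | e | e | e | e | e | e | e | e | e <;> rw [e] <;>
      simp [vals, CV.cnt_one, c2, c3, c4, c5, c6, c7, c8, c11, c14, c15, c23]
  · have key : ∃ n, CV.cnt ↥Spor.M23 n = c ∧ 0 < c := by
      simp only [vals, Set.mem_setOf_eq, List.mem_cons, List.not_mem_nil, or_false] at hc
      rcases hc with e | e | e | e | e | e | e | e | e | e | e
      · exact ⟨1, by rw [CV.cnt_one, e], by omega⟩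
      · exact ⟨2, by omega, by omega⟩
      · exact ⟨3, by omega, by omega⟩
      · exact ⟨4, by omega, by omega⟩
      · exact ⟨5, by omega, by omega⟩
      · exact ⟨6, by omega, by omega⟩
      · exact ⟨23, by omega, by omega⟩
      · exact ⟨8, by omega, by omega⟩
      · exact ⟨15, by omega, by omega⟩
      · exact ⟨7, by omega, by omega⟩
      · exact ⟨11, by omega, by omega⟩
    obtain ⟨n, e, hpos⟩ := key
    exact ⟨hpos, n, e.symm⟩

/-- The local data of the Mathieu group. -/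
theorem model_loc : Loc ↥Spor.M23 := model_counts.loc

end Cfsg.Agent.MTwentyThree.Nse
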