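import Cfsg.Agent.Lib.Spor.MTwentyThreeNse.KChecks
import Cfsg.Agent.Lib.Spor.MTwentyThreeNse.KNorm
import Cfsg.Agent.Lib.Spor.MTwentyThreeNse.ModelCounts

/-!
The heptad stabiliser as the normaliser of a core and the triple stabiliser as the normaliser of a second group of
order sixteen in the Mathieu group of degree twenty-three.
-/

set_option autoImplicit false
set_option maxRecDepth 100000
set_option maxHeartbeats 800000
set_option linter.unusedSectionVars false
set_option linter.style.haveILetI false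

namespace Cfsg.Agent.MTwentyThree.Nse.KD

open Cfsg Cfsg.Agent.Spor Cfsg.Agent.Solv Amal Amal.Data Cfsg.Agent.Local.FS.Mathieu
open scoped Pointwise

theorem hP_lt : ∀ p ∈ hP, p < 24 := by decide +kernel

theorem tP_lt : ∀ p ∈ tP, p < 24 := by decide +kernel

theorem oP_lt : ∀ p ∈ oP, p < 24 := by decide +kernel

theorem mask_setOf {P : List ℕ} (hP : ∀ p ∈ P, p < 24) :
    mask (setOf' P) = imgMask (pack (List.range 24)) P := by
  have := (mask_smul_list (x := (1 : M)) (fun p => by simpa using (Tabs.ent_id ⟨idx p, idx_lt p⟩).symm) hP).1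
  simpa using this

theorem mem_stab {P : List ℕ} {x : M} :
    x ∈ stabOf P ↔ (x : Equiv.Perm GolayPt) • setOf' P = setOf' P := Iff.rfl

theorem stabs_iff {a : ℕ} (ha : okPerm a = true) {P : List ℕ} (hP : ∀ p ∈ P, p < 24) :
    stabs a P = true ↔ toM a ∈ stabOf P := by
  rw [mem_stab, stabs, beq_iff_eq, ← mask_setOf hP, ← (mask_smul_list (toM_spec ha) hP).1]
  exact mask_injective.eq_iff

theorem entEq_of_comm {a b : ℕ} (ha : okPerm a = true) (hb : okPerm b = true) (h : Commute (toM a) (toM b)) :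
    entEq (fun i => ent a (ent b i)) (fun i => ent b (ent a i)) = true := by
  simp only [entEq, List.all_eq_true, List.mem_range, beq_iff_eq]
  intro i hi
  have := congrArg (fun z : M => idx ((z : Equiv.Perm GolayPt) (pt i))) h.eq
  simpa [toM_spec ha, toM_spec hb, idx_pt i hi] using this

theorem toM_one {a : ℕ} (ha : okPerm a = true) (h : isId (ent a) = true) : toM a = 1 := by
  simpa using toM_pow_one (n := 1) ha (by simpa using h)

theorem word_spec : ∀ {w : List ℕ}, (∀ g ∈ w, okPerm g = true) → ∀ p : GolayPt,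
    idx (((w.map toM).prod : M).1 p) = entW w (idx p)
  | [], _, p => rfl
  | g :: w, h, p => by
    rw [List.map_cons, List.prod_cons, Subgroup.coe_mul, Equiv.Perm.mul_apply,
      toM_spec (h g List.mem_cons_self), word_spec fun x hx => h x (List.mem_cons_of_mem _ hx)]
    rfl

theorem nodup_le {L : List ℕ} (hL : L.all (fun a => okPerm a && keyOf a == a) = true) (hi : incr L = true)
    {P : M → Prop} (hP : ∀ a ∈ L, P (toM a)) :
    L.length ≤ Nat.card {x : M // P x} ∧
      (L.length = Nat.card {x : M // P x} → ∀ x, P x → ∃ a ∈ L, toM a = x) := by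
  simp only [List.all_eq_true, Bool.and_eq_true, beq_iff_eq] at hL
  let f : Fin L.length → {x : M // P x} := fun i => ⟨toM (L.get i), hP _ (L.get_mem i)⟩
  have hf : Function.Injective f := fun i j e => (incr_nodup hi).1.injective_get (by
    have k := key_eq (hL _ (L.get_mem i)).1 (hL _ (L.get_mem j)).1 (congrArg Subtype.val e)
    rwa [(hL _ (L.get_mem i)).2, (hL _ (L.get_mem j)).2] at k)
  refine ⟨by simpa using Nat.card_le_card_of_injective f hf, fun e x hx => ?_⟩
  obtain ⟨i, hi⟩ := ((Nat.bijective_iff_injective_and_card f).mpr ⟨hf, by simpa using e⟩).2 ⟨x, hx⟩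
  exact ⟨_, L.get_mem i, congrArg Subtype.val hi⟩

/-- The involution. -/
noncomputable def tM : M := toM tE

/-- The element of order three. -/
noncomputable def yM : M := toM yK

theorem ok_tE : okPerm tE = true := List.all_eq_true.mp gens_ok.1 _ (by simp [bGen])

theorem ok_yK : okPerm yK = true := List.all_eq_true.mp gens_ok.1 _ (by simp [bGen])

theorem ok_bGen : ∀ g ∈ bGen, okPerm g = true := fun g hg =>
  List.all_eq_true.mp gens_ok.1 g (by simp [hg])

theorem ok_fGen : ∀ g ∈ fGen, okPerm g = true := fun g hg =>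
  List.all_eq_true.mp gens_ok.1 g (by simp [hg])

theorem ok_fL : ∀ a ∈ fL, okPerm a = true := fun a ha => by
  have h := List.all_eq_true.mp f_ok.1 a ha
  simp only [Bool.and_eq_true] at h
  exact h.1

theorem tM_two : orderOf tM = 2 := by
  haveI : Fact (Nat.Prime 2) := ⟨Nat.prime_two⟩
  refine orderOf_eq_prime (toM_pow_one ok_tE t_check.1) fun h => ?_
  have h4 := toM_spec ok_tE (pt 0)
  rw [show toM tE = 1 from h, idx_pt 0 (by norm_num)] at h4
  have := List.all_eq_true.mp t_check.2.1 0 (List.mem_range.mpr (by norm_num))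
  rw [show oP.contains 0 = false by decide +kernel] at this
  simp only [beq_iff_eq] at this
  have h5 : idx (((1 : M) : Equiv.Perm GolayPt) (pt 0)) = 0 := by simpa using idx_pt 0 (by norm_num)
  rw [h5] at h4
  simp [← h4] at this

/-- The octad. -/
def oSet : Finset GolayPt := setOf' oP

theorem oSet_mem : oSet ∈ octads := by
  rw [mem_octads, oSet, mask_setOf oP_lt]
  exact List.contains_iff_mem.mp t_check.2.2

theorem none_oSet : (none : GolayPt) ∈ oSet := by decide +kernel

theorem oSet_erase : setOf' hP = oSet.erase none := by decide +kernel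

theorem fix_tM : fixSet (tM : Equiv.Perm GolayPt) = oSet := by
  ext q
  rw [mem_fixSet, oSet, setOf', List.mem_toFinset, List.mem_map]
  have h := List.all_eq_true.mp t_check.2.1 (idx q) (List.mem_range.mpr (idx_lt q))
  simp only [beq_iff_eq] at h
  constructor
  · intro e
    have h' := toM_spec ok_tE q
    rw [show ((toM tE : M) : Equiv.Perm GolayPt) q = q from e] at h'
    rw [show (ent tE (idx q) == idx q) = true from beq_iff_eq.mpr h'.symm] at h
    exact ⟨idx q, List.contains_iff_mem.mp h.symm, pt_idx q⟩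
  · rintro ⟨p, hp, rfl⟩
    rw [idx_pt p (oP_lt p hp), List.contains_iff_mem.mpr hp, beq_iff_eq] at h
    refine idx_injective ?_
    show idx ((toM tE : Equiv.Perm GolayPt) (pt p)) = _
    rw [toM_spec ok_tE, idx_pt p (oP_lt p hp), h]

theorem mem_HM {x : M} : x ∈ HM ↔ (x : Equiv.Perm GolayPt) • oSet = oSet := by
  have h0 : (x : Equiv.Perm GolayPt) • (none : GolayPt) = none := (mem_m23.mp x.2).2
  rw [HM, show baseL.getD 0 [] = hP from rfl, mem_stab, oSet_erase]
  constructor
  · intro h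
    rw [← Finset.insert_erase none_oSet, Finset.smul_finset_insert, h0, h, Finset.insert_erase none_oSet]
  · intro h
    ext q
    rw [← Finset.inv_smul_mem_iff, Finset.mem_erase, Finset.mem_erase, Finset.inv_smul_mem_iff, h]
    refine and_congr_left fun _ => not_congr ⟨fun e => ?_, fun e => ?_⟩
    · rw [inv_smul_eq_iff, h0] at e; exact e
    · rw [e, inv_smul_eq_iff, h0]

/-- The pointwise stabiliser of the octad. -/
def E0 : Subgroup M := (fixM oSet).comap Spor.M23.subtype

theorem card_E0 : Nat.card E0 = 16 := by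
  rw [← (card_fixM_octad oSet_mem).1]
  exact Nat.card_congr
    { toFun := fun g => ⟨g.1.1, g.2⟩
      invFun := fun g => ⟨⟨g.1, mem_m23.mpr ⟨(mem_fixM.mp g.2).1, (mem_fixM.mp g.2).2 none none_oSet⟩⟩, g.2⟩
      left_inv := fun _ => rfl
      right_inv := fun _ => rfl }

theorem tM_E0 : tM ∈ E0 :=
  mem_fixM.mpr ⟨(mem_m23.mp tM.2).1, fun p hp => mem_fixSet.mp (fix_tM.symm ▸ hp)⟩

theorem norm_E0 {x : M} (h : (x : Equiv.Perm GolayPt) • oSet = oSet) {e : M} (he : e ∈ E0) : x * e * x⁻¹ ∈ E0 := by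
  show ((x * e * x⁻¹ : M) : Equiv.Perm GolayPt) ∈ fixM oSet
  rw [← h, fixM_smul (mem_m23.mp x.2).1]
  have : (x : Equiv.Perm GolayPt)⁻¹ * ((x * e * x⁻¹ : M) : Equiv.Perm GolayPt) * (x : Equiv.Perm GolayPt) = e := by
    simp only [Subgroup.coe_mul, Subgroup.coe_inv]; group
  rw [this]
  exact he

theorem E0_eq : E0 = core tM := by
  refine model_loc.eq_core tM_two ?_ ?_ card_E0
  · intro e he
    have hc : ∀ a ∈ E0, a * a = 1 := fun a ha => Subtype.ext ((card_fixM_octad oSet_mem).2 _ ha)
    refine mem_cen.mpr (show Commute tM e from ?_)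
    have h1 := hc _ (mul_mem tM_E0 he)
    calc tM * e = (tM * e)⁻¹ := eq_inv_of_mul_eq_one_left h1
      _ = e⁻¹ * tM⁻¹ := mul_inv_rev _ _
      _ = e * tM := by rw [inv_eq_of_mul_eq_one_right (hc _ he), inv_eq_of_mul_eq_one_right (hc _ tM_E0)]
  · intro c hc e he
    refine norm_E0 ?_ he
    rw [← fix_tM, ← fixSet_conj]
    congr 1
    have e2 : (tM : Equiv.Perm GolayPt) * c = c * tM := by
      simpa using congrArg (fun z : M => (z : Equiv.Perm GolayPt)) (mem_cen.mp hc).eq
    rw [← e2, mul_inv_cancel_right]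

theorem HM_eq : HM = nr tM := by
  ext x
  rw [mem_HM]
  constructor
  · intro h
    exact normalizer_of_conj_le fun e he => E0_eq ▸ norm_E0 h (E0_eq.symm ▸ he)
  · intro h
    have hm : x * tM * x⁻¹ ∈ E0 := by rw [E0_eq]; exact conj_mem_norm h (self_mem_core tM_two)
    have hne : ((x * tM * x⁻¹ : M) : Equiv.Perm GolayPt) ≠ 1 := fun e => by
      have e' : x * tM * x⁻¹ = 1 := Subtype.ext e
      have := tM_two
      rw [conj_eq_one_iff.mp e', orderOf_one] at this
      omega
    rw [← fix_tM, ← fixSet_conj]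
    refine le_antisymm (fun q hq => ?_) fun q hq => ?_
    · rw [fix_tM]
      by_contra hq'
      refine hne (fixM_octad_regular oSet_mem hm hq' ?_)
      simpa [mem_fixSet] using hq
    · rw [fix_tM] at hq
      simpa [mem_fixSet] using (mem_fixM.mp hm).2 q hq

/-- The group of order sixteen. -/
def F0 : Subgroup M where
  carrier := {x | ∃ a ∈ fL, toM a = x}
  one_mem' := by
    obtain ⟨a, ha, h⟩ := List.any_eq_true.mp f_ok.2.2.2.2.2
    exact ⟨a, ha, toM_one (ok_fL a ha) h⟩
  mul_mem' := by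
    rintro _ _ ⟨a, ha, rfl⟩ ⟨b, hb, rfl⟩
    obtain ⟨c, hc, h⟩ := List.any_eq_true.mp
      (List.all_eq_true.mp (List.all_eq_true.mp f_ok.2.2.2.1 a ha) b hb)
    exact ⟨c, hc, (toM_mul (ok_fL a ha) (ok_fL b hb) (ok_fL c hc) h).symm⟩
  inv_mem' := by
    rintro _ ⟨a, ha, rfl⟩
    refine ⟨a, ha, (inv_eq_of_mul_eq_one_right ?_).symm⟩
    rw [← pow_two]
    exact toM_pow_one (ok_fL a ha) (List.all_eq_true.mp f_ok.2.2.2.2.1 a ha)

theorem sq_F0 : ∀ a ∈ F0, a * a = 1 := by
  rintro _ ⟨a, ha, rfl⟩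
  rw [← pow_two]
  exact toM_pow_one (ok_fL a ha) (List.all_eq_true.mp f_ok.2.2.2.2.1 a ha)

theorem comm_F0 : ∀ a ∈ F0, ∀ b ∈ F0, Commute a b := fun a ha b hb => by
  calc a * b = (a * b)⁻¹ := eq_inv_of_mul_eq_one_left (sq_F0 _ (mul_mem ha hb))
    _ = b⁻¹ * a⁻¹ := mul_inv_rev _ _
    _ = b * a := by rw [inv_eq_of_mul_eq_one_right (sq_F0 _ ha), inv_eq_of_mul_eq_one_right (sq_F0 _ hb)]

theorem card_F0 : Nat.card F0 = 16 := by
  classical
  refine le_antisymm ?_ ?_
  · rw [← f_ok.2.2.1]
    refine le_trans (Nat.card_le_card_of_surjective (fun i : Fin fL.length => (⟨toM (fL.get i), _, fL.get_mem i, rfl⟩ : F0))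
      ?_) (by simp)
    rintro ⟨x, a, ha, rfl⟩
    obtain ⟨i, rfl⟩ := List.mem_iff_get.mp ha
    exact ⟨i, rfl⟩
  · rw [← f_ok.2.2.1]
    exact (nodup_le f_ok.1 f_ok.2.1 (P := fun x => x ∈ F0) fun a ha => ⟨a, ha, rfl⟩).1

theorem F0_le : F0 ≤ HM ⊓ KM := by
  rintro _ ⟨a, ha, rfl⟩
  have h := List.all_eq_true.mp f_props.1 a ha
  simp only [Bool.and_eq_true] at h
  exact ⟨(stabs_iff (ok_fL a ha) hP_lt).mp h.1, (stabs_iff (ok_fL a ha) tP_lt).mp h.2⟩

theorem F0_gen : F0 ≤ Subgroup.closure (toM '' {g | g ∈ fGen}) := by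
  rintro _ ⟨a, ha, rfl⟩
  obtain ⟨w, hw, h⟩ := List.any_eq_true.mp (List.all_eq_true.mp f_props.2.2.1 a ha)
  have hsub := (List.mem_sublists.mp hw).subset
  have hok : ∀ g ∈ w, okPerm g = true := fun g hg => ok_fGen g (hsub hg)
  have e : toM a = (w.map toM).prod := by
    refine ext_ent fun p => ?_
    simp only [entEq, List.all_eq_true, List.mem_range, beq_iff_eq] at h
    rw [toM_spec (ok_fL a ha), word_spec hok, h _ (idx_lt p)]
  rw [e]
  refine Subgroup.list_prod_mem _ fun x hx => ?_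
  obtain ⟨g, hg, rfl⟩ := List.mem_map.mp hx
  exact Subgroup.subset_closure ⟨g, hsub hg, rfl⟩

theorem gen_mem : ∀ g ∈ fGen, toM g ∈ F0 := fun g hg => by
  obtain ⟨a, ha, h⟩ := List.any_eq_true.mp (List.all_eq_true.mp f_props.2.1 g hg)
  refine ⟨a, ha, ext_ent fun p => ?_⟩
  simp only [entEq, List.all_eq_true, List.mem_range, beq_iff_eq] at h
  rw [toM_spec (ok_fL a ha), toM_spec (ok_fGen g hg), h _ (idx_lt p)]

theorem norm_le_KM : Subgroup.normalizer (F0 : Set M) ≤ KM := by
  intro n hn
  rw [KM, show baseL.getD 4 [] = tP from rfl, mem_stab]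
  refine Finset.eq_of_subset_of_card_le (fun q hq => ?_) (le_of_eq (Finset.card_smul_finset _ _).symm)
  obtain ⟨r, hr, rfl⟩ := Finset.mem_smul_finset.mp hq
  obtain ⟨p, hp, rfl⟩ := List.mem_map.mp (List.mem_toFinset.mp hr)
  have hmem : p ∈ commonFix := by
    rw [f_props.2.2.2.2]; rw [base_eq.2] at hp; simp at hp ⊢; omega
  simp only [commonFix, List.mem_filter, List.all_eq_true, beq_iff_eq] at hmem
  set s := (n : Equiv.Perm GolayPt) • pt p
  have hs : idx s ∈ commonFix := by
    simp only [commonFix, List.mem_filter, List.mem_range, List.all_eq_true, beq_iff_eq]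
    refine ⟨idx_lt _, fun f hf => ?_⟩
    obtain ⟨a, ha, e⟩ := (Subgroup.mem_normalizer_iff''.mp hn (toM f)).mp ⟨f, hf, rfl⟩
    have hfix : ((toM a : M) : Equiv.Perm GolayPt) (pt p) = pt p := idx_injective (by
      rw [toM_spec (ok_fL a ha), idx_pt p (tP_lt p hp), hmem.2 a ha])
    have e' : ((toM f : M) : Equiv.Perm GolayPt) s = s := by
      have e2 : toM f * n = n * toM a := by rw [e]; group
      have := congrArg (fun z : M => (z : Equiv.Perm GolayPt) (pt p)) e2
      simp only [Subgroup.coe_mul, Equiv.Perm.mul_apply, hfix] at this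
      exact this
    rw [← toM_spec (ok_fL f hf), e']
  have hne : s ≠ none := fun e => by
    have e2 : (n : Equiv.Perm GolayPt) (pt p) = (n : Equiv.Perm GolayPt) none := e.trans (mem_m23.mp n.2).2.symm
    have e3 := congrArg idx ((n : Equiv.Perm GolayPt).injective e2)
    rw [idx_pt p (tP_lt p hp)] at e3
    rw [base_eq.2] at hp
    simp only [List.mem_cons, List.not_mem_nil, or_false] at hp
    rw [e3] at hp
    revert hp
    decide +kernel
  rw [f_props.2.2.2.2] at hs
  refine List.mem_toFinset.mpr (List.mem_map.mpr ⟨idx s, ?_, pt_idx s⟩)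
  rw [base_eq.2]
  simp only [List.mem_cons, List.not_mem_nil, or_false] at hs ⊢
  rcases hs with h | h | h | h
  · exact Or.inl h
  · exact Or.inr (Or.inl h)
  · exact Or.inr (Or.inr h)
  · exact absurd ((pt_idx s).symm.trans (congrArg pt h)) hne

theorem card_HM_KM : Nat.card ↥(HM ⊓ KM) ≤ 1152 := by
  classical
  have hinj : Function.Injective fun q : Fin repL.length × ↥(HM ⊓ KM) =>
      (⟨toM (repL.get q.1) * q.2, mul_mem ((stabs_iff (by
        have h := List.all_eq_true.mp rep_check.1 _ (repL.get_mem q.1)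
        simp only [Bool.and_eq_true] at h; exact h.1) hP_lt).mp (by
        have h := List.all_eq_true.mp rep_check.1 _ (repL.get_mem q.1)
        simp only [Bool.and_eq_true] at h; exact h.2)) q.2.2.1⟩ : ↥HM) := by
    rintro ⟨i, g⟩ ⟨j, k⟩ e
    have e' : toM (repL.get i) * (g : M) = toM (repL.get j) * (k : M) := congrArg Subtype.val e
    have him : ∀ (i : Fin repL.length) (g : ↥(HM ⊓ KM)),
        mask (((toM (repL.get i) * g : M) : Equiv.Perm GolayPt) • setOf' tP) = imgMask (repL.get i) tP := fun i g => by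
      rw [Subgroup.coe_mul, mul_smul, mem_stab.mp (show (g : M) ∈ stabOf tP from g.2.2)]
      have h := List.all_eq_true.mp rep_check.1 _ (repL.get_mem i)
      simp only [Bool.and_eq_true] at h
      exact (mask_smul_list (toM_spec h.1) tP_lt).1
    have h2 : imgMask (repL.get i) tP = imgMask (repL.get j) tP := by rw [← him i g, ← him j k, e']
    have hij : i = j := by
      have := rep_check.2.2.injective_get
        (a₁ := ⟨i, by rw [List.length_map]; exact i.2⟩) (a₂ := ⟨j, by rw [List.length_map]; exact j.2⟩)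
        (by simpa using h2)
      exact Fin.ext (congrArg Fin.val this)
    subst hij
    exact Prod.ext rfl (Subtype.ext (mul_left_cancel e'))
  have h := Nat.card_le_card_of_injective _ hinj
  rw [Nat.card_prod, Nat.card_fin, rep_check.2.1, HM_eq, (model_loc.card_norm_core tM_two).1] at h
  rw [HM_eq]
  omega

theorem inter_list : ∀ x ∈ HM ⊓ KM, ∃ a ∈ interL, toM a = x := by
  obtain ⟨h1, h2, h3⟩ := inter_ok
  have hok : interL.all (fun a => okPerm a && keyOf a == a) = true := by
    simp only [List.all_eq_true, Bool.and_eq_true] at h1 ⊢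
    exact fun a ha => ⟨(h1 a ha).1.1.1, (h1 a ha).1.1.2⟩
  simp only [List.all_eq_true, Bool.and_eq_true] at h1
  obtain ⟨hle, hall⟩ := nodup_le hok h2 (P := fun x => x ∈ HM ⊓ KM) fun a ha =>
    ⟨(stabs_iff (h1 a ha).1.1.1 hP_lt).mp (h1 a ha).1.2, (stabs_iff (h1 a ha).1.1.1 tP_lt).mp (h1 a ha).2⟩
  exact hall (le_antisymm hle (by rw [h3]; exact card_HM_KM))

theorem inter_card : Nat.card ↥(HM ⊓ KM) = 1152 := by
  obtain ⟨h1, h2, h3⟩ := inter_ok
  refine le_antisymm card_HM_KM ?_
  rw [← h3]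
  simp only [List.all_eq_true, Bool.and_eq_true] at h1
  refine (nodup_le ?_ h2 (P := fun x => x ∈ HM ⊓ KM) fun a ha => ?_).1
  · simp only [List.all_eq_true, Bool.and_eq_true]; exact fun a ha => ⟨(h1 a ha).1.1.1, (h1 a ha).1.1.2⟩
  · exact ⟨(stabs_iff (h1 a ha).1.1.1 hP_lt).mp (h1 a ha).1.2, (stabs_iff (h1 a ha).1.1.1 tP_lt).mp (h1 a ha).2⟩

theorem inter_ok' {a : ℕ} (ha : a ∈ interL) : okPerm a = true := by
  have h := List.all_eq_true.mp inter_ok.1 a ha
  simp only [Bool.and_eq_true] at h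
  exact h.1.1.1

theorem inter_normalises : HM ⊓ KM ≤ Subgroup.normalizer (F0 : Set M) := by
  intro x hx
  obtain ⟨a, ha, rfl⟩ := inter_list x hx
  refine normalizer_of_conj_le fun f hf => ?_
  have hle : F0 ≤ F0.comap (MulAut.conj (toM a)).toMonoidHom := by
    refine F0_gen.trans ((Subgroup.closure_le _).mpr ?_)
    rintro _ ⟨g, hg, rfl⟩
    obtain ⟨f, hf, h⟩ := List.any_eq_true.mp (List.all_eq_true.mp (List.all_eq_true.mp inter_norm a ha) g hg)
    refine ⟨f, hf, ?_⟩
    have := toM_comm (inter_ok' ha) (ok_fGen g hg) (ok_fL f hf) (inter_ok' ha) h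
    show toM f = toM a * toM g * (toM a)⁻¹
    rw [this, mul_inv_cancel_right]
  exact hle hf

theorem norm_inf : Subgroup.normalizer (F0 : Set M) ⊓ nr tM = HM ⊓ KM := by
  rw [← HM_eq, inf_comm]
  exact le_antisymm (inf_le_inf_left _ norm_le_KM) (le_inf inf_le_left inter_normalises)

theorem yM_mem : yM ∈ HM ⊓ KM := by
  have h := List.all_eq_true.mp y_check.2.2.1 yK (by simp [bGen])
  simp only [Bool.and_eq_true] at h
  exact ⟨(stabs_iff ok_yK hP_lt).mp h.1, (stabs_iff ok_yK tP_lt).mp h.2⟩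

theorem model_K : KData tM F0 yM where
  le := HM_eq ▸ F0_le.trans inf_le_left
  card := card_F0
  comm := comm_F0
  sq := sq_F0
  ne := fun e => by
    obtain ⟨a, ha, h⟩ := List.any_eq_true.mp f_props.2.2.2.1
    have hm : toM a ∈ E0 := by rw [E0_eq, ← e]; exact ⟨a, ha, rfl⟩
    have h4 : ((toM a : M) : Equiv.Perm GolayPt) (pt 4) = pt 4 := (mem_fixM.mp hm).2 _ (by decide +kernel)
    have h5 := toM_spec (ok_fL a ha) (pt 4)
    rw [h4, idx_pt 4 (by norm_num)] at h5
    simp [← h5] at h
  inter := by rw [norm_inf, inter_card]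
  cent := fun c hc => by
    have hn : c ∈ Subgroup.normalizer (F0 : Set M) := normalizer_of_conj_le fun f hf => by
      rw [← hc f hf, mul_inv_cancel_right]; exact hf
    have hu : c ∈ nr tM := by
      have h4 : Nat.card ↥(F0 ⊓ core tM) = 4 := (model_loc.inf_core tM_two (HM_eq ▸ F0_le.trans inf_le_left)
        card_F0 comm_F0 sq_F0 (fun e => by
          obtain ⟨a, ha, h⟩ := List.any_eq_true.mp f_props.2.2.2.1
          have hm : toM a ∈ E0 := by rw [E0_eq, ← e]; exact ⟨a, ha, rfl⟩
          have h4 : ((toM a : M) : Equiv.Perm GolayPt) (pt 4) = pt 4 := (mem_fixM.mp hm).2 _ (by decide +kernel)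
          have h5 := toM_spec (ok_fL a ha) (pt 4)
          rw [h4, idx_pt 4 (by norm_num)] at h5
          simp [← h5] at h)).1
      haveI : Nontrivial ↥(F0 ⊓ core tM) := Finite.one_lt_card_iff_nontrivial.mp (by omega)
      obtain ⟨⟨u, hu⟩, hu1⟩ := exists_ne (1 : ↥(F0 ⊓ core tM))
      exact model_loc.cen_le_norm tM_two hu.2 (fun h => hu1 (Subtype.ext h)) (mem_cen.mpr (hc u hu.1))
    obtain ⟨a, ha, rfl⟩ := inter_list c (norm_inf ▸ ⟨hn, hu⟩)
    have h := List.all_eq_true.mp inter_cent a ha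
    simp only [Bool.or_eq_true, List.any_eq_true, Bool.not_eq_true'] at h
    rcases h with h | ⟨g, hg, h⟩
    · exact ⟨a, List.contains_iff_mem.mp h, rfl⟩
    · rw [entEq_of_comm (inter_ok' ha) (ok_fGen g hg) (hc _ (gen_mem g hg)).symm] at h
      simp at h
  ymem := norm_inf.symm ▸ yM_mem
  ord := by
    haveI : Fact (Nat.Prime 3) := ⟨Nat.prime_three⟩
    refine orderOf_eq_prime (toM_pow_one ok_yK y_check.1) fun h => ?_
    exact toM_pow_ne (n := 1) ok_yK (by simpa using y_check.2.1) (by rw [pow_one]; exact h)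
  free := by
    rintro _ ⟨a, ha, rfl⟩ hc
    have h := List.all_eq_true.mp y_check.2.2.2 a ha
    simp only [Bool.or_eq_true, Bool.not_eq_true'] at h
    rcases h with h | h
    · exact toM_one (ok_fL a ha) h
    · rw [entEq_of_comm ok_yK (ok_fL a ha) hc] at h; simp at h
  conj := fun n hn => by
    obtain ⟨a, ha, rfl⟩ := inter_list n (norm_inf ▸ hn)
    obtain ⟨f, hf, h⟩ := List.any_eq_true.mp (List.all_eq_true.mp inter_conj a ha)
    simp only [List.any_cons, List.any_nil, Bool.or_false, Bool.or_eq_true, entEq, List.all_eq_true, List.mem_range,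
      beq_iff_eq] at h
    have hf' : toM f ∈ F0 ⊔ Subgroup.zpowers yM := Subgroup.mem_sup_left ⟨f, hf, rfl⟩
    have hy : yM ∈ F0 ⊔ Subgroup.zpowers yM := Subgroup.mem_sup_right (Subgroup.mem_zpowers _)
    rcases h with h | h
    · have e : toM a * yM = toM f * yM * toM a := ext_ent fun p => by
        simp only [Subgroup.coe_mul, Equiv.Perm.mul_apply, yM]
        rw [toM_spec (inter_ok' ha), toM_spec ok_yK, toM_spec (ok_fL f hf), toM_spec ok_yK, toM_spec (inter_ok' ha)]
        exact h _ (idx_lt p)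
      rw [e, mul_inv_cancel_right]
      exact mul_mem hf' hy
    · have e : toM a * yM = toM f * (yM * yM) * toM a := ext_ent fun p => by
        simp only [Subgroup.coe_mul, Equiv.Perm.mul_apply, yM]
        rw [toM_spec (inter_ok' ha), toM_spec ok_yK, toM_spec (ok_fL f hf), toM_spec ok_yK, toM_spec ok_yK,
          toM_spec (inter_ok' ha)]
        exact h _ (idx_lt p)
      rw [e, mul_inv_cancel_right]
      exact mul_mem hf' (mul_mem hy hy)

theorem card_KM : Nat.card ↥KM ≤ 5760 := by
  classical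
  let S := {s // s ∈ (Finset.univ.erase (none : GolayPt)).powersetCard 3}
  have hS : Nat.card S = 1771 := by
    rw [Nat.card_eq_fintype_card, Fintype.card_coe, Finset.card_powersetCard]
    have : (Finset.univ.erase (none : GolayPt)).card = 23 := by decide +kernel
    rw [this]; decide +kernel
  have htr : ∀ s : S, ∃ x : M, (x : Equiv.Perm GolayPt) • setOf' tP = s.1 := by
    rintro ⟨s, hs⟩
    obtain ⟨hsub, hc⟩ := Finset.mem_powersetCard.mp hs
    obtain ⟨a, b, c, hab, hac, hbc, rfl⟩ := Finset.card_eq_three.mp hc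
    have hn : ∀ q ∈ ({a, b, c} : Finset GolayPt), q ≠ none := fun q hq => (Finset.mem_erase.mp (hsub hq)).1
    let x : Fin 4 ↪ GolayPt := ⟨![pt 5, pt 11, pt 19, none], by decide +kernel⟩
    have hy : Function.Injective ![a, b, c, none] := by
      have ha := hn a (by simp)
      have hb := hn b (by simp)
      have hc := hn c (by simp)
      intro i j h
      fin_cases i <;> fin_cases j <;> simp_all
    obtain ⟨σ, hσ, h⟩ := M24_trans (k := 4) (by norm_num) x ⟨_, hy⟩
    have h3 := h 3
    refine ⟨⟨σ, mem_m23.mpr ⟨hσ, h3⟩⟩, ?_⟩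
    have h0 : σ (pt 5) = a := h 0
    have h1 : σ (pt 11) = b := h 1
    have h2 : σ (pt 19) = c := h 2
    show σ • setOf' tP = _
    rw [setOf', base_eq.2]
    simp only [List.map_cons, List.map_nil, List.toFinset_cons, List.toFinset_nil, Finset.smul_finset_insert,
      Finset.smul_finset_empty, Equiv.Perm.smul_def, h0, h1, h2]
    simp [insert_empty_eq]
  choose x hx using htr
  have hinj : Function.Injective fun q : S × ↥KM => x q.1 * (q.2 : M) := by
    rintro ⟨s, g⟩ ⟨s', g'⟩ e
    have e' : x s * (g : M) = x s' * (g' : M) := e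
    have him : ∀ (s : S) (g : ↥KM), ((x s * g : M) : Equiv.Perm GolayPt) • setOf' tP = s.1 := fun s g => by
      rw [Subgroup.coe_mul, mul_smul, mem_stab.mp (show (g : M) ∈ stabOf tP from g.2), hx]
    have hs : s = s' := Subtype.ext (by rw [← him s g, ← him s' g', e'])
    subst hs
    exact Prod.ext rfl (Subtype.ext (mul_left_cancel e'))
  have h := Nat.card_le_card_of_injective _ hinj
  rw [Nat.card_prod, hS, card_M] at h
  omega

theorem KM_eq : KM = Subgroup.normalizer (F0 : Set M) :=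
  (Subgroup.eq_of_le_of_card_ge norm_le_KM
    (by rw [model_K.card_norm model_loc tM_two]; exact card_KM)).symm

/-- The group of order eighteen. -/
noncomputable def B0 : Subgroup M := Subgroup.closure (toM '' {g | g ∈ bGen})

theorem B0_le : B0 ≤ HM ⊓ KM := (Subgroup.closure_le _).mpr <| by
  rintro _ ⟨g, hg, rfl⟩
  have h := List.all_eq_true.mp y_check.2.2.1 g hg
  simp only [Bool.and_eq_true] at h
  exact ⟨(stabs_iff (ok_bGen g hg) hP_lt).mp h.1, (stabs_iff (ok_bGen g hg) tP_lt).mp h.2⟩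

theorem yM_B0 : yM ∈ B0 := Subgroup.subset_closure ⟨yK, by simp [bGen], rfl⟩

theorem seq_norm (j : Fin 8) : seqE j ∈ Subgroup.normalizer (B0 : Set M) := by
  refine normalizer_of_conj_le fun b hb => ?_
  have hle : B0 ≤ B0.comap (MulAut.conj (seqE j)).toMonoidHom := (Subgroup.closure_le _).mpr <| by
    rintro _ ⟨g, hg, rfl⟩
    obtain ⟨w, hw, h⟩ := List.any_eq_true.mp
      (List.all_eq_true.mp (List.all_eq_true.mp seq_check.2.2 j (List.mem_range.mpr j.2)) g hg)
    have hsub : ∀ x ∈ w, x ∈ bGen := fun x hx => by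
      have := (List.mem_sublists.mp hw).subset hx
      simp [bGen] at this ⊢
      tauto
    simp only [entEq, List.all_eq_true, List.mem_range, beq_iff_eq] at h
    have e : seqE j * toM g = (w.map toM).prod * seqE j := ext_ent fun p => by
      simp only [Subgroup.coe_mul, Equiv.Perm.mul_apply, seqE]
      rw [toM_spec (seq_ok j), toM_spec (ok_bGen g hg), word_spec fun x hx => ok_bGen x (hsub x hx),
        toM_spec (seq_ok j)]
      exact h _ (idx_lt p)
    show seqE j * toM g * (seqE j)⁻¹ ∈ B0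
    rw [e, mul_inv_cancel_right]
    refine Subgroup.list_prod_mem _ fun x hx => ?_
    obtain ⟨q, hq, rfl⟩ := List.mem_map.mp hx
    exact Subgroup.subset_closure ⟨q, hsub q hq, rfl⟩
  exact hle hb

theorem cent_B0 {c : M} (hc : ∀ b ∈ B0, Commute c b) : c = 1 := by
  obtain ⟨h1, h2, h3⟩ := cen_check
  simp only [List.all_eq_true, Bool.and_eq_true] at h1
  have hP : ∀ a ∈ cenL, toM a ∈ cen yM := fun a ha =>
    mem_cen.mpr (toM_comm ok_yK (h1 a ha).1.1.1 (h1 a ha).1.1.1 ok_yK (h1 a ha).1.2)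
  obtain ⟨-, hall⟩ := nodup_le (L := cenL)
    (by simp only [List.all_eq_true, Bool.and_eq_true]; exact fun a ha => ⟨(h1 a ha).1.1.1, (h1 a ha).1.1.2⟩) h2
    (P := fun x => x ∈ cen yM) hP
  obtain ⟨a, ha, rfl⟩ := hall (by rw [h3]; exact (model_loc.three yM model_K.ord).1.symm) c
    (mem_cen.mpr (hc _ yM_B0).symm)
  have h := (h1 a ha).2
  simp only [Bool.or_eq_true, Bool.not_eq_true'] at h
  have hb : ∀ g ∈ bGen, entEq (fun i => ent g (ent a i)) (fun i => ent a (ent g i)) = true := fun g hg =>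
    entEq_of_comm (ok_bGen g hg) (h1 a ha).1.1.1 (hc _ (Subgroup.subset_closure ⟨g, hg, rfl⟩)).symm
  rcases h with (h | h) | h
  · exact toM_one (h1 a ha).1.1.1 h
  · rw [hb zK (by simp [bGen])] at h; simp at h
  · rw [hb tK (by simp [bGen])] at h; simp at h

theorem seq_zero : seqE 0 ∈ HM ⊓ KM :=
  ⟨(stabs_iff (seq_ok 0) hP_lt).mp seq_check.1, (stabs_iff (seq_ok 0) tP_lt).mp seq_check.2.1⟩

end Cfsg.Agent.MTwentyThree.Nse.KD
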