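import Mathlib.GroupTheory.Perm.Cycle.Type
import Mathlib.GroupTheory.SpecificGroups.Cyclic
import Mathlib.Algebra.BigOperators.Group.Finset.Basic
import Mathlib.Data.Fintype.BigOperators
import Mathlib.Tactic

/-!
Fixed points of automorphisms given by conjugation, and a Frobenius group of order twenty-one on an elementary
abelian group of exponent two.
-/

set_option autoImplicit false
set_option linter.unusedSectionVars false
set_option linter.style.haveILetI false

namespace Cfsg.Agent.MTwentyThree.Nse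

variable {G : Type*} [Group G]

/-- A subgroup invariant under conjugation by members of another. -/
def NormIn (C N : Subgroup G) : Prop := ∀ c ∈ C, ∀ g ∈ N, c * g * c⁻¹ ∈ N

theorem commute_of_shift {x u t : G} {n : ℕ} (hn : Odd n) (hx : x ^ n = 1) (ht : t * t = 1) (htx : Commute x t)
    (h : x * u * x⁻¹ = u ∨ x * u * x⁻¹ = u * t) : Commute x u := by
  rcases h with h | h
  · exact mul_inv_eq_iff_eq_mul.mp h
  · have key : ∀ k : ℕ, x ^ k * u * (x ^ k)⁻¹ = u * t ^ k := fun k => by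
      induction k with
      | zero => simp
      | succ k ih =>
        calc x ^ (k + 1) * u * (x ^ (k + 1))⁻¹ = x * (x ^ k * u * (x ^ k)⁻¹) * x⁻¹ := by
              rw [pow_succ']; group
          _ = x * u * x⁻¹ * (x * t ^ k * x⁻¹) := by rw [ih]; group
          _ = u * t * t ^ k := by rw [h, (htx.pow_right k).eq, mul_inv_cancel_right]
          _ = u * t ^ (k + 1) := by rw [pow_succ', mul_assoc]
    have h2 := key n
    obtain ⟨m, rfl⟩ := hn
    rw [hx, inv_one, one_mul, mul_one, pow_succ, pow_mul, pow_two, ht, one_pow, one_mul, left_eq_mul] at h2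
    rw [h2, mul_one] at h
    exact mul_inv_eq_iff_eq_mul.mp h

section Fin

variable [Finite G]

theorem card_fix_modEq {p : ℕ} [Fact p.Prime] {x : G} (hx : x ^ p = 1) (N : Subgroup G)
    (hN : ∀ g ∈ N, x * g * x⁻¹ ∈ N) :
    Nat.card N % p = Nat.card ↥(N ⊓ Subgroup.centralizer ({x} : Set G)) % p := by
  classical
  haveI := Fintype.ofFinite N
  let f : N → N := fun g => ⟨x * g * x⁻¹, hN g g.2⟩
  have hf : Function.Bijective f := Finite.injective_iff_bijective.mp fun a b e => Subtype.ext (by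
    have := congrArg Subtype.val e
    simpa [f] using this)
  let σ : Equiv.Perm N := Equiv.ofBijective f hf
  have key : ∀ (k : ℕ) (g : N), ((σ ^ k) g : G) = x ^ k * g * (x ^ k)⁻¹ := fun k => by
    induction k with
    | zero => simp
    | succ k ih =>
      intro g
      rw [pow_succ', Equiv.Perm.mul_apply]
      show x * ((σ ^ k) g : G) * x⁻¹ = _
      rw [ih, pow_succ']
      group
  have hσ : σ ^ p ^ 1 = 1 := Equiv.ext fun g => Subtype.ext (by simp [key, hx, pow_one])
  have h := Equiv.Perm.card_compl_support_modEq hσ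
  rw [← Nat.card_eq_fintype_card] at h
  rw [← h]
  congr 1
  rw [← Nat.card_eq_finsetCard]
  refine Nat.card_congr
    { toFun := fun g => ⟨g.1.1, g.1.2, Subgroup.mem_centralizer_singleton_iff.mpr ?_⟩
      invFun := fun g => ⟨⟨g.1, g.2.1⟩, ?_⟩
      left_inv := fun _ => rfl
      right_inv := fun _ => rfl }
  · have h1 := congrArg Subtype.val (Equiv.Perm.notMem_support.mp (Finset.mem_compl.mp g.2))
    exact (mul_inv_eq_iff_eq_mul.mp h1).symm
  · rw [Finset.mem_compl, Equiv.Perm.notMem_support]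
    exact Subtype.ext (mul_inv_eq_iff_eq_mul.mpr (Subgroup.mem_centralizer_singleton_iff.mp g.2.2).symm)

end Fin

/-- The group of order twenty-one does not act fixed point freely in characteristic two. -/
theorem frob_fix (W : Subgroup G) (hab : ∀ a ∈ W, ∀ b ∈ W, Commute a b) (hsq : ∀ a ∈ W, a * a = 1) {x y : G}
    (hx7 : x ^ 7 = 1) (hy3 : y ^ 3 = 1) (hxy : y * x * y⁻¹ = x ^ 2)
    (hWx : ∀ a ∈ W, x * a * x⁻¹ ∈ W) (hWy : ∀ a ∈ W, y * a * y⁻¹ ∈ W)
    (fx : ∀ a ∈ W, Commute x a → a = 1) (fy : ∀ a ∈ W, Commute y a → a = 1) : W = ⊥ := by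
  classical
  letI : CommGroup W := { (inferInstance : Group W) with mul_comm := fun a b => Subtype.ext (hab _ a.2 _ b.2) }
  have hWn : ∀ (n : ℕ), ∀ a ∈ W, x ^ n * a * (x ^ n)⁻¹ ∈ W := fun n => by
    induction n with
    | zero => simp
    | succ n ih =>
      intro a ha
      have := hWx _ (ih a ha)
      rwa [show x * (x ^ n * a * (x ^ n)⁻¹) * x⁻¹ = x ^ (n + 1) * a * (x ^ (n + 1))⁻¹ by rw [pow_succ']; group] at this
  let A : ℕ → W →* W := fun n =>
    { toFun := fun a => ⟨x ^ n * a * (x ^ n)⁻¹, hWn n a a.2⟩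
      map_one' := Subtype.ext (by simp)
      map_mul' := fun a b => Subtype.ext (by simp [mul_assoc]) }
  have A_mod : ∀ n, A n = A (n % 7) := fun n => MonoidHom.ext fun a => Subtype.ext (by
    show x ^ n * (a : G) * (x ^ n)⁻¹ = x ^ (n % 7) * (a : G) * (x ^ (n % 7))⁻¹
    rw [← pow_eq_pow_mod n hx7])
  have reidx : ∀ (k : ℕ) (g : Fin 7 → Fin 7), Function.Bijective g → (∀ i : Fin 7, (g i).val = k * i.val % 7) →
      ∀ u : W, ∏ i : Fin 7, A (k * i.val) u = ∏ i : Fin 7, A i.val u := fun k g hg hv u =>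
    Fintype.prod_bijective g hg _ _ fun i => by rw [hv, ← A_mod]
  have hsum : ∀ u : W, ∏ i : Fin 7, A i.val u = 1 := fun u => by
    have hfix : A 1 (∏ i : Fin 7, A i.val u) = ∏ i : Fin 7, A i.val u := by
      rw [map_prod]
      refine Fintype.prod_bijective (fun i : Fin 7 => i + 1) (by decide +kernel) _ _ fun i => ?_
      rw [show ((i + 1 : Fin 7) : ℕ) = (i.val + 1) % 7 from Fin.val_add i 1, ← A_mod]
      exact Subtype.ext (by show x ^ 1 * (x ^ i.val * (u : G) * (x ^ i.val)⁻¹) * (x ^ 1)⁻¹ = _; simp [A, pow_succ']; group)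
    have h1 := congrArg Subtype.val hfix
    simp only [A, MonoidHom.coe_mk, OneHom.coe_mk, pow_one] at h1
    exact Subtype.ext (fx _ (∏ i : Fin 7, A i.val u).2 (mul_inv_eq_iff_eq_mul.mp h1))
  have hyx : ∀ m : ℕ, y * x ^ m = x ^ (2 * m) * y := fun m => by
    rw [← mul_inv_eq_iff_eq_mul, ← conj_pow, hxy, ← pow_mul]
  refine (Subgroup.eq_bot_iff_forall _).mpr fun a₀ ha₀ => ?_
  let a : W := ⟨a₀, ha₀⟩
  let b : W := ⟨y * a₀ * y⁻¹, hWy _ ha₀⟩
  let c : W := ⟨y * (y * a₀ * y⁻¹) * y⁻¹, hWy _ b.2⟩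
  have key : ∀ n : ℕ, a * A (6 * n) b * A (4 * n) c = 1 := fun n => by
    set w := x ^ (6 * n) * y with hw
    have w2 : w * w = x ^ (4 * n) * (y * y) := by
      rw [hw, mul_assoc, ← mul_assoc y, hyx, mul_assoc (x ^ (2 * (6 * n))), ← mul_assoc (x ^ (6 * n)), ← pow_add]
      rw [pow_eq_pow_mod (6 * n + 2 * (6 * n)) hx7, pow_eq_pow_mod (4 * n) hx7,
        show (6 * n + 2 * (6 * n)) % 7 = 4 * n % 7 by omega]
    have w3 : w * w * w = 1 := by
      rw [w2, hw, mul_assoc, mul_assoc y y, ← mul_assoc y (x ^ (6 * n)), hyx, mul_assoc (x ^ (2 * (6 * n))),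
        ← mul_assoc y (x ^ (2 * (6 * n))), hyx, mul_assoc (x ^ (2 * (2 * (6 * n)))), ← pow_two, ← pow_succ', hy3,
        mul_one, ← pow_add, pow_eq_pow_mod _ hx7, show (4 * n + 2 * (2 * (6 * n))) % 7 = 0 by omega, pow_zero]
    set v := a * A (6 * n) b * A (4 * n) c
    have e1 : ((A (6 * n) b : W) : G) = w * a₀ * w⁻¹ := by
      show x ^ (6 * n) * (y * a₀ * y⁻¹) * (x ^ (6 * n))⁻¹ = _
      rw [hw]; group
    have e2 : ((A (4 * n) c : W) : G) = (w * w) * a₀ * (w * w)⁻¹ := by
      show x ^ (4 * n) * (y * (y * a₀ * y⁻¹) * y⁻¹) * (x ^ (4 * n))⁻¹ = _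
      rw [w2]; group
    have hv : (v : G) = a₀ * (w * a₀ * w⁻¹) * ((w * w) * a₀ * (w * w)⁻¹) := by
      show a₀ * ((A (6 * n) b : W) : G) * ((A (4 * n) c : W) : G) = _
      rw [e1, e2]
    have hwv : w * v * w⁻¹ = v := by
      rw [hv]
      have h3 : (w * w * w) * a₀ * (w * w * w)⁻¹ = a₀ := by rw [w3]; group
      calc w * (a₀ * (w * a₀ * w⁻¹) * ((w * w) * a₀ * (w * w)⁻¹)) * w⁻¹
          = (w * a₀ * w⁻¹) * ((w * w) * a₀ * (w * w)⁻¹) * ((w * w * w) * a₀ * (w * w * w)⁻¹) := by group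
        _ = (w * a₀ * w⁻¹) * ((w * w) * a₀ * (w * w)⁻¹) * a₀ := by rw [h3]
        _ = _ := by
          rw [← e1, ← e2]
          exact congrArg Subtype.val (show A (6 * n) b * A (4 * n) c * a = a * A (6 * n) b * A (4 * n) c by
            rw [mul_comm, ← mul_assoc])
    have hwn : w = x ^ n * y * (x ^ n)⁻¹ := by
      rw [eq_mul_inv_iff_mul_eq, hw, mul_assoc, hyx, ← mul_assoc, ← pow_add, pow_eq_pow_mod _ hx7,
        pow_eq_pow_mod n hx7, show (6 * n + 2 * n) % 7 = n % 7 by omega]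
    have hinv : (x ^ n)⁻¹ = x ^ (6 * n) := by
      refine inv_eq_of_mul_eq_one_right ?_
      rw [← pow_add, pow_eq_pow_mod _ hx7, show (n + 6 * n) % 7 = 0 by omega, pow_zero]
    have hu : (x ^ n)⁻¹ * (v : G) * x ^ n ∈ W := by
      have := hWn (6 * n) v v.2
      rwa [← hinv, inv_inv] at this
    have := fy _ hu (by
      show y * _ = _ * y
      calc y * ((x ^ n)⁻¹ * (v : G) * x ^ n) = (x ^ n)⁻¹ * (w * v * w⁻¹) * w * x ^ n := by rw [hwn]; group
        _ = _ := by rw [hwv, hwn]; group)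
    refine Subtype.ext ?_
    calc (v : G) = x ^ n * ((x ^ n)⁻¹ * (v : G) * x ^ n) * (x ^ n)⁻¹ := by group
      _ = 1 := by rw [this]; group
  have hprod : ∏ i : Fin 7, a * A (6 * i.val) b * A (4 * i.val) c = 1 :=
    Finset.prod_eq_one fun i _ => key i.val
  rw [Finset.prod_mul_distrib, Finset.prod_mul_distrib,
    reidx 6 (fun i => 6 * i) (by decide +kernel) (fun i => by revert i; decide +kernel),
    reidx 4 (fun i => 4 * i) (by decide +kernel) (fun i => by revert i; decide +kernel), hsum, hsum, mul_one,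
    mul_one, Finset.prod_const, Finset.card_univ, Fintype.card_fin] at hprod
  have ha : a = 1 := by
    have h2 : a ^ 2 = 1 := Subtype.ext (by rw [SubmonoidClass.coe_pow, pow_two]; exact hsq _ ha₀)
    rw [show (7 : ℕ) = 2 * 3 + 1 from rfl, pow_succ, pow_mul, h2, one_pow, one_mul] at hprod
    exact hprod
  exact congrArg Subtype.val ha

end Cfsg.Agent.MTwentyThree.Nse
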