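import Cfsg.Agent.Lib.Spor.MTwentyThreeNse.Counts
import Cfsg.Agent.Lib.Spor.MTwentyThreeNse.LocalTools
import Cfsg.Agent.Lib.Char.SmallOrderGraph.NoThirteenFortyFour
import Cfsg.Agent.Lib.Solv.Cores

/-!
The centraliser of an involution: its largest normal subgroup of two-power order is elementary abelian of order
sixteen and self-centralising.
-/

set_option autoImplicit false
set_option maxHeartbeats 800000
set_option linter.unusedSectionVars false
set_option linter.style.haveILetI false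

namespace Cfsg.Agent.MTwentyThree.Nse

open Cfsg.Agent.Solv

variable {G : Type*} [Group G] [Finite G]

theorem mem_norm_zpowers {g z : G} :
    g ∈ Subgroup.normalizer ((Subgroup.zpowers z : Subgroup G) : Set G) ↔ g * z * g⁻¹ ∈ Subgroup.zpowers z := by
  rw [Subgroup.mem_normalizer_iff_map_conj_eq, MonoidHom.map_zpowers]
  refine ⟨fun h => h ▸ Subgroup.mem_zpowers _, fun h => ?_⟩
  exact Subgroup.eq_of_le_of_card_ge (Subgroup.zpowers_le.mpr h)
    (le_of_eq (by rw [Nat.card_zpowers, Nat.card_zpowers]; exact (MulEquiv.orderOf_eq (MulAut.conj g) z).symm))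

/-- The centraliser of an element, abbreviated. -/
abbrev cen (t : G) : Subgroup G := Subgroup.centralizer ({t} : Set G)

theorem mem_cen {g t : G} : g ∈ cen t ↔ Commute t g :=
  Subgroup.mem_centralizer_singleton_iff.trans ⟨fun h => h.symm, fun h => h.eq.symm⟩

theorem sq_one {t : G} (ht : orderOf t = 2) : t * t = 1 := by rw [← pow_two, ← ht, pow_orderOf_eq_one]

theorem mem_two_cases {t g : G} (ht : orderOf t = 2) (hg : g ∈ Subgroup.zpowers t) : g = 1 ∨ g = t := by
  obtain ⟨k, rfl⟩ := (isOfFinOrder_of_finite t).mem_powers_iff_mem_zpowers.mpr hg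
  show t ^ k = 1 ∨ t ^ k = t
  rw [← pow_mod_orderOf, ht]
  rcases Nat.mod_two_eq_zero_or_one k with e | e <;> rw [e] <;> simp

/-- The largest normal subgroup of two-power order of the centraliser. -/
def core (t : G) : Subgroup G := (Cfsg.pCore 2 ↥(cen t)).map (cen t).subtype

theorem core_le (t : G) : core t ≤ cen t := Subgroup.map_subtype_le _

theorem core_two (t : G) : IsPGroup 2 (core t) := by
  haveI : Fact (Nat.Prime 2) := ⟨Nat.prime_two⟩
  exact (Cfsg.Agent.Solv.pCore_isPGroup 2).map _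

theorem core_normIn (t : G) : NormIn (cen t) (core t) := by
  rintro c hc _ ⟨g, hg, rfl⟩
  exact ⟨⟨c, hc⟩ * g * ⟨c, hc⟩⁻¹, (Cfsg.Agent.Solv.pCore_normal 2).conj_mem g hg _, rfl⟩

theorem le_core {t : G} {N : Subgroup G} (hN : N ≤ cen t) (hn : NormIn (cen t) N) (hp : IsPGroup 2 N) :
    N ≤ core t := fun g hg => by
  haveI : (N.subgroupOf (cen t)).Normal := ⟨fun a ha c => hn c c.2 a ha⟩
  exact ⟨⟨g, hN hg⟩, Cfsg.Agent.Solv.normal_le_pCore
    (hp.of_injective (Subgroup.subgroupOfEquivOfLe hN).toMonoidHom (MulEquiv.injective _)) hg, rfl⟩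

theorem self_mem_core {t : G} (ht : orderOf t = 2) : t ∈ core t := by
  refine le_core (N := Subgroup.zpowers t) ?_ ?_ ?_ (Subgroup.mem_zpowers t)
  · rw [Subgroup.zpowers_le]; exact mem_cen.mpr (Commute.refl t)
  · intro c hc g hg
    obtain ⟨k, rfl⟩ := hg
    show c * t ^ k * c⁻¹ ∈ _
    rw [((mem_cen.mp hc).zpow_left k).symm.eq, mul_inv_cancel_right]
    exact ⟨k, rfl⟩
  · exact IsPGroup.of_card (n := 1) (by rw [Nat.card_zpowers, ht, pow_one])

namespace Loc

variable (L : Loc G)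
include L

theorem seven_gen {x t : G} (hx : orderOf x = 7) (ht : orderOf t = 2) (hc : Commute t x) :
    cen x = Subgroup.zpowers (x * t) ∧ (x * t) ^ 7 = t := by
  have ho : orderOf (x * t) = 14 := by
    rw [hc.symm.orderOf_mul_eq_mul_orderOf_of_coprime (by rw [hx, ht]; norm_num), hx, ht]
  refine ⟨(Subgroup.eq_of_le_of_card_ge ?_ ?_).symm, ?_⟩
  · rw [Subgroup.zpowers_le, mem_cen]; exact (Commute.refl x).mul_right hc.symm
  · rw [Nat.card_zpowers, ho]; exact le_of_eq (L.seven x hx).1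
  · rw [hc.symm.mul_pow, ← hx, pow_orderOf_eq_one, one_mul, hx, show (7 : ℕ) = 2 * 3 + 1 from rfl, pow_succ, pow_mul,
      pow_two, sq_one ht, one_pow, one_mul]

theorem seven_unique {x t u : G} (hx : orderOf x = 7) (ht : orderOf t = 2) (hu : orderOf u = 2) (hc : Commute t x)
    (hd : Commute u x) : u = t := by
  obtain ⟨h1, h2⟩ := L.seven_gen hx ht hc
  have hm : u ∈ cen x := mem_cen.mpr hd.symm
  rw [h1] at hm
  obtain ⟨k, rfl⟩ := (isOfFinOrder_of_finite (x * t)).mem_powers_iff_mem_zpowers.mpr hm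
  simp only at hu ⊢
  have ho : orderOf (x * t) = 14 := by
    rw [hc.symm.orderOf_mul_eq_mul_orderOf_of_coprime (by rw [hx, ht]; norm_num), hx, ht]
  have hd2 : 14 ∣ k * 2 := by
    rw [← ho, orderOf_dvd_iff_pow_eq_one, pow_mul, ← hu, pow_orderOf_eq_one]
  obtain ⟨m, rfl⟩ : 7 ∣ k := by omega
  rw [pow_mul, h2] at hu ⊢
  rcases mem_two_cases ht (Subgroup.pow_mem _ (Subgroup.mem_zpowers t) m) with e | e
  · rw [e, orderOf_one] at hu; omega
  · exact e

theorem norm_seven_le {x t g : G} (hx : orderOf x = 7) (ht : orderOf t = 2) (hc : Commute t x)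
    (hg : g ∈ Subgroup.normalizer ((Subgroup.zpowers x : Subgroup G) : Set G)) : g ∈ cen t := by
  have hgi := inv_mem hg
  rw [mem_norm_zpowers] at hgi
  obtain ⟨k, hk⟩ := hgi
  have hk' : x ^ k = g⁻¹ * x * g := by rw [← inv_inv g] at *; simpa using hk
  have h1 : Commute (g * t * g⁻¹) x := by
    have := (hc.zpow_right k).map (MulAut.conj g).toMonoidHom
    rw [hk'] at this
    simpa [mul_assoc] using this
  have h2 : g * t * g⁻¹ = t := L.seven_unique hx ht
    (by rw [show g * t * g⁻¹ = MulAut.conj g t from rfl, MulEquiv.orderOf_eq, ht]) hc h1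
  exact mem_cen.mpr (show Commute t g from (mul_inv_eq_iff_eq_mul.mp h2).symm)

theorem exists_frame {t : G} (ht : orderOf t = 2) :
    ∃ x y : G, orderOf x = 7 ∧ orderOf y = 3 ∧ Commute t x ∧ Commute t y ∧ y * x * y⁻¹ = x ^ 2 := by
  haveI : Fact (Nat.Prime 7) := ⟨by norm_num⟩
  haveI : Fact (Nat.Prime 3) := ⟨by norm_num⟩
  obtain ⟨x, hx, hc⟩ := exists_comm (p := 7) (x := t) (by rw [L.invol t ht]; norm_num)
  obtain ⟨z, hz⟩ := exists_prime_orderOf_dvd_card' 3
    (show 3 ∣ Nat.card (Subgroup.normalizer ((Subgroup.zpowers x : Subgroup G) : Set G)) by rw [(L.seven x hx).2]; norm_num)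
  have hz' : orderOf (z : G) = 3 := by rw [Subgroup.orderOf_coe]; exact hz
  have hzt : Commute t z := mem_cen.mp (L.norm_seven_le hx ht hc z.2)
  have hzn := mem_norm_zpowers.mp z.2
  obtain ⟨k, hk⟩ := (isOfFinOrder_of_finite x).mem_powers_iff_mem_zpowers.mpr hzn
  have hk' : (z : G) * x * (z : G)⁻¹ = x ^ (k % 7) := by rw [← hx, pow_mod_orderOf]; exact hk.symm
  have hlt : k % 7 < 7 := Nat.mod_lt _ (by norm_num)
  generalize k % 7 = j at hk' hlt
  have hpow : ∀ m, (z : G) * x ^ m * (z : G)⁻¹ = x ^ (j * m) := fun m => by rw [← conj_pow, hk', pow_mul]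
  have hj3 : x ^ (j * j * j) = x := by
    have e2 : (z : G) ^ 3 = 1 := by rw [← hz', pow_orderOf_eq_one]
    calc x ^ (j * j * j) = (z : G) * ((z : G) * ((z : G) * x * (z : G)⁻¹) * (z : G)⁻¹) * (z : G)⁻¹ := by
          rw [hk', hpow, hpow, mul_assoc]
      _ = (z : G) ^ 3 * x * ((z : G) ^ 3)⁻¹ := by simp only [pow_succ, pow_zero, one_mul]; group
      _ = x := by rw [e2]; group
  have hj : j * j * j % 7 = 1 := by
    have := pow_inj_mod.mp (hj3.trans (pow_one x).symm)
    rw [hx] at this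
    simpa using this
  have hne1 : j ≠ 1 := fun e => by
    rw [e, pow_one] at hk'
    have hm : (z : G) ∈ cen x := mem_cen.mpr (show Commute x (z : G) from (mul_inv_eq_iff_eq_mul.mp hk').symm)
    have := orderOf_dvd_natCard (⟨(z : G), hm⟩ : cen x)
    rw [(L.seven x hx).1, Subgroup.orderOf_mk, hz'] at this
    omega
  have : j = 2 ∨ j = 4 := by interval_cases j <;> simp_all
  rcases this with rfl | rfl
  · exact ⟨x, z, hx, hz', hc, hzt, hk'⟩
  · refine ⟨x, (z : G)⁻¹, hx, by rw [orderOf_inv, hz'], hc, hzt.inv_right, ?_⟩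
    have h2 := hpow 2
    rw [pow_eq_pow_mod (4 * 2) (hx ▸ pow_orderOf_eq_one x : x ^ 7 = 1), show 4 * 2 % 7 = 1 from rfl, pow_one] at h2
    calc (z : G)⁻¹ * x * ((z : G)⁻¹)⁻¹ = (z : G)⁻¹ * ((z : G) * x ^ 2 * (z : G)⁻¹) * ((z : G)⁻¹)⁻¹ := by rw [h2]
      _ = x ^ 2 := by group

theorem fix_seven {t x : G} (ht : orderOf t = 2) (hx : orderOf x = 7) (hc : Commute t x) {N : Subgroup G}
    (htN : t ∈ N) (h7 : ¬ 7 ∣ Nat.card N) : N ⊓ cen x = Subgroup.zpowers t := by
  symm
  have hle : Subgroup.zpowers t ≤ N ⊓ cen x := Subgroup.zpowers_le.mpr ⟨htN, mem_cen.mpr hc.symm⟩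
  refine Subgroup.eq_of_le_of_card_ge hle ?_
  have hd : Nat.card ↥(N ⊓ cen x) ∣ 14 := (L.seven x hx).1 ▸ Subgroup.card_dvd_of_le inf_le_right
  have hn : ¬ 7 ∣ Nat.card ↥(N ⊓ cen x) := fun h => h7 (h.trans (Subgroup.card_dvd_of_le inf_le_left))
  rw [Nat.card_zpowers, ht]
  exact Nat.le_of_dvd (by norm_num)
    ((((show Nat.Prime 7 by norm_num).coprime_iff_not_dvd.mpr hn).symm).dvd_of_dvd_mul_right
      (show Nat.card ↥(N ⊓ cen x) ∣ 2 * 7 from hd))

theorem fix_three {t y : G} (ht : orderOf t = 2) (hy : orderOf y = 3) {N : Subgroup G} (hN : N ≤ cen t)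
    (hp : IsPGroup 2 N) : Nat.card ↥(N ⊓ cen y) ∣ 4 := by
  haveI : Fact (Nat.Prime 2) := ⟨Nat.prime_two⟩
  have h1 : Nat.card ↥(N ⊓ cen y) ∣ Nat.gcd 2688 180 := Nat.dvd_gcd
    (L.invol t ht ▸ Subgroup.card_dvd_of_le (inf_le_left.trans hN))
    ((L.three y hy).1 ▸ Subgroup.card_dvd_of_le inf_le_right)
  obtain ⟨k, hk⟩ := (hp.to_le (inf_le_left : N ⊓ cen y ≤ N)).exists_card_eq
  rw [hk] at h1 ⊢
  have h2 : 2 ^ k ∣ 4 * 3 := h1.trans (by norm_num)
  exact (Nat.Coprime.pow_left k (by norm_num)).dvd_of_dvd_mul_right h2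

theorem norm_card {t : G} (ht : orderOf t = 2) {N : Subgroup G} (hN : N ≤ cen t) (hn : NormIn (cen t) N)
    (htN : t ∈ N) (h7 : ¬ 7 ∣ Nat.card N) : Nat.card N = 2 ∨ Nat.card N = 16 ∨ Nat.card N = 128 := by
  haveI : Fact (Nat.Prime 7) := ⟨by norm_num⟩
  obtain ⟨x, y, hx, -, hc, -, -⟩ := L.exists_frame ht
  have hm := card_fix_modEq (hx ▸ pow_orderOf_eq_one x) N (hn x (mem_cen.mpr hc))
  rw [show N ⊓ Subgroup.centralizer ({x} : Set G) = N ⊓ cen x from rfl, L.fix_seven ht hx hc htN h7,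
    Nat.card_zpowers, ht] at hm
  have hd0 := Subgroup.card_dvd_of_le hN
  rw [L.invol t ht] at hd0
  have hd : Nat.card N ∣ 384 := (((show Nat.Prime 7 by norm_num).coprime_iff_not_dvd.mpr h7).symm).dvd_of_dvd_mul_right
    (show Nat.card N ∣ 384 * 7 from hd0)
  exact (by decide +kernel : ∀ c < 385, c ∣ 384 → c % 7 = 2 % 7 → c = 2 ∨ c = 16 ∨ c = 128) _
    (Nat.lt_succ_of_le (Nat.le_of_dvd (by norm_num) hd)) hd hm

theorem isPGroup_of_norm {t : G} (ht : orderOf t = 2) {N : Subgroup G} (hN : N ≤ cen t) (hn : NormIn (cen t) N)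
    (htN : t ∈ N) (h7 : ¬ 7 ∣ Nat.card N) : IsPGroup 2 N := by
  rcases L.norm_card ht hN hn htN h7 with e | e | e
  · exact IsPGroup.of_card (n := 1) (by rw [e]; rfl)
  · exact IsPGroup.of_card (n := 4) (by rw [e]; rfl)
  · exact IsPGroup.of_card (n := 7) (by rw [e]; rfl)

theorem norm_seven {t : G} (ht : orderOf t = 2) {N : Subgroup G} (hN : N ≤ cen t) (hn : NormIn (cen t) N)
    (htN : t ∈ N) (h7 : 7 ∣ Nat.card N) : N = cen t ∨ 128 ≤ Nat.card (core t) := by
  classical
  haveI : Fact (Nat.Prime 7) := ⟨by norm_num⟩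
  set C := cen t
  have hC : Nat.card C = 2688 := L.invol t ht
  obtain ⟨x0, hx0⟩ := exists_prime_orderOf_dvd_card' 7 h7
  set x : G := x0.1
  have hx : orderOf x = 7 := by rw [Subgroup.orderOf_coe]; exact hx0
  have hc : Commute t x := mem_cen.mp (hN x0.2)
  let x₁ : C := ⟨x, hN x0.2⟩
  have hall : ∀ g : G, g ∈ C → orderOf g = 7 → g ∈ N := fun g hg hgo => by
    obtain ⟨c, hcc⟩ := exists_conj_zpowers (p := 7) (x := x₁) (u := (⟨g, hg⟩ : C)) (by rw [hC]; norm_num)
      (by rw [Subgroup.orderOf_mk, hx]) (by rw [Subgroup.orderOf_mk, hgo])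
    obtain ⟨z, ⟨i, rfl⟩, e⟩ : (⟨g, hg⟩ : C) ∈ (Subgroup.zpowers x₁).map (MulAut.conj c).toMonoidHom :=
      hcc ▸ Subgroup.mem_zpowers _
    have e' : (c : G) * x ^ i * (c : G)⁻¹ = g := by
      have := congrArg Subtype.val e
      simpa [x₁] using this
    rw [← e']
    exact hn c c.2 _ (Subgroup.zpow_mem _ x0.2 i)
  have hcnt : CV.cnt N 7 = CV.cnt C 7 := Nat.card_congr
    { toFun := fun g => ⟨⟨g.1.1, hN g.1.2⟩, by rw [Subgroup.orderOf_mk, Subgroup.orderOf_coe]; exact g.2⟩
      invFun := fun g => ⟨⟨g.1.1, hall _ g.1.2 (by rw [Subgroup.orderOf_coe]; exact g.2)⟩, by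
        rw [Subgroup.orderOf_mk, Subgroup.orderOf_coe]; exact g.2⟩
      left_inv := fun _ => rfl
      right_inv := fun _ => rfl }
  set Nx := Subgroup.normalizer ((Subgroup.zpowers x : Subgroup G) : Set G)
  have hnorm : ∀ (H : Subgroup G) (hxH : x ∈ H),
      Nat.card (Subgroup.normalizer ((Subgroup.zpowers (⟨x, hxH⟩ : H) : Subgroup H) : Set H)) =
        Nat.card ↥(H ⊓ Nx) := fun H hxH => by
    have hiff : ∀ g : H, g ∈ Subgroup.normalizer ((Subgroup.zpowers (⟨x, hxH⟩ : H) : Subgroup H) : Set H) ↔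
        (g : G) ∈ Nx := fun g => by
      rw [mem_norm_zpowers, mem_norm_zpowers]
      simp only [Subgroup.mem_zpowers_iff]
      exact exists_congr fun i => by rw [Subtype.ext_iff]; simp
    exact Nat.card_congr
      { toFun := fun g => ⟨g.1.1, g.1.2, (hiff g.1).mp g.2⟩
        invFun := fun g => ⟨⟨g.1, g.2.1⟩, (hiff ⟨g.1, g.2.1⟩).mpr g.2.2⟩
        left_inv := fun _ => rfl
        right_inv := fun _ => rfl }
  have hNd : Nat.card N ∣ 2688 := hC ▸ Subgroup.card_dvd_of_le hN
  have h49 : ¬ 7 ^ 2 ∣ Nat.card N := fun h => absurd (h.trans hNd) (by norm_num)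
  have eN := cnt_mul_normalizer (x := (x0 : N)) h49 hx0
  have eC := cnt_mul_normalizer (x := x₁) (p := 7) (by rw [hC]; norm_num) (by rw [Subgroup.orderOf_mk, hx])
  rw [hnorm C (hN x0.2), inf_eq_right.mpr (fun g hg => L.norm_seven_le hx ht hc hg), (L.seven x hx).2, hC] at eC
  rw [show x0 = (⟨x, x0.2⟩ : N) from rfl, hnorm N x0.2, hcnt] at eN
  have hk : Nat.card ↥(N ⊓ Nx) ∣ 42 := (L.seven x hx).2 ▸ Subgroup.card_dvd_of_le inf_le_right
  have hxt : x ∈ N ⊓ cen x ∧ t ∈ N ⊓ cen x :=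
    ⟨⟨x0.2, mem_cen.mpr (Commute.refl x)⟩, ⟨htN, mem_cen.mpr hc.symm⟩⟩
  have hsub : N ⊓ cen x ≤ N ⊓ Nx := inf_le_inf_left _ (centralizer_le_normalizer x)
  have hxc : cen x ≤ N := by
    rw [(L.seven_gen hx ht hc).1, Subgroup.zpowers_le]
    exact mul_mem hxt.1.1 hxt.2.1
  have h14 : 14 ∣ Nat.card ↥(N ⊓ Nx) := by
    rw [← (L.seven x hx).1]
    exact Subgroup.card_dvd_of_le ((le_inf hxc le_rfl).trans hsub)
  obtain ⟨m, hm⟩ := h14
  have hm3 : m = 1 ∨ m = 3 := (Nat.dvd_prime Nat.prime_three).mp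
    (Nat.dvd_of_mul_dvd_mul_left (show 0 < 14 by norm_num) (show 14 * m ∣ 14 * 3 by rw [← hm]; exact hk))
  rcases hm3 with rfl | rfl
  · right
    have hNc : Nat.card N = 896 := by rw [hm] at eN; omega
    have eqc : cen x = N ⊓ Nx := Subgroup.eq_of_le_of_card_ge ((le_inf hxc le_rfl).trans hsub)
      (by rw [hm, (L.seven x hx).1])
    let P : Sylow 7 N := Sylow.ofCard (Subgroup.zpowers (⟨x, x0.2⟩ : N)) (by
      rw [Nat.card_zpowers, Subgroup.orderOf_mk, hx, hNc, show (896 : ℕ) = 2 ^ 7 * 7 from rfl,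
        Nat.factorization_mul (by norm_num) (by norm_num), Nat.Prime.factorization_pow Nat.prime_two,
        Nat.Prime.factorization (by norm_num : Nat.Prime 7)]
      simp)
    have hP : Subgroup.normalizer ((P : Subgroup N) : Set N) ≤ Subgroup.centralizer ((P : Subgroup N) : Set N) := by
      intro g hg z hz
      have hg' : (g : G) ∈ Nx := mem_norm_zpowers.mpr (by
        obtain ⟨i, hi⟩ := mem_norm_zpowers.mp (show g ∈ Subgroup.normalizer
          ((Subgroup.zpowers (⟨x, x0.2⟩ : N) : Subgroup N) : Set N) from hg)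
        exact ⟨i, by have := congrArg Subtype.val hi; simpa using this⟩)
      have hgc : (g : G) ∈ cen x := eqc ▸ ⟨g.2, hg'⟩
      obtain ⟨i, rfl⟩ := (hz : z ∈ Subgroup.zpowers (⟨x, x0.2⟩ : N))
      exact Subtype.ext (by simpa using ((mem_cen.mp hgc).zpow_left i).eq)
    set f := MonoidHom.transferSylow P hP
    have hPc : Nat.card (P : Subgroup N) = 7 := by
      show Nat.card (Subgroup.zpowers (⟨x, x0.2⟩ : N)) = 7
      rw [Nat.card_zpowers, Subgroup.orderOf_mk, hx]
    have hK : Nat.card f.ker = 128 := by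
      have : Nat.card f.ker * Nat.card (P : Subgroup N) = Nat.card N :=
        (MonoidHom.ker_transferSylow_isComplement' P hP).card_mul_card
      rw [hPc, hNc] at this
      omega
    set K := f.ker.map N.subtype with hKdef
    have hKc : Nat.card K = 128 := by rw [hKdef, Subgroup.card_map_of_injective N.subtype_injective, hK]
    have hKN : NormIn C K := by
      rintro c hcC _ ⟨g, hg, rfl⟩
      refine ⟨⟨c * g.1 * c⁻¹, hn c hcC g.1 g.2⟩, ?_, rfl⟩
      have h128 : g ^ 128 = 1 := by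
        have := pow_card_eq_one' (x := (⟨g, hg⟩ : f.ker))
        rw [hK] at this
        exact congrArg Subtype.val this
      have hz : (⟨c * g.1 * c⁻¹, hn c hcC g.1 g.2⟩ : N) ^ 128 = 1 := Subtype.ext (by
        rw [SubmonoidClass.coe_pow, conj_pow, ← SubmonoidClass.coe_pow, h128]; simp)
      have hf := congrArg f hz
      rw [map_pow, map_one] at hf
      have h1 := orderOf_dvd_of_pow_eq_one hf
      have h2 := orderOf_dvd_natCard (f (⟨c * g.1 * c⁻¹, hn c hcC g.1 g.2⟩ : N))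
      rw [hPc] at h2
      exact MonoidHom.mem_ker.mpr (orderOf_eq_one_iff.mp
        (Nat.eq_one_of_dvd_coprimes (show Nat.Coprime 128 7 by norm_num) h1 h2))
    calc 128 = Nat.card K := hKc.symm
      _ ≤ Nat.card (core t) := Nat.le_of_dvd Nat.card_pos (Subgroup.card_dvd_of_le
          (le_core ((Subgroup.map_subtype_le _).trans hN) hKN (IsPGroup.of_card (n := 7) (by rw [hKc]; rfl))))
  · left
    refine Subgroup.eq_of_le_of_card_ge hN ?_
    rw [hm] at eN
    omega

theorem not_seven_core (t : G) : ¬ 7 ∣ Nat.card (core t) := fun h => by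
  haveI : Fact (Nat.Prime 2) := ⟨Nat.prime_two⟩
  obtain ⟨k, hk⟩ := (core_two t).exists_card_eq
  rw [hk] at h
  exact absurd ((show Nat.Prime 7 by norm_num).dvd_of_dvd_pow h) (by norm_num)

/-- The core has order sixteen. -/
theorem card_core {t : G} (ht : orderOf t = 2) : Nat.card (core t) = 16 := by
  classical
  haveI : Fact (Nat.Prime 2) := ⟨Nat.prime_two⟩
  haveI : Fact (Nat.Prime 3) := ⟨Nat.prime_three⟩
  obtain ⟨x, y, hx, hy, hcx, hcy, hxy⟩ := L.exists_frame ht
  set C := cen t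
  let Z : Subgroup C := (Subgroup.zpowers t).subgroupOf C
  haveI : Z.Normal := ⟨fun a ha c => by
    obtain ⟨k, hk⟩ := (ha : (a : G) ∈ Subgroup.zpowers t)
    refine (?_ : ((c * a * c⁻¹ : C) : G) ∈ Subgroup.zpowers t)
    simp only [Subgroup.coe_mul, Subgroup.coe_inv]
    rw [← (show t ^ k = (a : G) from hk), show (c : G) * t ^ k = t ^ k * c from ((mem_cen.mp c.2).zpow_left k).eq.symm, mul_inv_cancel_right]
    exact ⟨k, rfl⟩⟩
  let π := QuotientGroup.mk' Z
  have hπ : ∀ a : C, π a = 1 ↔ (a : G) ∈ Subgroup.zpowers t := fun a => QuotientGroup.eq_one_iff a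
  have lift : ∀ (a : C) (n : ℕ), Odd n → (a : G) ^ n = 1 → ∀ u : C, Commute (π a) (π u) → Commute (a : G) (u : G) := by
    intro a n hn han u hau
    have h1 : π (u⁻¹ * (a * u * a⁻¹)) = 1 := by
      simp only [map_mul, map_inv, hau.eq]
      group
    refine commute_of_shift hn han (sq_one ht) (mem_cen.mp a.2).symm ?_
    rcases mem_two_cases ht ((hπ _).mp h1) with e | e <;> simp only [Subgroup.coe_mul, Subgroup.coe_inv] at e
    · left; exact (inv_mul_eq_one.mp e).symm
    · right; rw [← e, mul_inv_cancel_left]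
  let x₁ : C := ⟨x, mem_cen.mpr hcx⟩
  let y₁ : C := ⟨y, mem_cen.mpr hcy⟩
  have hx7 : x ^ 7 = 1 := hx ▸ pow_orderOf_eq_one x
  have hy3 : y ^ 3 = 1 := hy ▸ pow_orderOf_eq_one y
  rcases L.norm_card ht (core_le t) (core_normIn t) (self_mem_core ht) (L.not_seven_core t) with h | h | h
  · exfalso
    have hcore : core t = Subgroup.zpowers t := (Subgroup.eq_of_le_of_card_ge
      (Subgroup.zpowers_le.mpr (self_mem_core ht)) (by rw [h, Nat.card_zpowers, ht])).symm
    have hQ : Nat.card (C ⧸ Z) = 1344 := by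
      have e := Subgroup.card_eq_card_quotient_mul_card_subgroup Z
      rw [show Nat.card C = 2688 from L.invol t ht, Nat.card_congr (Subgroup.subgroupOfEquivOfLe
        (show Subgroup.zpowers t ≤ C from Subgroup.zpowers_le.mpr (mem_cen.mpr (Commute.refl t)))).toEquiv,
        Nat.card_zpowers, ht] at e
      omega
    haveI : Nontrivial (C ⧸ Z) := Finite.one_lt_card_iff_nontrivial.mp (by omega)
    haveI : IsSimpleGroup (C ⧸ Z) := ⟨fun M hM => by
      set N := (M.comap π).map C.subtype with hNdef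
      have hNle : N ≤ C := Subgroup.map_subtype_le _
      have hNn : NormIn C N := by
        rintro c hc _ ⟨g, hg, rfl⟩
        exact ⟨⟨c, hc⟩ * g * ⟨c, hc⟩⁻¹, (hM.comap π).conj_mem g hg _, rfl⟩
      have htN : t ∈ N := ⟨⟨t, mem_cen.mpr (Commute.refl t)⟩,
        show π ⟨t, _⟩ ∈ M by rw [(hπ _).mpr (Subgroup.mem_zpowers t)]; exact M.one_mem, rfl⟩
      by_cases h7 : 7 ∣ Nat.card N
      · rcases L.norm_seven ht hNle hNn htN h7 with e | e
        · right
          refine (Subgroup.eq_top_iff' M).mpr fun q => ?_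
          obtain ⟨g, rfl⟩ := QuotientGroup.mk'_surjective Z q
          obtain ⟨g', hg', e'⟩ : (g : G) ∈ N := e ▸ g.2
          rwa [show g' = g from Subtype.ext e'] at hg'
        · omega
      · left
        have hle := le_core hNle hNn (L.isPGroup_of_norm ht hNle hNn htN h7)
        rw [hcore] at hle
        refine (Subgroup.eq_bot_iff_forall M).mpr fun q hq => ?_
        obtain ⟨g, rfl⟩ := QuotientGroup.mk'_surjective Z q
        exact (hπ g).mpr (hle ⟨g, hq, rfl⟩)⟩
    refine Cfsg.Agent.Char.SmallOrderGraph.card_ne_1344 (fun hab => ?_) hQ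
    have h1 := lift x₁ 7 (by decide) hx7 y₁ (hab.1.1 (π x₁) (π y₁))
    have h2 : x ^ 1 = x ^ 2 := by
      rw [pow_one, ← hxy, show y * x = x * y from h1.eq.symm, mul_inv_cancel_right]
    have := pow_inj_mod.mp h2
    rw [hx] at this
    norm_num at this
  · exact h
  · exfalso
    set Ob := (Cfsg.pCore 2 ↥C).map π
    haveI hObn : Ob.Normal := Subgroup.Normal.map (Cfsg.Agent.Solv.pCore_normal 2) π (QuotientGroup.mk'_surjective Z)
    let W : Subgroup (C ⧸ Z) :=
      { carrier := {w | w ∈ Ob ∧ w * w = 1 ∧ ∀ a ∈ Ob, Commute w a}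
        one_mem' := ⟨one_mem _, one_mul 1, fun a _ => Commute.one_left a⟩
        mul_mem' := fun {a b} ha hb => ⟨mul_mem ha.1 hb.1, by
          rw [(ha.2.2 b hb.1).symm.mul_mul_mul_comm, ha.2.1, hb.2.1, one_mul],
          fun c hc => (ha.2.2 c hc).mul_left (hb.2.2 c hc)⟩
        inv_mem' := fun {a} ha => ⟨inv_mem ha.1, by rw [← mul_inv_rev, ha.2.1, inv_one],
          fun c hc => (ha.2.2 c hc).inv_left⟩ }
    have hWn : ∀ g : C ⧸ Z, ∀ w ∈ W, g * w * g⁻¹ ∈ W := fun g w hw => by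
      refine ⟨hObn.conj_mem w hw.1 g, ?_, fun a ha => ?_⟩
      · calc g * w * g⁻¹ * (g * w * g⁻¹) = g * (w * w) * g⁻¹ := by group
          _ = 1 := by rw [hw.2.1]; group
      · have := (hw.2.2 _ (hObn.conj_mem a ha g⁻¹)).map (MulAut.conj g).toMonoidHom
        simpa [mul_assoc] using this
    have hsmall : ∀ (a : C) (n : ℕ), Odd n → (a : G) ^ n = 1 → core t ⊓ cen (a : G) = Subgroup.zpowers t →
        ∀ w ∈ W, Commute (π a) w → w = 1 := by
      rintro a n hn han hfix w ⟨⟨u, hu, rfl⟩, -⟩ hcom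
      refine (hπ u).mpr ?_
      rw [← hfix]
      exact ⟨⟨u, hu, rfl⟩, mem_cen.mpr (lift a n hn han u hcom)⟩
    have hfy : core t ⊓ cen y = Subgroup.zpowers t := by
      symm
      refine Subgroup.eq_of_le_of_card_ge
        (Subgroup.zpowers_le.mpr ⟨self_mem_core ht, mem_cen.mpr hcy.symm⟩) ?_
      rw [Nat.card_zpowers, ht]
      have hm := card_fix_modEq hy3 (core t) (core_normIn t y (mem_cen.mpr hcy))
      rw [show core t ⊓ Subgroup.centralizer ({y} : Set G) = core t ⊓ cen y from rfl, h] at hm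
      exact (by decide +kernel : ∀ c < 5, c ∣ 4 → 128 % 3 = c % 3 → c ≤ 2) _
        (Nat.lt_succ_of_le (Nat.le_of_dvd (by norm_num) (L.fix_three ht hy (core_le t) (core_two t))))
        (L.fix_three ht hy (core_le t) (core_two t)) hm
    have hxyq : π y₁ * π x₁ * (π y₁)⁻¹ = π x₁ ^ 2 := by
      rw [← map_inv, ← map_mul, ← map_mul, ← map_pow]; exact congrArg π (Subtype.ext hxy)
    have hbot : W = ⊥ := frob_fix W (fun a ha b hb => ha.2.2 b hb.1) (fun a ha => ha.2.1)
      (by rw [← map_pow, show x₁ ^ 7 = 1 from Subtype.ext hx7, map_one])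
      (by rw [← map_pow, show y₁ ^ 3 = 1 from Subtype.ext hy3, map_one]) hxyq
      (fun w hw => hWn _ w hw) (fun w hw => hWn _ w hw)
      (hsmall x₁ 7 (by decide) hx7 (L.fix_seven ht hx hcx (self_mem_core ht) (L.not_seven_core t)))
      (hsmall y₁ 3 (by decide) hy3 hfy)
    have hObp : IsPGroup 2 Ob := (Cfsg.Agent.Solv.pCore_isPGroup 2).map π
    haveI : Nontrivial Ob := by
      rw [Subgroup.nontrivial_iff_ne_bot]
      intro e
      have : core t ≤ Subgroup.zpowers t := by
        rintro _ ⟨u, hu, rfl⟩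
        exact (hπ u).mp (by rw [← Subgroup.mem_bot, ← e]; exact ⟨u, hu, rfl⟩)
      have := Nat.le_of_dvd Nat.card_pos (Subgroup.card_dvd_of_le this)
      rw [h, Nat.card_zpowers, ht] at this
      omega
    haveI := hObp.center_nontrivial
    obtain ⟨z, hz⟩ := exists_prime_orderOf_dvd_card' (G := Subgroup.center Ob) 2 (by
      obtain ⟨k, hk0, hk⟩ := (hObp.to_subgroup (Subgroup.center Ob)).nontrivial_iff_card.mp inferInstance
      rw [hk]; exact dvd_pow_self 2 hk0.ne')
    have hz2 : (z.1 : C ⧸ Z) ∈ W := ⟨z.1.2, by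
      have e := pow_orderOf_eq_one z
      rw [hz, pow_two] at e
      exact congrArg (fun q : Subgroup.center Ob => (q.1 : C ⧸ Z)) e,
      fun a ha => (congrArg Subtype.val (Subgroup.mem_center_iff.mp z.2 ⟨a, ha⟩)).symm⟩
    rw [hbot, Subgroup.mem_bot] at hz2
    rw [show z = 1 from Subtype.ext (Subtype.ext hz2), orderOf_one] at hz
    omega

theorem core_no_seven {t : G} (ht : orderOf t = 2) {N : Subgroup G} (hN : N ≤ core t) (hn : NormIn (cen t) N)
    (htN : t ∈ N) : N = core t ∨ N = Subgroup.zpowers t := by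
  rcases L.norm_card ht (hN.trans (core_le t)) hn htN
    (fun h => L.not_seven_core t (h.trans (Subgroup.card_dvd_of_le hN))) with e | e | e
  · exact Or.inr (Subgroup.eq_of_le_of_card_ge (Subgroup.zpowers_le.mpr htN) (by rw [e, Nat.card_zpowers, ht])).symm
  · exact Or.inl (Subgroup.eq_of_le_of_card_ge hN (by rw [e, L.card_core ht]))
  · have := Nat.le_of_dvd Nat.card_pos (Subgroup.card_dvd_of_le hN)
    rw [e, L.card_core ht] at this
    omega

theorem not_cyc {t : G} (ht : orderOf t = 2) : ¬ core t ≤ Subgroup.zpowers t := fun h => by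
  have := Nat.le_of_dvd Nat.card_pos (Subgroup.card_dvd_of_le h)
  rw [L.card_core ht, Nat.card_zpowers, ht] at this
  omega

theorem core_comm_mod {t : G} (ht : orderOf t = 2) :
    ∀ a ∈ core t, ∀ b ∈ core t, a * b * a⁻¹ * b⁻¹ ∈ Subgroup.zpowers t := by
  classical
  haveI : Fact (Nat.Prime 2) := ⟨Nat.prime_two⟩
  set R := core t
  let Z : Subgroup R := (Subgroup.zpowers t).subgroupOf R
  have htR : t ∈ R := self_mem_core ht
  have hZc : ∀ (g : R) (k : ℤ), Commute (g : G) (t ^ k) := fun g k =>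
    ((mem_cen.mp (core_le t g.2)).symm).zpow_right k
  haveI : Z.Normal := ⟨fun a ha g => by
    obtain ⟨k, hk⟩ := (ha : (a : G) ∈ Subgroup.zpowers t)
    refine (?_ : ((g * a * g⁻¹ : R) : G) ∈ Subgroup.zpowers t)
    simp only [Subgroup.coe_mul, Subgroup.coe_inv]
    rw [← (show t ^ k = (a : G) from hk), show (g : G) * t ^ k = t ^ k * g from (hZc g k).eq, mul_inv_cancel_right]
    exact ⟨k, rfl⟩⟩
  let π := QuotientGroup.mk' Z
  let N : Subgroup G := ((Subgroup.center (R ⧸ Z)).comap π).map R.subtype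
  have hmem : ∀ (g : G) (hg : g ∈ R), g ∈ N ↔ ∀ b ∈ R, g * b * g⁻¹ * b⁻¹ ∈ Subgroup.zpowers t := fun g hg => by
    constructor
    · rintro ⟨u, hu, rfl⟩ b hb
      have h1 : π u * π ⟨b, hb⟩ * (π u)⁻¹ * (π ⟨b, hb⟩)⁻¹ = 1 := by
        rw [(Subgroup.mem_center_iff.mp hu (π ⟨b, hb⟩)).symm]; group
      rw [← map_inv, ← map_inv, ← map_mul, ← map_mul, ← map_mul] at h1
      exact (QuotientGroup.eq_one_iff (N := Z) _).mp h1
    · intro h
      refine ⟨⟨g, hg⟩, Subgroup.mem_center_iff.mpr fun q => ?_, rfl⟩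
      obtain ⟨b, rfl⟩ := QuotientGroup.mk'_surjective Z q
      have h1 : π (⟨g, hg⟩ * b * ⟨g, hg⟩⁻¹ * b⁻¹) = 1 := (QuotientGroup.eq_one_iff _).mpr (h b b.2)
      simp only [map_mul, map_inv] at h1
      rw [mul_inv_eq_one, mul_inv_eq_iff_eq_mul] at h1
      exact h1.symm
  have hNR : N ≤ R := Subgroup.map_subtype_le _
  have hn : NormIn (cen t) N := fun c hc g hg => by
    refine (hmem _ (core_normIn t c hc g (hNR hg))).mpr fun b hb => ?_
    have hb' := core_normIn t c⁻¹ (inv_mem hc) b hb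
    have h1 := (hmem g (hNR hg)).mp hg _ hb'
    obtain ⟨k, hk⟩ := h1
    refine ⟨k, ?_⟩
    show t ^ k = _
    calc t ^ k = c * t ^ k * c⁻¹ := by
          rw [show c * t ^ k = t ^ k * c from ((mem_cen.mp hc).zpow_left k).eq.symm, mul_inv_cancel_right]
      _ = _ := by rw [show t ^ k = g * (c⁻¹ * b * c⁻¹⁻¹) * g⁻¹ * (c⁻¹ * b * c⁻¹⁻¹)⁻¹ from hk]; group
  have htN : t ∈ N := ⟨⟨t, htR⟩, Subgroup.mem_comap.mpr (by
    rw [show π ⟨t, htR⟩ = 1 from (QuotientGroup.eq_one_iff _).mpr (Subgroup.mem_zpowers t)]; exact one_mem _), rfl⟩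
  rcases L.core_no_seven ht hNR hn htN with e | e
  · intro a ha b hb
    exact (hmem a ha).mp (e ▸ ha) b hb
  · exfalso
    haveI : Nontrivial (R ⧸ Z) := by
      rw [QuotientGroup.nontrivial_iff]
      intro e'
      exact L.not_cyc ht fun g hg => (show (⟨g, hg⟩ : R) ∈ Z by rw [e']; exact Subgroup.mem_top _)
    haveI := ((core_two t).to_quotient Z).center_nontrivial
    obtain ⟨⟨q, hq⟩, hq1⟩ := exists_ne (1 : Subgroup.center (R ⧸ Z))
    obtain ⟨u, rfl⟩ := QuotientGroup.mk'_surjective Z q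
    have huN : (u : G) ∈ N := ⟨u, hq, rfl⟩
    rw [e] at huN
    exact hq1 (Subtype.ext ((QuotientGroup.eq_one_iff u).mpr huN))

theorem comm_kernel {t : G} (ht : orderOf t = 2) {w : G} (hw : w ∈ core t) {A : Subgroup G} (hA : A ≤ core t) :
    Nat.card A ≤ 2 * Nat.card ↥(A ⊓ cen w) := by
  have hm := L.core_comm_mod ht
  have hcz : ∀ a ∈ core t, ∀ z ∈ Subgroup.zpowers t, Commute a z := fun a ha z ⟨k, hk⟩ =>
    hk ▸ ((mem_cen.mp (core_le t ha)).symm).zpow_right k
  let f : A →* G :=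
    { toFun := fun a => (a : G) * w * (a : G)⁻¹ * w⁻¹
      map_one' := by simp
      map_mul' := fun a b => by
        have hz := hm b (hA b.2) w hw
        simp only [Subgroup.coe_mul]
        calc (a : G) * b * w * ((a : G) * b)⁻¹ * w⁻¹
            = (a : G) * ((b : G) * w * (b : G)⁻¹ * w⁻¹) * w * (a : G)⁻¹ * w⁻¹ := by group
          _ = ((b : G) * w * (b : G)⁻¹ * w⁻¹) * ((a : G) * w * (a : G)⁻¹ * w⁻¹) := by
            rw [(hcz a (hA a.2) _ hz).eq]; group
          _ = _ := (hcz _ (by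
              exact Subgroup.mul_mem _ (Subgroup.mul_mem _ (Subgroup.mul_mem _ (hA a.2) hw)
                (Subgroup.inv_mem _ (hA a.2))) (Subgroup.inv_mem _ hw)) _ hz).symm.eq }
  have hker : Nat.card f.ker = Nat.card ↥(A ⊓ cen w) := Nat.card_congr
    { toFun := fun a => ⟨a.1.1, a.1.2, mem_cen.mpr (show Commute w (a.1 : G) from by
        have h := a.2
        rw [MonoidHom.mem_ker] at h
        exact (mul_inv_eq_iff_eq_mul.mp (mul_inv_eq_one.mp h)).symm)⟩
      invFun := fun a => ⟨⟨a.1, a.2.1⟩, MonoidHom.mem_ker.mpr (by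
        show a.1 * w * a.1⁻¹ * w⁻¹ = 1
        rw [← (mem_cen.mp a.2.2).eq]; group)⟩
      left_inv := fun _ => rfl
      right_inv := fun _ => rfl }
  have hr : Nat.card f.range ≤ 2 := by
    have hle : f.range ≤ Subgroup.zpowers t := by
      rintro _ ⟨a, rfl⟩
      exact hm a (hA a.2) w hw
    have := Nat.le_of_dvd Nat.card_pos (Subgroup.card_dvd_of_le hle)
    rwa [Nat.card_zpowers, ht] at this
  rw [← Subgroup.index_mul_card f.ker, Subgroup.index_ker, hker]
  exact Nat.mul_le_mul_right _ hr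

theorem core_abelian {t : G} (ht : orderOf t = 2) : ∀ a ∈ core t, ∀ b ∈ core t, Commute a b := by
  classical
  set R := core t
  let Zc : Subgroup G := R ⊓ Subgroup.centralizer (R : Set G)
  have hn : NormIn (cen t) Zc := fun c hc g hg => ⟨core_normIn t c hc g hg.1, fun b hb => by
    have h1 := hg.2 _ (core_normIn t c⁻¹ (inv_mem hc) b hb)
    calc b * (c * g * c⁻¹) = c * ((c⁻¹ * b * c⁻¹⁻¹) * g) * c⁻¹ := by group
      _ = c * (g * (c⁻¹ * b * c⁻¹⁻¹)) * c⁻¹ := by rw [h1]
      _ = c * g * c⁻¹ * b := by group⟩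
  have htZ : t ∈ Zc := ⟨self_mem_core ht, fun b hb => (mem_cen.mp (core_le t hb)).symm.eq⟩
  rcases L.core_no_seven ht inf_le_left hn htZ with e | e
  · intro a ha b hb
    exact ((((le_of_eq e.symm) ha : a ∈ Zc)).2 b hb).symm
  · exfalso
    obtain ⟨u, hu, hu'⟩ := SetLike.not_le_iff_exists.mp (L.not_cyc ht)
    set T := R ⊓ cen u
    have htu : t ∈ T ∧ u ∈ T :=
      ⟨⟨self_mem_core ht, mem_cen.mpr (mem_cen.mp (core_le t hu)).symm⟩, ⟨hu, mem_cen.mpr (Commute.refl u)⟩⟩
    have hTne : T ≠ R := fun e2 =>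
      hu' (e ▸ (⟨hu, fun b hb => (mem_cen.mp ((e2 ▸ hb : b ∈ T)).2).symm.eq⟩ : u ∈ Zc))
    have hT : Nat.card T = 8 := by
      have h1 := L.comm_kernel ht hu (le_refl R)
      have h2 : Nat.card T ∣ 16 := L.card_core ht ▸ Subgroup.card_dvd_of_le inf_le_left
      have h3 : Nat.card T ≠ 16 := fun e2 =>
        hTne (Subgroup.eq_of_le_of_card_ge inf_le_left (by rw [L.card_core ht, e2]))
      rw [L.card_core ht] at h1
      exact (by decide +kernel : ∀ c < 17, c ∣ 16 → 16 ≤ 2 * c → c ≠ 16 → c = 8) _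
        (Nat.lt_succ_of_le (Nat.le_of_dvd (by norm_num) h2)) h2 h1 h3
    have hTab : ∀ a ∈ T, ∀ b ∈ T, Commute a b := by
      have hc3 : 2 < Nat.card (Subgroup.center T) := by
        haveI := Fintype.ofFinite (Subgroup.center T)
        rw [Nat.card_eq_fintype_card]
        refine Fintype.two_lt_card_iff.mpr ⟨1,
          ⟨⟨t, htu.1⟩, Subgroup.mem_center_iff.mpr fun g => Subtype.ext (mem_cen.mp (core_le t g.2.1)).symm.eq⟩,
          ⟨⟨u, htu.2⟩, Subgroup.mem_center_iff.mpr fun g => Subtype.ext (mem_cen.mp g.2.2).symm.eq⟩, ?_, ?_, ?_⟩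
        · intro h
          have := congrArg (fun q : Subgroup.center T => (q.1 : G)) h
          simp only [OneMemClass.coe_one] at this
          rw [← this, orderOf_one] at ht
          omega
        · intro h
          have := congrArg (fun q : Subgroup.center T => (q.1 : G)) h
          simp only [OneMemClass.coe_one] at this
          exact hu' (this ▸ one_mem _)
        · intro h
          have h' : t = u := congrArg (fun q : Subgroup.center T => (q.1 : G)) h
          exact hu' (h' ▸ Subgroup.mem_zpowers t)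
      have hq : Nat.card (T ⧸ Subgroup.center T) ≤ 2 := by
        have h1 := Subgroup.card_eq_card_quotient_mul_card_subgroup (Subgroup.center T)
        rw [hT] at h1
        by_contra hq
        have := Nat.mul_le_mul (not_le.mp hq : 3 ≤ _) (hc3 : 3 ≤ _)
        omega
      have hpos : 0 < Nat.card (T ⧸ Subgroup.center T) := Nat.card_pos
      have hcyc : IsCyclic (T ⧸ Subgroup.center T) := by
        rcases (show Nat.card (T ⧸ Subgroup.center T) = 1 ∨ Nat.card (T ⧸ Subgroup.center T) = 2 by omega) with h | h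
        · haveI : Subsingleton (T ⧸ Subgroup.center T) := (Nat.card_eq_one_iff_unique.mp h).1
          infer_instance
        · haveI : Fact (Nat.Prime 2) := ⟨Nat.prime_two⟩
          exact isCyclic_of_prime_card h
      letI := commGroupOfCyclicCenterQuotient (QuotientGroup.mk' (Subgroup.center T))
        (le_of_eq (QuotientGroup.ker_mk' _))
      exact fun a ha b hb => congrArg Subtype.val (mul_comm (⟨a, ha⟩ : T) ⟨b, hb⟩)
    obtain ⟨w, hw, hwT⟩ := SetLike.not_le_iff_exists.mp fun hle => hTne (le_antisymm inf_le_left hle)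
    have hA : 8 ≤ 2 * Nat.card ↥(T ⊓ cen w) := hT ▸ L.comm_kernel ht hw (inf_le_left : T ≤ R)
    obtain ⟨z, hz, hz'⟩ := SetLike.not_le_iff_exists.mp (show ¬ T ⊓ cen w ≤ Subgroup.zpowers t from fun hle => by
      have := Nat.le_of_dvd Nat.card_pos (Subgroup.card_dvd_of_le hle)
      rw [Nat.card_zpowers, ht] at this
      omega)
    have hTR : T ⊔ Subgroup.zpowers w = R := by
      refine Subgroup.eq_of_le_of_card_ge (sup_le inf_le_left (Subgroup.zpowers_le.mpr hw)) ?_
      rw [L.card_core ht]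
      have hne : T ≠ T ⊔ Subgroup.zpowers w := fun e2 =>
        hwT (e2 ▸ Subgroup.mem_sup_right (Subgroup.mem_zpowers w))
      obtain ⟨q, hq⟩ := Subgroup.card_dvd_of_le (le_sup_left : T ≤ T ⊔ Subgroup.zpowers w)
      rw [hT] at hq
      have hq1 : q ≠ 1 := fun e2 => hne (Subgroup.eq_of_le_of_card_ge le_sup_left (by rw [hq, hT, e2]))
      have hpos : 0 < Nat.card ↥(T ⊔ Subgroup.zpowers w) := Nat.card_pos
      rw [hq] at hpos ⊢
      omega
    have hzc : R ≤ cen z := by
      rw [← hTR]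
      refine sup_le (fun b hb => mem_cen.mpr (hTab z hz.1 b hb)) (Subgroup.zpowers_le.mpr ?_)
      exact mem_cen.mpr (mem_cen.mp hz.2).symm
    exact hz' (e ▸ (⟨hz.1.1, fun b hb => (mem_cen.mp (hzc hb)).symm.eq⟩ : z ∈ Zc))

theorem core_sq {t : G} (ht : orderOf t = 2) : ∀ a ∈ core t, a * a = 1 := by
  classical
  have hab := L.core_abelian ht
  set R := core t
  let f : R →* G :=
    { toFun := fun a => (a : G) * a
      map_one' := by simp
      map_mul' := fun a b => by
        simp only [Subgroup.coe_mul]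
        exact ((hab b b.2 a a.2)).mul_mul_mul_comm _ _ }
  let S : Subgroup G := f.ker.map R.subtype
  have hS : ∀ a ∈ R, (a ∈ S ↔ a * a = 1) := fun a ha =>
    ⟨fun ⟨b, hb, e⟩ => e ▸ MonoidHom.mem_ker.mp hb, fun h => ⟨⟨a, ha⟩, MonoidHom.mem_ker.mpr h, rfl⟩⟩
  have hn : NormIn (cen t) S := fun c hc a ha => by
    have haR := Subgroup.map_subtype_le _ ha
    refine (hS _ (core_normIn t c hc a haR)).mpr ?_
    calc c * a * c⁻¹ * (c * a * c⁻¹) = c * (a * a) * c⁻¹ := by group
      _ = 1 := by rw [(hS a haR).mp ha]; group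
  rcases L.core_no_seven ht (Subgroup.map_subtype_le _) hn ((hS t (self_mem_core ht)).mpr (sq_one ht)) with e | e
  · exact fun a ha => (hS a ha).mp ((le_of_eq e.symm) ha)
  · exfalso
    have hk : Nat.card f.ker = 2 := by
      have h1 : Nat.card S = Nat.card f.ker := Subgroup.card_map_of_injective (K := f.ker) R.subtype_injective
      have h2 : Nat.card S = 2 := (congrArg (fun H : Subgroup G => Nat.card H) e).trans (by rw [Nat.card_zpowers, ht])
      omega
    have hr : Nat.card f.range = 8 := by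
      have := Subgroup.index_mul_card f.ker
      rw [Subgroup.index_ker, hk, L.card_core ht] at this
      omega
    have hle : f.range ≤ R := by rintro _ ⟨a, rfl⟩; exact Subgroup.mul_mem _ a.2 a.2
    have hrn : NormIn (cen t) f.range := by
      rintro c hc _ ⟨a, rfl⟩
      refine ⟨⟨c * a.1 * c⁻¹, core_normIn t c hc a.1 a.2⟩, ?_⟩
      show c * a.1 * c⁻¹ * (c * a.1 * c⁻¹) = c * (a.1 * a.1) * c⁻¹
      group
    have htr : t ∈ f.range := by
      haveI : Fact (Nat.Prime 2) := ⟨Nat.prime_two⟩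
      obtain ⟨b, hb⟩ := exists_prime_orderOf_dvd_card' (G := f.range) 2 (by rw [hr]; norm_num)
      have hb2 : (b : G) * b = 1 := by
        have h2 := pow_orderOf_eq_one b
        rw [hb, pow_two] at h2
        exact congrArg Subtype.val h2
      have hbS : (b : G) ∈ S := (hS _ (hle b.2)).mpr hb2
      rcases mem_two_cases ht ((le_of_eq e) hbS) with h' | h'
      · rw [show b = 1 from Subtype.ext h', orderOf_one] at hb; omega
      · exact h' ▸ b.2
    rcases L.core_no_seven ht hle hrn htr with e' | e'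
    · rw [e', L.card_core ht] at hr; omega
    · rw [e', Nat.card_zpowers, ht] at hr; omega

/-- The core is self-centralising. -/
theorem core_self_cent {t : G} (ht : orderOf t = 2) : Subgroup.centralizer (core t : Set G) = core t := by
  have hab := L.core_abelian ht
  set R := core t
  have hle : Subgroup.centralizer (R : Set G) ≤ cen t := fun g hg => mem_cen.mpr (hg t (self_mem_core ht))
  have hRle : R ≤ Subgroup.centralizer (R : Set G) := fun a ha b hb => (hab b hb a ha).eq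
  have hn : NormIn (cen t) (Subgroup.centralizer (R : Set G)) := fun c hc g hg b hb => by
    have h1 := hg _ (core_normIn t c⁻¹ (inv_mem hc) b hb)
    calc b * (c * g * c⁻¹) = c * ((c⁻¹ * b * c⁻¹⁻¹) * g) * c⁻¹ := by group
      _ = c * (g * (c⁻¹ * b * c⁻¹⁻¹)) * c⁻¹ := by rw [h1]
      _ = c * g * c⁻¹ * b := by group
  refine le_antisymm ?_ hRle
  by_cases h7 : 7 ∣ Nat.card (Subgroup.centralizer (R : Set G))
  · exfalso
    haveI : Fact (Nat.Prime 7) := ⟨by norm_num⟩
    obtain ⟨x, hx⟩ := exists_prime_orderOf_dvd_card' 7 h7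
    have hle' : R ≤ cen (x : G) := fun b hb => mem_cen.mpr (x.2 b hb).symm
    have := Subgroup.card_dvd_of_le hle'
    rw [L.card_core ht, (L.seven x (by rw [Subgroup.orderOf_coe]; exact hx)).1] at this
    norm_num at this
  · exact le_core hle hn (L.isPGroup_of_norm ht hle hn (hRle (self_mem_core ht)) h7)

/-- A normal subgroup of order sixteen of the centraliser is the core. -/
theorem eq_core {t : G} (ht : orderOf t = 2) {E : Subgroup G} (hE : E ≤ cen t) (hn : NormIn (cen t) E)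
    (hc : Nat.card E = 16) : E = core t :=
  Subgroup.eq_of_le_of_card_ge (le_core hE hn (IsPGroup.of_card (n := 4) (by rw [hc]; rfl)))
    (by rw [hc, L.card_core ht])

theorem core_conj {t : G} (ht : orderOf t = 2) (g : G) :
    core (g * t * g⁻¹) = (core t).map (MulAut.conj g).toMonoidHom := by
  symm
  refine L.eq_core (by rw [show g * t * g⁻¹ = MulAut.conj g t from rfl, MulEquiv.orderOf_eq, ht]) ?_ ?_ ?_
  · rintro _ ⟨a, ha, rfl⟩
    exact mem_cen.mpr ((mem_cen.mp (core_le t ha)).map (MulAut.conj g).toMonoidHom)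
  · rintro c hc _ ⟨a, ha, rfl⟩
    have hc' : g⁻¹ * c * g ∈ cen t := by
      have := (mem_cen.mp hc).map (MulAut.conj g⁻¹).toMonoidHom
      exact mem_cen.mpr (by simpa [mul_assoc] using this)
    refine ⟨_, core_normIn t _ hc' a ha, ?_⟩
    show g * (g⁻¹ * c * g * a * (g⁻¹ * c * g)⁻¹) * g⁻¹ = c * (g * a * g⁻¹) * c⁻¹
    group
  · rw [Subgroup.card_map_of_injective (MulEquiv.injective _), L.card_core ht]

end Loc

end Cfsg.Agent.MTwentyThree.Nse
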