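import Cfsg.Agent.Lib.Spor.MTwentyThreeNse.LocalCore

/-!
In the centraliser of an element of order three commuting with an involution, the three involutions of the fixed
four group in the core are permuted cyclically.
-/

set_option autoImplicit false
set_option maxHeartbeats 800000
set_option linter.unusedSectionVars false
set_option linter.style.haveILetI false

namespace Cfsg.Agent.MTwentyThree.Nse

open Cfsg.Agent.Solv

variable {G : Type*} [Group G] [Finite G]

theorem conj_fix_pow {n u : G} (h : n * u * n⁻¹ = u) (k : ℕ) : n ^ k * u * (n ^ k)⁻¹ = u := by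
  induction k with
  | zero => simp
  | succ k ih =>
    calc n ^ (k + 1) * u * (n ^ (k + 1))⁻¹ = n * (n ^ k * u * (n ^ k)⁻¹) * n⁻¹ := by rw [pow_succ']; group
      _ = u := by rw [ih, h]

theorem normal_five_unique {K : Type*} [Group K] [Finite K] (h : Nat.card K = 45) {f g : K} (hf : orderOf f = 5)
    (hg : orderOf g = 5) : g ∈ Subgroup.zpowers f := by
  haveI : Fact (Nat.Prime 5) := ⟨by norm_num⟩
  have hfac : (Nat.card K).factorization 5 = 1 := by
    rw [h, show (45 : ℕ) = 3 ^ 2 * 5 from rfl, Nat.factorization_mul (by norm_num) (by norm_num),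
      Nat.Prime.factorization_pow Nat.prime_three, Nat.Prime.factorization Nat.prime_five]
    simp
  let mk : ∀ z : K, orderOf z = 5 → Sylow 5 K := fun z hz =>
    Sylow.ofCard (Subgroup.zpowers z) (by rw [Nat.card_zpowers, hz, hfac, pow_one])
  have h1 := card_sylow_modEq_one 5 K
  have h2 : Nat.card (Sylow 5 K) ∣ 9 := by
    have h3 := (mk f hf).card_dvd_index
    have h4 := Subgroup.index_mul_card (Subgroup.zpowers f)
    rw [Nat.card_zpowers, hf, h] at h4
    rwa [show (mk f hf : Subgroup K).index = 9 by show (Subgroup.zpowers f).index = 9; omega] at h3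
  have hone : Nat.card (Sylow 5 K) = 1 :=
    (by decide +kernel : ∀ c < 10, c ∣ 9 → c % 5 = 1 % 5 → c = 1) _
      (Nat.lt_succ_of_le (Nat.le_of_dvd (by norm_num) h2)) h2 h1
  haveI : Subsingleton (Sylow 5 K) := (Nat.card_eq_one_iff_unique.mp hone).1
  have e : Subgroup.zpowers g = Subgroup.zpowers f := congrArg Sylow.toSubgroup (Subsingleton.elim (mk g hg) (mk f hf))
  exact e ▸ Subgroup.mem_zpowers g

namespace Loc

variable (L : Loc G)
include L

theorem card_fix_four {t y : G} (ht : orderOf t = 2) (hy : orderOf y = 3) (hc : Commute t y) :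
    Nat.card ↥(core t ⊓ cen y) = 4 := by
  haveI : Fact (Nat.Prime 3) := ⟨Nat.prime_three⟩
  have hd := L.fix_three ht hy (core_le t) (core_two t)
  have hm := card_fix_modEq (hy ▸ pow_orderOf_eq_one y) (core t) (core_normIn t y (mem_cen.mpr hc))
  rw [show core t ⊓ Subgroup.centralizer ({y} : Set G) = core t ⊓ cen y from rfl, L.card_core ht] at hm
  have h2 : 2 ≤ Nat.card ↥(core t ⊓ cen y) := by
    have := Subgroup.card_dvd_of_le (Subgroup.zpowers_le.mpr ⟨self_mem_core ht, mem_cen.mpr hc.symm⟩ :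
      Subgroup.zpowers t ≤ core t ⊓ cen y)
    rw [Nat.card_zpowers, ht] at this
    exact Nat.le_of_dvd Nat.card_pos this
  exact (by decide +kernel : ∀ c < 5, c ∣ 4 → 16 % 3 = c % 3 → 2 ≤ c → c = 4) _
    (Nat.lt_succ_of_le (Nat.le_of_dvd (by norm_num) hd)) hd hm h2

theorem four_cases {t y e : G} (ht : orderOf t = 2) (hy : orderOf y = 3) (hc : Commute t y)
    (he : e ∈ core t ⊓ cen y) (he1 : e ≠ 1) (het : e ≠ t) {g : G} (hg : g ∈ core t ⊓ cen y) :
    g = 1 ∨ g = t ∨ g = e ∨ g = t * e := by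
  classical
  set V := core t ⊓ cen y with hV
  have htV : t ∈ V := ⟨self_mem_core ht, mem_cen.mpr hc.symm⟩
  have t1 : t ≠ 1 := fun h => by rw [h, orderOf_one] at ht; omega
  haveI := Fintype.ofFinite V
  let S : Finset G := {1, t, e, t * e}
  have hS : S.card = 4 := by
    refine Finset.card_eq_four.mpr ⟨1, t, e, t * e, t1.symm, he1.symm, fun h => het ?_, het.symm, fun h => he1 ?_,
      fun h => t1 ?_, rfl⟩
    · have := eq_inv_of_mul_eq_one_right h.symm
      rwa [show t⁻¹ = t from inv_eq_of_mul_eq_one_right (sq_one ht)] at this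
    · simpa using h
    · simpa using h
  let T : Finset G := Finset.univ.map ⟨fun a : V => (a : G), Subtype.val_injective⟩
  have hsub : S ⊆ T := fun a ha => by
    have hmem : ∀ b ∈ V, b ∈ T := fun b hb => Finset.mem_map.mpr ⟨⟨b, hb⟩, Finset.mem_univ _, rfl⟩
    simp only [S, Finset.mem_insert, Finset.mem_singleton] at ha
    rcases ha with rfl | rfl | rfl | rfl
    · exact hmem _ (one_mem _)
    · exact hmem _ htV
    · exact hmem _ he
    · exact hmem _ (mul_mem htV he)
  have eq : S = T := Finset.eq_of_subset_of_card_le hsub (by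
    rw [hS, Finset.card_map, Finset.card_univ, ← Nat.card_eq_fintype_card, L.card_fix_four ht hy hc])
  have hgS : g ∈ S := eq ▸ Finset.mem_map.mpr ⟨⟨g, hg⟩, Finset.mem_univ _, rfl⟩
  simpa [S] using hgS

theorem exists_mover {t y : G} (ht : orderOf t = 2) (hy : orderOf y = 3) (hc : Commute t y) :
    ∃ n ∈ cen y, (∀ v ∈ core t ⊓ cen y, n * v * n⁻¹ ∈ core t ⊓ cen y) ∧
      ∃ v ∈ core t ⊓ cen y, n * v * n⁻¹ ≠ v := by
  classical
  by_contra hno
  push Not at hno
  set V := core t ⊓ cen y with hV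
  set K := cen y with hK
  have hKc : Nat.card K = 180 := (L.three y hy).1
  haveI : Fact (Nat.Prime 2) := ⟨Nat.prime_two⟩
  haveI : Fact (Nat.Prime 5) := ⟨by norm_num⟩
  have hVK : V ≤ K := inf_le_right
  have hV4 : Nat.card V = 4 := L.card_fix_four ht hy hc
  let P : Sylow 2 K := Sylow.ofCard (V.subgroupOf K) (by
    rw [Nat.card_congr (Subgroup.subgroupOfEquivOfLe hVK).toEquiv, hV4, hKc, show (180 : ℕ) = 2 ^ 2 * 45 from rfl,
      Nat.factorization_mul (by norm_num) (by norm_num), Nat.Prime.factorization_pow Nat.prime_two]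
    simp [Nat.factorization_eq_zero_of_not_dvd (show ¬ 2 ∣ 45 by norm_num)])
  have hP : Subgroup.normalizer ((P : Subgroup K) : Set K) ≤ Subgroup.centralizer ((P : Subgroup K) : Set K) := by
    intro g hg v hv
    refine Subtype.ext ?_
    have hn : ∀ w ∈ V, (g : G) * w * (g : G)⁻¹ ∈ V := fun w hw =>
      (Subgroup.mem_normalizer_iff.mp hg ⟨w, hVK hw⟩).mp hw
    have := hno g g.2 hn v hv
    exact (mul_inv_eq_iff_eq_mul.mp this).symm
  set f := MonoidHom.transferSylow P hP
  have hPc : Nat.card (P : Subgroup K) = 4 := by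
    show Nat.card (V.subgroupOf K) = 4
    rw [Nat.card_congr (Subgroup.subgroupOfEquivOfLe hVK).toEquiv, hV4]
  have hker : Nat.card f.ker = 45 := by
    have : Nat.card f.ker * Nat.card (P : Subgroup K) = Nat.card K :=
      (MonoidHom.ker_transferSylow_isComplement' P hP).card_mul_card
    rw [hPc, hKc] at this
    omega
  obtain ⟨z, hz⟩ := exists_prime_orderOf_dvd_card' (G := f.ker) 5 (by rw [hker]; norm_num)
  set F : G := ((z : K) : G)
  have hF : orderOf F = 5 := by rw [Subgroup.orderOf_coe, Subgroup.orderOf_coe, hz]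
  have hno5 : ∀ v ∈ V, orderOf v = 2 → ¬ Commute v F := fun v hv hv2 hcv => by
    have := orderOf_dvd_natCard (⟨F, mem_cen.mpr hcv⟩ : cen v)
    rw [Subgroup.orderOf_mk, hF, L.invol v hv2] at this
    norm_num at this
  have hact : ∀ v ∈ V, orderOf v = 2 → v * F * v⁻¹ = F⁻¹ := fun v hv hv2 => by
    have hmem : (⟨v, hVK hv⟩ : K) * z.1 * (⟨v, hVK hv⟩ : K)⁻¹ ∈ f.ker :=
      (MonoidHom.normal_ker f).conj_mem z.1 z.2 _
    have ho : orderOf (⟨_, hmem⟩ : f.ker) = 5 := by
      rw [Subgroup.orderOf_mk, show (⟨v, hVK hv⟩ : K) * z.1 * (⟨v, hVK hv⟩ : K)⁻¹ = MulAut.conj _ z.1 from rfl,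
        MulEquiv.orderOf_eq, Subgroup.orderOf_coe, hz]
    obtain ⟨k, hk⟩ := (isOfFinOrder_of_finite z).mem_powers_iff_mem_zpowers.mpr (normal_five_unique hker hz ho)
    have hk' : v * F * v⁻¹ = F ^ k := by
      have := congrArg (fun q : f.ker => ((q : K) : G)) hk
      simpa [F] using this.symm
    have hF5 : F ^ 5 = 1 := hF ▸ pow_orderOf_eq_one F
    have h2 : F ^ (k * k) = F := by
      calc F ^ (k * k) = (v * F * v⁻¹) ^ k := by rw [hk', ← pow_mul]
        _ = v * F ^ k * v⁻¹ := conj_pow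
        _ = v * (v * F * v⁻¹) * v⁻¹ := by rw [hk']
        _ = (v * v) * F * (v * v)⁻¹ := by group
        _ = F := by rw [sq_one hv2]; group
    have hmod := pow_inj_mod.mp (h2.trans (pow_one F).symm)
    rw [hF, Nat.mul_mod] at hmod
    have hlt : k % 5 < 5 := Nat.mod_lt _ (by norm_num)
    rw [pow_eq_pow_mod k hF5] at hk'
    generalize k % 5 = j at hk' hmod hlt
    have hj : j = 1 ∨ j = 4 := by interval_cases j <;> simp at hmod ⊢
    rcases hj with rfl | rfl
    · rw [pow_one] at hk'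
      exact absurd (show Commute v F from mul_inv_eq_iff_eq_mul.mp hk') (hno5 v hv hv2)
    · rw [hk', eq_inv_iff_mul_eq_one, ← pow_succ, hF5]
  obtain ⟨e, heV, het⟩ := SetLike.not_le_iff_exists.mp (show ¬ V ≤ Subgroup.zpowers t from fun hle => by
    have := Subgroup.card_dvd_of_le hle
    rw [hV4, Nat.card_zpowers, ht] at this
    norm_num at this)
  have he1 : e ≠ 1 := fun h => het (h ▸ one_mem _)
  have het' : e ≠ t := fun h => het (h ▸ Subgroup.mem_zpowers t)
  have he2 : orderOf e = 2 := orderOf_eq_prime (by rw [pow_two]; exact L.core_sq ht e heV.1) he1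
  have htV : t ∈ V := ⟨self_mem_core ht, mem_cen.mpr hc.symm⟩
  have hteV := mul_mem htV heV
  have hte2 : orderOf (t * e) = 2 := orderOf_eq_prime (by rw [pow_two]; exact L.core_sq ht _ hteV.1) fun h =>
    het' (by rw [← mul_left_cancel (h.trans (sq_one ht).symm)])
  refine hno5 (t * e) hteV hte2 (mul_inv_eq_iff_eq_mul.mp ?_)
  calc t * e * F * (t * e)⁻¹ = t * (e * F * e⁻¹) * t⁻¹ := by group
    _ = (t * F * t⁻¹)⁻¹ := by rw [hact e heV he2]; group
    _ = F := by rw [hact t htV ht, inv_inv]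

/-- The three involutions of the fixed four group in a cycle. -/
theorem exists_cycle {t y : G} (ht : orderOf t = 2) (hy : orderOf y = 3) (hc : Commute t y) :
    ∃ n e : G, e ∈ core t ∧ Commute y e ∧ e ≠ 1 ∧ e ≠ t ∧ Commute y n ∧
      n * t * n⁻¹ = e ∧ n * e * n⁻¹ = t * e ∧ n * (t * e) * n⁻¹ = t := by
  classical
  obtain ⟨n, hn, hnV, v, hv, hmv⟩ := L.exists_mover ht hy hc
  set V := core t ⊓ cen y with hVdef
  have htV : t ∈ V := ⟨self_mem_core ht, mem_cen.mpr hc.symm⟩
  have hV4 : Nat.card V = 4 := L.card_fix_four ht hy hc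
  have t1 : t ≠ 1 := fun h => by rw [h, orderOf_one] at ht; omega
  have hVab : ∀ a ∈ V, ∀ b ∈ V, Commute a b := fun a ha b hb => L.core_abelian ht a ha.1 b hb.1
  have hodd : ∀ u ∈ V, n ^ 45 * u * (n ^ 45)⁻¹ = u := by
    set K := cen y
    let Nk : Subgroup G := K ⊓ Subgroup.normalizer (V : Set G)
    have hnNk : n ∈ Nk := ⟨hn, by
      refine Subgroup.mem_normalizer_iff_map_conj_eq.mpr (Subgroup.eq_of_le_of_card_ge ?_ ?_)
      · rintro _ ⟨a, ha, rfl⟩; exact hnV a ha
      · rw [Subgroup.card_map_of_injective (MulEquiv.injective _)]⟩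
    have hVN : V ≤ Nk := fun a ha => ⟨ha.2, Subgroup.le_normalizer ha⟩
    haveI : (V.subgroupOf Nk).Normal := ⟨fun a ha g =>
      (Subgroup.mem_normalizer_iff.mp g.2.2 (a : G)).mp ha⟩
    have hq : Nat.card (Nk ⧸ V.subgroupOf Nk) ∣ 45 := by
      have h1 := Subgroup.card_eq_card_quotient_mul_card_subgroup (V.subgroupOf Nk)
      rw [Nat.card_congr (Subgroup.subgroupOfEquivOfLe hVN).toEquiv, hV4] at h1
      have h2 := Subgroup.card_dvd_of_le (inf_le_left : Nk ≤ K)
      rw [(L.three y hy).1, h1] at h2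
      exact Nat.dvd_of_mul_dvd_mul_right (show 0 < 4 by norm_num) (show _ ∣ 45 * 4 from h2)
    intro u hu
    have h45 : ((⟨n, hnNk⟩ : Nk) : Nk ⧸ V.subgroupOf Nk) ^ 45 = 1 :=
      orderOf_dvd_iff_pow_eq_one.mp ((orderOf_dvd_natCard _).trans hq)
    rw [← QuotientGroup.mk_pow, QuotientGroup.eq_one_iff] at h45
    exact mul_inv_eq_iff_eq_mul.mpr (hVab _ h45 u hu).eq
  have hinj : ∀ a b : G, n * a * n⁻¹ = n * b * n⁻¹ → a = b := fun a b h =>
    mul_left_cancel (mul_right_cancel h)
  have hne : n * t * n⁻¹ ≠ t := fun hnt => by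
    have hv1 : v ≠ 1 := fun h => hmv (by rw [h]; simp)
    have hvt : v ≠ t := fun h => hmv (by rw [h]; exact hnt)
    rcases L.four_cases ht hy hc hv hv1 hvt (hnV v hv) with h | h | h | h
    · exact hv1 (hinj v 1 (by rw [h]; simp))
    · exact hvt (hinj v t (by rw [h, hnt]))
    · exact hmv h
    · have key : ∀ k, n ^ k * v * (n ^ k)⁻¹ = t ^ k * v := fun k => by
        induction k with
        | zero => simp
        | succ k ih =>
          calc n ^ (k + 1) * v * (n ^ (k + 1))⁻¹ = n * (n ^ k * v * (n ^ k)⁻¹) * n⁻¹ := by rw [pow_succ']; group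
            _ = (n * t ^ k * n⁻¹) * (n * v * n⁻¹) := by rw [ih]; group
            _ = t ^ (k + 1) * v := by rw [← conj_pow, hnt, h, pow_succ, mul_assoc]
      have h1 := key 45
      rw [hodd v hv, pow_eq_pow_mod 45 (ht ▸ pow_orderOf_eq_one t : t ^ 2 = 1), show 45 % 2 = 1 from rfl, pow_one,
        right_eq_mul] at h1
      exact t1 h1
  set e := n * t * n⁻¹ with hedef
  have heV : e ∈ V := hnV t htV
  have he1 : e ≠ 1 := fun h => t1 (hinj t 1 (by rw [← hedef, h]; simp))
  have h3 : n * e * n⁻¹ = t * e := by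
    rcases L.four_cases ht hy hc heV he1 hne (hnV e heV) with h | h | h | h
    · exact absurd (hinj e 1 (by rw [h]; simp)) he1
    · exfalso
      have key : ∀ k, n ^ (2 * k + 1) * t * (n ^ (2 * k + 1))⁻¹ = e := fun k => by
        induction k with
        | zero => simp [hedef]
        | succ k ih =>
          calc n ^ (2 * (k + 1) + 1) * t * (n ^ (2 * (k + 1) + 1))⁻¹
              = n * (n * (n ^ (2 * k + 1) * t * (n ^ (2 * k + 1))⁻¹) * n⁻¹) * n⁻¹ := by
                rw [show 2 * (k + 1) + 1 = (2 * k + 1) + 1 + 1 by ring, pow_succ' n (2 * k + 1 + 1),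
                  pow_succ' n (2 * k + 1)]
                group
            _ = e := by rw [ih, h]
      have h1 := key 22
      rw [show 2 * 22 + 1 = 45 from rfl, hodd t htV] at h1
      exact hne h1.symm
    · exact absurd (hinj e t (by rw [h])) hne
    · exact h
  refine ⟨n, e, heV.1, mem_cen.mp heV.2, he1, hne, mem_cen.mp hn, rfl, h3, ?_⟩
  calc n * (t * e) * n⁻¹ = (n * t * n⁻¹) * (n * e * n⁻¹) := by group
    _ = e * (t * e) := by rw [h3]
    _ = t * (e * e) := by rw [← mul_assoc, ← (hVab t htV e heV).eq, mul_assoc]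
    _ = t := by rw [L.core_sq ht e heV.1, mul_one]

end Loc

end Cfsg.Agent.MTwentyThree.Nse
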