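import Cfsg.Agent.Lib.Spor.MTwentyThreeNse.LocalCycle

/-!
The normaliser of the core is transitive on its involutions, and has order 40320.
-/

set_option autoImplicit false
set_option maxHeartbeats 800000
set_option linter.unusedSectionVars false
set_option linter.style.haveILetI false

namespace Cfsg.Agent.MTwentyThree.Nse

open Cfsg.Agent.Solv
open scoped Pointwise

variable {G : Type*} [Group G] [Finite G]

theorem comm_span_aux {R S : Subgroup G} {H : Subgroup G}
    (hz : ∀ a ∈ R, ∀ b ∈ S, ∀ g, g ∈ R ∨ g ∈ S → Commute g (a * b * a⁻¹ * b⁻¹))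
    {A B : Set G} (hA : Subgroup.closure A = R) (hB : Subgroup.closure B = S)
    (h : ∀ a ∈ A, ∀ b ∈ B, a * b * a⁻¹ * b⁻¹ ∈ H) : ∀ a ∈ R, ∀ b ∈ S, a * b * a⁻¹ * b⁻¹ ∈ H := by
  have hAR : ∀ a ∈ A, a ∈ R := fun a ha => hA ▸ Subgroup.subset_closure ha
  have step1 : ∀ a ∈ A, ∀ b ∈ S, a * b * a⁻¹ * b⁻¹ ∈ H := by
    intro a ha b hb
    rw [← hB] at hb
    have hm : ∀ c ∈ Subgroup.closure B, c ∈ S := fun c hc => hB ▸ hc
    induction hb using Subgroup.closure_induction with
    | mem b hb => exact h a ha b hb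
    | one => simp
    | mul b b' hb hb' h1 h2 =>
      have e : a * (b * b') * a⁻¹ * (b * b')⁻¹ = (a * b * a⁻¹ * b⁻¹) * (a * b' * a⁻¹ * b'⁻¹) := by
        calc a * (b * b') * a⁻¹ * (b * b')⁻¹ = (a * b * a⁻¹) * (a * b' * a⁻¹ * b'⁻¹) * b⁻¹ := by group
          _ = (a * b * a⁻¹) * (b⁻¹ * (a * b' * a⁻¹ * b'⁻¹)) := by
            rw [mul_assoc, (((hz a (hAR a ha) b' (hm _ hb') b (Or.inr (hm _ hb))).inv_left).symm).eq]
          _ = _ := by group
      rw [e]; exact H.mul_mem h1 h2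
    | inv b hb h1 =>
      have e : a * b⁻¹ * a⁻¹ * b⁻¹⁻¹ = (a * b * a⁻¹ * b⁻¹)⁻¹ := by
        have hc := hz a (hAR a ha) b (hm _ hb) b (Or.inr (hm _ hb))
        calc a * b⁻¹ * a⁻¹ * b⁻¹⁻¹ = b⁻¹ * ((a * b * a⁻¹ * b⁻¹)⁻¹ * b) := by group
          _ = b⁻¹ * (b * (a * b * a⁻¹ * b⁻¹)⁻¹) := by rw [hc.inv_right.symm.eq]
          _ = _ := by group
      rw [e]; exact H.inv_mem h1
  intro a ha b hb
  rw [← hA] at ha
  have hm : ∀ c ∈ Subgroup.closure A, c ∈ R := fun c hc => hA ▸ hc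
  induction ha using Subgroup.closure_induction with
  | mem a ha => exact step1 a ha b hb
  | one => simp
  | mul a a' ha ha' h1 h2 =>
    have e : a * a' * b * (a * a')⁻¹ * b⁻¹ = (a' * b * a'⁻¹ * b⁻¹) * (a * b * a⁻¹ * b⁻¹) := by
      calc a * a' * b * (a * a')⁻¹ * b⁻¹ = a * (a' * b * a'⁻¹ * b⁻¹) * (b * a⁻¹ * b⁻¹) := by group
        _ = (a' * b * a'⁻¹ * b⁻¹) * a * (b * a⁻¹ * b⁻¹) := by rw [(hz a' (hm _ ha') b hb a (Or.inl (hm _ ha))).eq]
        _ = _ := by group
    rw [e]; exact H.mul_mem h2 h1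
  | inv a ha h1 =>
    have e : a⁻¹ * b * a⁻¹⁻¹ * b⁻¹ = (a * b * a⁻¹ * b⁻¹)⁻¹ := by
      have hc := hz a (hm _ ha) b hb a (Or.inl (hm _ ha))
      calc a⁻¹ * b * a⁻¹⁻¹ * b⁻¹ = a⁻¹ * ((a * b * a⁻¹ * b⁻¹)⁻¹ * a) := by group
        _ = a⁻¹ * (a * (a * b * a⁻¹ * b⁻¹)⁻¹) := by rw [hc.inv_right.symm.eq]
        _ = _ := by group
    rw [e]; exact H.inv_mem h1

namespace Loc

variable (L : Loc G)
include L

theorem core_le_cen {t e : G} (ht : orderOf t = 2) (he : e ∈ core t) : core t ≤ cen e := fun a ha =>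
  mem_cen.mpr (L.core_abelian ht e he a ha)

/-- A subgroup of two-power order, invariant under `y`, with fixed points of order four. -/
theorem card_mod_three {t y : G} (ht : orderOf t = 2) (hy : orderOf y = 3) {H : Subgroup G} (hH : H ≤ cen t)
    (hp : IsPGroup 2 H) (hyH : ∀ a ∈ H, y * a * y⁻¹ ∈ H) (hV : core t ⊓ cen y ≤ H) (hc : Commute t y) :
    Nat.card H % 3 = 1 ∧ Nat.card H ∣ 128 ∧ Nat.card ↥(H ⊓ cen y) = 4 := by
  haveI : Fact (Nat.Prime 3) := ⟨Nat.prime_three⟩
  haveI : Fact (Nat.Prime 2) := ⟨Nat.prime_two⟩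
  have h4 : Nat.card ↥(H ⊓ cen y) = 4 := by
    refine Nat.dvd_antisymm (L.fix_three ht hy hH hp) ?_
    rw [← L.card_fix_four ht hy hc]
    exact Subgroup.card_dvd_of_le (le_inf hV inf_le_right)
  refine ⟨?_, ?_, h4⟩
  · rw [card_fix_modEq (hy ▸ pow_orderOf_eq_one y) H hyH,
      show H ⊓ Subgroup.centralizer ({y} : Set G) = H ⊓ cen y from rfl, h4]
  · obtain ⟨k, hk⟩ := hp.exists_card_eq
    have h1 : Nat.card H ∣ 128 * 21 := (Subgroup.card_dvd_of_le hH).trans (dvd_of_eq (L.invol t ht))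
    rw [hk] at h1 ⊢
    exact (Nat.Coprime.pow_left k (by norm_num)).dvd_of_dvd_mul_right h1

/-- The three cores through a fixed four group are one. -/
theorem exists_core_mover {t : G} (ht : orderOf t = 2) :
    ∃ g : G, g ∈ Subgroup.normalizer (core t : Set G) ∧ g * t * g⁻¹ ≠ t := by
  classical
  haveI : Fact (Nat.Prime 2) := ⟨Nat.prime_two⟩
  obtain ⟨x, y, hx, hy, -, hc, -⟩ := L.exists_frame ht
  obtain ⟨n, e, he, hye, he1, het, hyn, hnt, hne, hnte⟩ := L.exists_cycle ht hy hc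
  set R := core t with hR
  set f := t * e with hf
  set V := R ⊓ cen y with hVdef
  have he2 : orderOf e = 2 := by rw [← hnt, show n * t * n⁻¹ = MulAut.conj n t from rfl, MulEquiv.orderOf_eq, ht]
  have hf2 : orderOf f = 2 := by rw [← hne, show n * e * n⁻¹ = MulAut.conj n e from rfl, MulEquiv.orderOf_eq, he2]
  have tR : t ∈ R := self_mem_core ht
  have fR : f ∈ R := mul_mem tR he
  have hRe : core e = R.map (MulAut.conj n).toMonoidHom := by rw [← hnt]; exact L.core_conj ht n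
  have hRf : core f = (core e).map (MulAut.conj n).toMonoidHom := by rw [← hne]; exact L.core_conj he2 n
  by_cases hEq : core e = R
  · refine ⟨n, Subgroup.mem_normalizer_iff_map_conj_eq.mpr (hRe ▸ hEq), ?_⟩
    rw [hnt]; exact het
  exfalso
  have cy : ∀ {k : G}, Commute y k → ∀ a, (y * (k * a * k⁻¹) * y⁻¹) = k * (y * a * y⁻¹) * k⁻¹ := fun {k} hk a => by
    calc y * (k * a * k⁻¹) * y⁻¹ = (y * k) * a * (y * k)⁻¹ := by group
      _ = (k * y) * a * (k * y)⁻¹ := by rw [hk.eq]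
      _ = _ := by group
  -- the four group
  have hcases : ∀ g ∈ V, g = 1 ∨ g = t ∨ g = e ∨ g = f := fun g hg =>
    L.four_cases ht hy hc ⟨he, mem_cen.mpr hye⟩ he1 het hg
  have htV : t ∈ V := ⟨tR, mem_cen.mpr hc.symm⟩
  have heV : e ∈ V := ⟨he, mem_cen.mpr hye⟩
  have hfV : f ∈ V := mul_mem htV heV
  have te : t ∈ core e := by rw [hRe]; exact ⟨f, fR, hnte⟩
  have ee : e ∈ core e := self_mem_core he2
  have fe : f ∈ core e := mul_mem te ee
  have tf : t ∈ core f := by rw [hRf]; exact ⟨f, fe, hnte⟩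
  have ef : e ∈ core f := by rw [hRf]; exact ⟨t, te, hnt⟩
  have hVe : V ≤ core e := fun g hg => by
    rcases hcases g hg with rfl | rfl | rfl | rfl
    · exact one_mem _
    · exact te
    · exact ee
    · exact fe
  have hVf : V ≤ core f := fun g hg => by
    rcases hcases g hg with rfl | rfl | rfl | rfl
    · exact one_mem _
    · exact tf
    · exact ef
    · exact self_mem_core hf2
  have hyR : ∀ a ∈ R, y * a * y⁻¹ ∈ R := core_normIn t y (mem_cen.mpr hc)
  have hye' : ∀ a ∈ core e, y * a * y⁻¹ ∈ core e := core_normIn e y (mem_cen.mpr hye.symm)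
  have hyf' : ∀ a ∈ core f, y * a * y⁻¹ ∈ core f :=
    core_normIn f y (mem_cen.mpr (hc.symm.mul_right hye).symm)
  have hRecen : core e ≤ cen t := L.core_le_cen he2 te
  have hRfcen : core f ≤ cen t := L.core_le_cen hf2 tf
  have hRcene : R ≤ cen e := L.core_le_cen ht he
  have hRfcene : core f ≤ cen e := L.core_le_cen hf2 ef
  -- the intersection is the four group
  have hI : R ⊓ core e = V := by
    symm
    refine Subgroup.eq_of_le_of_card_ge (le_inf inf_le_left hVe) ?_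
    obtain ⟨h1, -, -⟩ := L.card_mod_three ht hy (inf_le_left.trans (core_le t))
      ((core_two t).to_le inf_le_left) (fun a ha => ⟨hyR a ha.1, hye' a ha.2⟩) (le_inf inf_le_left hVe) hc
    have h16 : Nat.card ↥(R ⊓ core e) ∣ 16 := L.card_core ht ▸ Subgroup.card_dvd_of_le inf_le_left
    have hne16 : Nat.card ↥(R ⊓ core e) ≠ 16 := fun h => hEq
      ((Subgroup.eq_of_le_of_card_ge inf_le_right (by rw [h, L.card_core he2])).symm.trans
        (Subgroup.eq_of_le_of_card_ge inf_le_left (by rw [h, L.card_core ht])))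
    have h4 : 4 ≤ Nat.card ↥(R ⊓ core e) := by
      rw [← L.card_fix_four ht hy hc]
      exact Nat.le_of_dvd Nat.card_pos (Subgroup.card_dvd_of_le (le_inf inf_le_left hVe))
    rw [L.card_fix_four ht hy hc]
    exact (by decide +kernel : ∀ c < 17, c ∣ 16 → c % 3 = 1 → c ≠ 16 → c ≤ 4) _
      (Nat.lt_succ_of_le (Nat.le_of_dvd (by norm_num) h16)) h16 h1 hne16
  have hVn : ∀ g ∈ V, n * g * n⁻¹ ∈ V := fun g hg => by
    rcases hcases g hg with rfl | rfl | rfl | rfl
    · simp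
    · rw [hnt]; exact heV
    · rw [hne]; exact hfV
    · rw [hnte]; exact htV
  have hIef : core e ⊓ core f ≤ V := by
    rintro g ⟨hge, hgf⟩
    rw [hRe] at hge
    rw [hRf] at hgf
    obtain ⟨a, ha, rfl⟩ := hge
    obtain ⟨b, hb, hab⟩ := hgf
    have : b = a := (MulAut.conj n).injective hab
    exact hVn a (hI ▸ ⟨ha, this ▸ hb⟩)
  -- the third core lies in the product
  have hH1 : core e ≤ Subgroup.normalizer (R : Set G) := fun g hg => by
    refine Subgroup.mem_normalizer_iff_map_conj_eq.mpr (Subgroup.eq_of_le_of_card_ge ?_ ?_)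
    · rintro _ ⟨a, ha, rfl⟩; exact core_normIn t g (hRecen hg) a ha
    · rw [Subgroup.card_map_of_injective (MulEquiv.injective _)]
  set H₁ := R ⊔ core e with hH₁
  have hH1c : H₁ ≤ cen t := sup_le (core_le t) hRecen
  have hH1p : IsPGroup 2 H₁ := by
    rw [hH₁, sup_comm]; exact (core_two e).to_sup_of_normal_right' (core_two t) hH1
  have hconjH1 : ∀ g : G, (∀ a ∈ R, g * a * g⁻¹ ∈ R) → (∀ a ∈ core e, g * a * g⁻¹ ∈ core e) →
      ∀ a ∈ H₁, g * a * g⁻¹ ∈ H₁ := fun g h1 h2 a ha => by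
    have hle : H₁ ≤ H₁.comap (MulAut.conj g).toMonoidHom :=
      sup_le (fun b hb => Subgroup.mem_sup_left (h1 b hb)) fun b hb => Subgroup.mem_sup_right (h2 b hb)
    exact hle ha
  have hnH : core f ≤ Subgroup.normalizer (H₁ : Set G) := fun g hg => by
    refine Subgroup.mem_normalizer_iff_map_conj_eq.mpr (Subgroup.eq_of_le_of_card_ge ?_ ?_)
    · rintro _ ⟨a, ha, rfl⟩
      exact hconjH1 g (core_normIn t g (hRfcen hg)) (core_normIn e g (hRfcene hg)) a ha
    · rw [Subgroup.card_map_of_injective (MulEquiv.injective _)]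
  have hsub : core f ≤ H₁ := by
    have hHp : IsPGroup 2 (core f ⊔ H₁ : Subgroup G) := (core_two f).to_sup_of_normal_right' hH1p hnH
    have hyH1 : ∀ a ∈ H₁, y * a * y⁻¹ ∈ H₁ := hconjH1 y hyR hye'
    have hyH : ∀ a ∈ core f ⊔ H₁, y * a * y⁻¹ ∈ core f ⊔ H₁ := fun a ha =>
      (sup_le (fun b hb => Subgroup.mem_sup_left (hyf' b hb)) (fun b hb => Subgroup.mem_sup_right (hyH1 b hb)) :
        core f ⊔ H₁ ≤ (core f ⊔ H₁).comap (MulAut.conj y).toMonoidHom) ha
    have hVH1 : V ≤ H₁ := inf_le_left.trans le_sup_left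
    obtain ⟨a1, a2, -⟩ := L.card_mod_three ht hy hH1c hH1p hyH1 hVH1 hc
    obtain ⟨b1, b2, -⟩ := L.card_mod_three ht hy (sup_le hRfcen hH1c) hHp hyH (hVH1.trans le_sup_right) hc
    have hgt : 16 < Nat.card H₁ := by
      by_contra hle
      have e1 : R = H₁ := Subgroup.eq_of_le_of_card_ge le_sup_left (by rw [L.card_core ht]; omega)
      exact hEq (Subgroup.eq_of_le_of_card_ge (le_sup_right.trans_eq e1.symm)
        (by rw [L.card_core ht, L.card_core he2]))
    have key : ∀ c < 129, c ∣ 128 → c % 3 = 1 → 16 < c → c = 64 := by decide +kernel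
    have c1 := key _ (Nat.lt_succ_of_le (Nat.le_of_dvd (by norm_num) a2)) a2 a1 hgt
    have hle2 := Nat.le_of_dvd Nat.card_pos (Subgroup.card_dvd_of_le (le_sup_right : H₁ ≤ core f ⊔ H₁))
    have c2 := key _ (Nat.lt_succ_of_le (Nat.le_of_dvd (by norm_num) b2)) b2 b1 (by omega)
    exact le_sup_left.trans_eq (Subgroup.eq_of_le_of_card_ge le_sup_right (by omega)).symm
  have hprod : ∀ g ∈ core f, ∃ r ∈ R, ∃ s ∈ core e, r * s = g := fun g hg => by
    have h1 : g ∈ ((core e ⊔ R : Subgroup G) : Set G) := by rw [SetLike.mem_coe, sup_comm]; exact hsub hg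
    have h2 : ((R ⊔ core e : Subgroup G) : Set G) = (R : Set G) * (core e : Set G) :=
      Subgroup.coe_mul_of_right_le_normalizer_left R (core e) hH1
    rw [sup_comm, h2] at h1
    exact Set.mem_mul.mp h1
  obtain ⟨g, hgf, hgV⟩ := SetLike.not_le_iff_exists.mp (show ¬ core f ≤ V from fun hle => by
    have := Nat.le_of_dvd Nat.card_pos (Subgroup.card_dvd_of_le hle)
    rw [L.card_core hf2, L.card_fix_four ht hy hc] at this
    omega)
  obtain ⟨r, hr, s, hs, hrs⟩ := hprod g hgf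
  have hrV : r ∉ V := fun h => hgV (hIef ⟨by rw [← hrs]; exact mul_mem (hVe h) hs, hgf⟩)
  have hsV : s ∉ V := fun h => by
    have hgR : g ∈ R := by rw [← hrs]; exact mul_mem hr h.1
    have h1 : n * g * n⁻¹ ∈ core e := by rw [hRe]; exact ⟨g, hgR, rfl⟩
    have h2 : n * g * n⁻¹ ∈ R := by
      rw [hR, show core t = (core f).map (MulAut.conj n).toMonoidHom by rw [← hnte]; exact L.core_conj hf2 n]
      exact ⟨g, hgf, rfl⟩
    have hpre : ∀ v w : G, n * g * n⁻¹ = v → n * w * n⁻¹ = v → w ∈ V → False := fun v w h3 h4 h5 =>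
      hgV (by rwa [show g = w from mul_left_cancel (mul_right_cancel (h3.trans h4.symm))])
    rcases hcases _ (show n * g * n⁻¹ ∈ V from hI ▸ ⟨h2, h1⟩) with h3 | h3 | h3 | h3
    · exact hpre _ 1 h3 (by simp) (one_mem _)
    · exact hpre _ f h3 hnte hfV
    · exact hpre _ t h3 hnt htV
    · exact hpre _ e h3 hne heV
  -- commutators lie in the four group and are central
  have hkV : ∀ a ∈ R, ∀ b ∈ core e, a * b * a⁻¹ * b⁻¹ ∈ V := fun a ha b hb => hI ▸
    ⟨by rw [show a * b * a⁻¹ * b⁻¹ = a * (b * a⁻¹ * b⁻¹) by group]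
        exact mul_mem ha (core_normIn t b (hRecen hb) _ (inv_mem ha)),
      Subgroup.mul_mem _ (core_normIn e a (hRcene ha) b hb) (Subgroup.inv_mem _ hb)⟩
  have hVc : ∀ v ∈ V, ∀ g, g ∈ R ∨ g ∈ core e → Commute g v := fun v hv g hg => by
    rcases hg with hg | hg
    · exact L.core_abelian ht g hg v hv.1
    · exact L.core_abelian he2 g hg v (hVe hv)
  set r' := y * r * y⁻¹
  set s' := y * s * y⁻¹
  set c := r * s' * r⁻¹ * s'⁻¹ with hcdef
  have hr' : r' ∈ R := hyR r hr
  have hs' : s' ∈ core e := hye' s hs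
  have hg' : r' * s' ∈ core f := by
    rw [show r' * s' = y * g * y⁻¹ by simp only [r', s', ← hrs]; group]; exact hyf' g hgf
  have hfab := L.core_abelian hf2
  have hrs0 : r * s * r⁻¹ * s⁻¹ = 1 := by
    have h2 : (r * s) * (r * s) = 1 := hrs.symm ▸ L.core_sq hf2 g hgf
    calc r * s * r⁻¹ * s⁻¹ = r * s * (r * r) * r⁻¹ * s⁻¹ := by rw [L.core_sq ht r hr, mul_one]
      _ = (r * s) * r * s⁻¹ := by group
      _ = (r * s) * r * (s * (s * s)⁻¹) := by group
      _ = (r * s) * (r * s) := by rw [L.core_sq he2 s hs]; group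
      _ = 1 := h2
  have hrs1 : r' * s' * r'⁻¹ * s'⁻¹ = 1 := by
    calc r' * s' * r'⁻¹ * s'⁻¹ = y * (r * s * r⁻¹ * s⁻¹) * y⁻¹ := by simp only [r', s']; group
      _ = 1 := by rw [hrs0]; group
  have hc1 : c ∈ V := hkV r hr s' hs'
  have hc2 : r' * s * r'⁻¹ * s⁻¹ ∈ Subgroup.zpowers c := by
    set d := r' * s * r'⁻¹ * s⁻¹ with hd
    have hdV : d ∈ V := hkV r' hr' s hs
    have hab : r * s * (r' * s') = r' * s' * (r * s) := hfab _ (hrs ▸ hgf) _ hg'
    have h1 : (r * r') * (s * s') * d⁻¹ = (r' * r) * (s' * s) * c⁻¹ := by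
      have q1 := (hVc d⁻¹ (inv_mem hdV) (s * s') (Or.inr (mul_mem hs hs'))).eq
      have q2 := (hVc c⁻¹ (inv_mem hc1) (s' * s) (Or.inr (mul_mem hs' hs))).eq
      calc (r * r') * (s * s') * d⁻¹ = r * r' * (d⁻¹ * (s * s')) := by rw [mul_assoc, q1]
        _ = r * (d⁻¹ * r') * (s * s') := by
          rw [← (hVc d⁻¹ (inv_mem hdV) r' (Or.inl hr')).eq]; group
        _ = r * s * (r' * s') := by rw [hd]; group
        _ = r' * s' * (r * s) := hab
        _ = r' * (c⁻¹ * r) * (s' * s) := by rw [hcdef]; group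
        _ = r' * r * (c⁻¹ * (s' * s)) := by
          rw [← (hVc c⁻¹ (inv_mem hc1) r (Or.inl hr)).eq]; group
        _ = (r' * r) * (s' * s) * c⁻¹ := by rw [← q2, ← mul_assoc]
    rw [(L.core_abelian ht r' hr' r hr).eq, (L.core_abelian he2 s' hs' s hs).eq] at h1
    rw [show d = c from inv_injective (mul_left_cancel h1)]
    exact Subgroup.mem_zpowers c
  have gen : ∀ {u : G} (hu2 : orderOf u = 2) (hVu : V ≤ core u) (hyu : ∀ a ∈ core u, y * a * y⁻¹ ∈ core u)
      (hut : core u ≤ cen t) {a : G}, a ∈ core u → a ∉ V →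
      Subgroup.closure ((V : Set G) ∪ {a, y * a * y⁻¹}) = core u := by
    intro u hu2 hVu hyu hut a ha haV
    set A := Subgroup.closure ((V : Set G) ∪ {a, y * a * y⁻¹}) with hA
    have hle : A ≤ core u := by
      rw [hA, Subgroup.closure_le]
      rintro z (hz | rfl | rfl)
      · exact hVu hz
      · exact ha
      · exact hyu a ha
    have hVA : V ≤ A := fun z hz => Subgroup.subset_closure (Or.inl hz)
    have haA : a ∈ A := Subgroup.subset_closure (Or.inr (Or.inl rfl))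
    have ha'A : y * a * y⁻¹ ∈ A := Subgroup.subset_closure (Or.inr (Or.inr rfl))
    have hy3 : y ^ 3 = 1 := hy ▸ pow_orderOf_eq_one y
    have hab := L.core_abelian hu2
    have ha'' : y * (y * a * y⁻¹) * y⁻¹ ∈ A := by
      set a'' := y * (y * a * y⁻¹) * y⁻¹
      have hp : a * (y * a * y⁻¹) * a'' ∈ V := by
        have hm : a * (y * a * y⁻¹) * a'' ∈ core u ⊓ cen y := by
          refine ⟨mul_mem (mul_mem ha (hyu a ha)) (hyu _ (hyu a ha)), mem_cen.mpr ?_⟩
          show y * _ = _ * y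
          rw [← mul_inv_eq_iff_eq_mul]
          calc y * (a * (y * a * y⁻¹) * a'') * y⁻¹ = (y * a * y⁻¹) * a'' * (y ^ 3 * a * (y ^ 3)⁻¹) := by
                simp only [a'', pow_succ, pow_zero, one_mul]; group
            _ = (y * a * y⁻¹) * a'' * a := by rw [hy3]; group
            _ = a * (y * a * y⁻¹) * a'' := by
              rw [mul_assoc a, (hab a ha _ (mul_mem (hyu a ha) (hyu _ (hyu a ha)))).eq]
        have h4 := (L.card_mod_three ht hy hut (core_two u) hyu hVu hc).2.2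
        have eV : V = core u ⊓ cen y := Subgroup.eq_of_le_of_card_ge (le_inf hVu inf_le_right)
          (by rw [h4, L.card_fix_four ht hy hc])
        rw [eV]; exact hm
      have := mul_mem (inv_mem (mul_mem haA ha'A)) (hVA hp)
      rwa [inv_mul_cancel_left] at this
    have hyA : ∀ z ∈ A, y * z * y⁻¹ ∈ A := fun z hz => by
      have hle2 : A ≤ A.comap (MulAut.conj y).toMonoidHom := by
        rw [hA, Subgroup.closure_le]
        rintro z (hz | rfl | rfl)
        · show y * z * y⁻¹ ∈ A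
          rw [(mem_cen.mp hz.2).eq, mul_inv_cancel_right]
          exact hVA hz
        · exact ha'A
        · exact ha''
      exact hle2 hz
    obtain ⟨h1, -, -⟩ := L.card_mod_three ht hy (hle.trans hut) ((core_two u).to_le hle) hyA hVA hc
    refine Subgroup.eq_of_le_of_card_ge hle ?_
    rw [L.card_core hu2]
    have h16 : Nat.card A ∣ 16 := L.card_core hu2 ▸ Subgroup.card_dvd_of_le hle
    have hgt : 4 < Nat.card A := by
      by_contra hle4
      exact haV ((Subgroup.eq_of_le_of_card_ge hVA (by rw [L.card_fix_four ht hy hc]; omega)) ▸ haA)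
    exact (by decide +kernel : ∀ c < 17, c ∣ 16 → c % 3 = 1 → 4 < c → 16 ≤ c) _
      (Nat.lt_succ_of_le (Nat.le_of_dvd (by norm_num) h16)) h16 h1 hgt
  have hall : ∀ a ∈ R, ∀ b ∈ core e, a * b * a⁻¹ * b⁻¹ ∈ Subgroup.zpowers c := by
    refine comm_span_aux (fun a ha b hb g hg => hVc _ (hkV a ha b hb) g hg)
      (gen ht inf_le_left hyR (core_le t) hr hrV) (gen he2 hVe hye' hRecen hs hsV) ?_
    rintro a (ha | rfl | rfl) b (hb | rfl | rfl)
    all_goals first
      | (rw [(hVc a ha b (Or.inr (hVe hb))).symm.eq, mul_inv_cancel_right, mul_inv_cancel]; exact one_mem _)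
      | (rw [(hVc a ha b (Or.inr hs)).symm.eq, mul_inv_cancel_right, mul_inv_cancel]; exact one_mem _)
      | (rw [(hVc a ha _ (Or.inr hs')).symm.eq, mul_inv_cancel_right, mul_inv_cancel]; exact one_mem _)
      | (rw [(hVc b hb _ (Or.inl hr)).eq, mul_inv_cancel_right, mul_inv_cancel]; exact one_mem _)
      | (rw [(hVc b hb _ (Or.inl hr')).eq, mul_inv_cancel_right, mul_inv_cancel]; exact one_mem _)
      | (rw [hrs0]; exact one_mem _)
      | (rw [hrs1]; exact one_mem _)
      | exact Subgroup.mem_zpowers c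
      | exact hc2
  have hc0 : c ≠ 1 := fun h => hrV (hI ▸ ⟨hr, by
    rw [← L.core_self_cent he2]
    intro b hb
    have := hall r hr b hb
    rw [h, Subgroup.zpowers_one_eq_bot, Subgroup.mem_bot, mul_inv_eq_one, mul_inv_eq_iff_eq_mul] at this
    exact this.symm⟩)
  have hc2o : orderOf c = 2 := orderOf_eq_prime (by rw [pow_two]; exact L.core_sq ht c hc1.1) hc0
  have hfall : ∀ a ∈ core f, ∀ b ∈ R, a * b * a⁻¹ * b⁻¹ ∈ Subgroup.zpowers c := fun a ha b hb => by
    obtain ⟨r1, hr1, s1, hs1, rfl⟩ := hprod a ha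
    have e1 : b * s1 * b⁻¹ * s1⁻¹ ∈ Subgroup.zpowers c := hall b hb s1 hs1
    have e2 : r1 * s1 * b * (r1 * s1)⁻¹ * b⁻¹ = (b * s1 * b⁻¹ * s1⁻¹)⁻¹ := by
      have hk := hkV b hb s1 hs1
      calc r1 * s1 * b * (r1 * s1)⁻¹ * b⁻¹ = r1 * (b * s1 * b⁻¹ * s1⁻¹)⁻¹ * (b * r1⁻¹ * b⁻¹) := by group
        _ = (b * s1 * b⁻¹ * s1⁻¹)⁻¹ * r1 * (b * r1⁻¹ * b⁻¹) := by rw [(hVc _ (inv_mem hk) r1 (Or.inl hr1)).eq]
        _ = (b * s1 * b⁻¹ * s1⁻¹)⁻¹ * (r1 * b * r1⁻¹ * b⁻¹) := by group
        _ = _ := by rw [(L.core_abelian ht r1 hr1 b hb).eq, mul_inv_cancel_right, mul_inv_cancel, mul_one]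
    rw [e2]; exact inv_mem e1
  -- move by the square of the cycle
  have hfR : R = (core f).map (MulAut.conj n).toMonoidHom := by rw [hR, ← hnte]; exact L.core_conj hf2 n
  set N := fun a => n * (n * a * n⁻¹) * n⁻¹ with hN
  have hNr : N r ∈ core f := by rw [hRf, hRe]; exact ⟨_, ⟨r, hr, rfl⟩, rfl⟩
  have hNs : N s' ∈ R := by rw [hfR, hRf]; exact ⟨_, ⟨s', hs', rfl⟩, rfl⟩
  have hNc : N c ∈ Subgroup.zpowers c := by
    rw [show N c = N r * N s' * (N r)⁻¹ * (N s')⁻¹ by simp only [hN, hcdef]; group]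
    exact hfall _ hNr _ hNs
  have hinjN : Function.Injective N := fun a b h =>
    mul_left_cancel (mul_right_cancel (mul_left_cancel (mul_right_cancel h)))
  rcases mem_two_cases hc2o hNc with h | h
  · exact hc0 (hinjN (h.trans (by simp [hN])))
  · rcases hcases c hc1 with hh | hh | hh | hh
    · exact hc0 hh
    · simp only [hN, hh, hnt, hne] at h
      exact he1 (by simpa [hf] using h)
    · simp only [hN, hh, hne, hnte] at h
      exact het h.symm
    · simp only [hN, hh, hnte, hnt] at h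
      exact (fun ht1 : t = 1 => by rw [ht1, orderOf_one] at ht; omega) (by simpa [hf] using h)

theorem card_norm_core {t : G} (ht : orderOf t = 2) :
    Nat.card (Subgroup.normalizer (core t : Set G)) = 40320 ∧
      ∀ u ∈ core t, u ≠ 1 → ∃ g ∈ Subgroup.normalizer (core t : Set G), g * t * g⁻¹ = u := by
  classical
  haveI : Fact (Nat.Prime 7) := ⟨by norm_num⟩
  obtain ⟨g₀, hg₀, hm₀⟩ := L.exists_core_mover ht
  obtain ⟨x, y, hx, -, hcx, -, -⟩ := L.exists_frame ht
  set R := core t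
  set N := Subgroup.normalizer (R : Set G)
  have hxN : x ∈ N := by
    refine Subgroup.mem_normalizer_iff_map_conj_eq.mpr (Subgroup.eq_of_le_of_card_ge ?_ ?_)
    · rintro _ ⟨a, ha, rfl⟩; exact core_normIn t x (mem_cen.mpr hcx) a ha
    · rw [Subgroup.card_map_of_injective (MulEquiv.injective _)]
  have hCN : cen t ≤ N := fun g hg => by
    refine Subgroup.mem_normalizer_iff_map_conj_eq.mpr (Subgroup.eq_of_le_of_card_ge ?_ ?_)
    · rintro _ ⟨a, ha, rfl⟩; exact core_normIn t g hg a ha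
    · rw [Subgroup.card_map_of_injective (MulEquiv.injective _)]
  have hNmem : ∀ g ∈ N, ∀ a ∈ R, g * a * g⁻¹ ∈ R := fun g hg a ha => (Subgroup.mem_normalizer_iff.mp hg a).mp ha
  let O := {u : G // ∃ g ∈ N, g * t * g⁻¹ = u}
  have e1 : Nat.card N = Nat.card O * 2688 := by
    let f : N → O := fun g => ⟨g.1 * t * g.1⁻¹, g.1, g.2, rfl⟩
    have hfib : ∀ u : O, Nat.card {g : N // f g = u} = 2688 := by
      rintro ⟨u, g, hg, rfl⟩
      rw [← L.invol t ht]
      refine Nat.card_congr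
        { toFun := fun k => ⟨g⁻¹ * k.1.1, mem_cen.mpr ?_⟩
          invFun := fun k => ⟨⟨g * k.1, N.mul_mem hg (hCN k.2)⟩, Subtype.ext ?_⟩
          left_inv := fun k => Subtype.ext (Subtype.ext (by simp))
          right_inv := fun k => Subtype.ext (by simp) }
      · have h := congrArg Subtype.val k.2
        simp only [f] at h
        show t * (g⁻¹ * k.1.1) = g⁻¹ * k.1.1 * t
        calc t * (g⁻¹ * k.1.1) = g⁻¹ * (g * t * g⁻¹) * k.1.1 := by group
          _ = g⁻¹ * (k.1.1 * t * k.1.1⁻¹) * k.1.1 := congrArg (fun q => g⁻¹ * q * k.1.1) h.symm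
          _ = _ := by group
      · show g * k.1 * t * (g * k.1)⁻¹ = g * t * g⁻¹
        calc g * k.1 * t * (g * k.1)⁻¹ = g * (k.1 * t * k.1⁻¹) * g⁻¹ := by group
          _ = g * t * g⁻¹ := by rw [← (mem_cen.mp k.2).eq, mul_inv_cancel_right]
    haveI := Fintype.ofFinite O
    rw [← Nat.card_congr (Equiv.sigmaFiberEquiv f), Nat.card_sigma, Finset.sum_congr rfl fun u _ => hfib u,
      Finset.sum_const, Finset.card_univ, smul_eq_mul, Nat.card_eq_fintype_card (α := O)]
  have hd : Nat.card O ∣ 3795 := by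
    have h := Subgroup.card_subgroup_dvd_card N
    rw [e1, L.card] at h
    exact Nat.dvd_of_mul_dvd_mul_right (show 0 < 2688 by norm_num) (show _ ∣ 3795 * 2688 from h)
  let R1 := {u : R // u ≠ 1}
  have hR1 : Nat.card R1 = 15 := by
    haveI := Fintype.ofFinite R
    rw [Nat.card_eq_fintype_card, Fintype.card_subtype_compl, Fintype.card_subtype_eq, ← Nat.card_eq_fintype_card,
      L.card_core ht]
  have t1 : t ≠ 1 := fun h => by rw [h, orderOf_one] at ht; omega
  let ι : O → R1 := fun u => ⟨⟨u.1, by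
    obtain ⟨g, hg, e⟩ := u.2
    exact e ▸ hNmem g hg t (self_mem_core ht)⟩, fun h => by
    obtain ⟨g, hg, e⟩ := u.2
    have h' : g * t * g⁻¹ = 1 := e.trans (congrArg Subtype.val h)
    exact t1 (mul_left_cancel ((mul_inv_eq_one.mp h').trans (mul_one g).symm))⟩
  have hι : Function.Injective ι := fun a b h => Subtype.ext (congrArg (fun q : R1 => (q.1 : G)) h)
  have hle : Nat.card O ≤ 15 := hR1 ▸ Nat.card_le_card_of_injective ι hι
  have hmod : Nat.card O % 7 = 1 := by
    haveI := Fintype.ofFinite O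
    let σ : Equiv.Perm O :=
      { toFun := fun u => ⟨x * u.1 * x⁻¹, by
          obtain ⟨g, hg, e⟩ := u.2
          exact ⟨x * g, mul_mem hxN hg, by rw [← e]; group⟩⟩
        invFun := fun u => ⟨x⁻¹ * u.1 * x, by
          obtain ⟨g, hg, e⟩ := u.2
          exact ⟨x⁻¹ * g, mul_mem (inv_mem hxN) hg, by rw [← e]; group⟩⟩
        left_inv := fun u => Subtype.ext (by show x⁻¹ * (x * u.1 * x⁻¹) * x = u.1; group)
        right_inv := fun u => Subtype.ext (by show x * (x⁻¹ * u.1 * x) * x⁻¹ = u.1; group) }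
    have key : ∀ (k : ℕ) (u : O), ((σ ^ k) u).1 = x ^ k * u.1 * (x ^ k)⁻¹ := fun k => by
      induction k with
      | zero => simp
      | succ k ih =>
        intro u
        rw [pow_succ', Equiv.Perm.mul_apply]
        show x * ((σ ^ k) u).1 * x⁻¹ = _
        rw [ih, pow_succ']
        group
    have hσ : σ ^ 7 ^ 1 = 1 := Equiv.ext fun u => Subtype.ext (by
      rw [pow_one, key, ← hx, pow_orderOf_eq_one]; simp)
    have h := Equiv.Perm.card_compl_support_modEq hσ
    rw [← Nat.card_eq_fintype_card] at h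
    have hsing : σ.supportᶜ = {(⟨t, 1, one_mem _, by simp⟩ : O)} := by
      ext u
      rw [Finset.mem_compl, Equiv.Perm.notMem_support, Finset.mem_singleton]
      constructor
      · intro hu
        obtain ⟨g, hg, e⟩ := u.2
        have huR : u.1 ∈ R := e ▸ hNmem g hg t (self_mem_core ht)
        have hm' : u.1 ∈ R ⊓ cen x := ⟨huR, mem_cen.mpr (mul_inv_eq_iff_eq_mul.mp (congrArg Subtype.val hu))⟩
        rw [L.fix_seven ht hx hcx (self_mem_core ht) (L.not_seven_core t)] at hm'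
        rcases mem_two_cases ht hm' with h1 | h1
        · exact absurd (mul_left_cancel ((mul_inv_eq_one.mp (e.trans h1)).trans (mul_one g).symm)) t1
        · exact Subtype.ext h1
      · rintro rfl
        exact Subtype.ext (mul_inv_eq_iff_eq_mul.mpr hcx.symm.eq)
    rw [hsing, Finset.card_singleton] at h
    exact h.symm
  have h2 : 2 ≤ Nat.card O := by
    haveI := Fintype.ofFinite O
    rw [Nat.card_eq_fintype_card]
    exact Fintype.one_lt_card_iff.mpr ⟨⟨t, 1, one_mem _, by simp⟩, ⟨_, g₀, hg₀, rfl⟩,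
      fun h => hm₀ (congrArg Subtype.val h).symm⟩
  have h15 : Nat.card O = 15 :=
    (by decide +kernel : ∀ c < 16, c ∣ 3795 → c % 7 = 1 → 2 ≤ c → c = 15) _ (by omega) hd hmod h2
  refine ⟨by rw [e1, h15], fun u hu hu1 => ?_⟩
  have hsur : Function.Surjective ι := ((Nat.bijective_iff_injective_and_card ι).mpr ⟨hι, by rw [h15, hR1]⟩).2
  obtain ⟨⟨u', g, hg, e⟩, hq⟩ := hsur ⟨⟨u, hu⟩, fun h => hu1 (congrArg Subtype.val h)⟩
  exact ⟨g, hg, e.trans (congrArg (fun q : R1 => (q.1 : G)) hq)⟩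

/-- The cores form a partition of the involutions commuting in this way. -/
theorem core_eq {t u : G} (ht : orderOf t = 2) (hu : u ∈ core t) (hu1 : u ≠ 1) : core u = core t := by
  obtain ⟨g, hg, rfl⟩ := (L.card_norm_core ht).2 u hu hu1
  rw [L.core_conj ht]
  exact Subgroup.mem_normalizer_iff_map_conj_eq.mp hg

theorem order_of_mem_core {t u : G} (ht : orderOf t = 2) (hu : u ∈ core t) (hu1 : u ≠ 1) : orderOf u = 2 := by
  haveI : Fact (Nat.Prime 2) := ⟨Nat.prime_two⟩
  exact orderOf_eq_prime (by rw [pow_two]; exact L.core_sq ht u hu) hu1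

theorem cen_le_norm {t u : G} (ht : orderOf t = 2) (hu : u ∈ core t) (hu1 : u ≠ 1) :
    cen u ≤ Subgroup.normalizer (core t : Set G) := fun g hg => by
  rw [← L.core_eq ht hu hu1]
  refine Subgroup.mem_normalizer_iff_map_conj_eq.mpr (Subgroup.eq_of_le_of_card_ge ?_ ?_)
  · rintro _ ⟨a, ha, rfl⟩; exact core_normIn u g hg a ha
  · rw [Subgroup.card_map_of_injective (MulEquiv.injective _)]

end Loc

end Cfsg.Agent.MTwentyThree.Nse
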