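import Cfsg.Agent.Lib.Spor.MTwentyThreeNse.LocalFusion
import Cfsg.Agent.Lib.Spor.MTwentyThreeNse.AutSixteen
import Cfsg.Agent.Lib.Spor.M23CohGaschuetz

/-!
The normaliser of a core is split, with quotient of index eight in the automorphisms of the core.
-/

set_option autoImplicit false
set_option maxHeartbeats 800000
set_option maxRecDepth 100000
set_option linter.unusedSectionVars false
set_option linter.style.haveILetI false

namespace Cfsg.Agent.MTwentyThree.Nse

open Cfsg.Agent.Solv

namespace SplitData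

private abbrev A8 := alternatingGroup (Fin 8)

private abbrev P8 := Equiv.Perm (Fin 8)

/-- Pointwise comparison. -/
def same (x y : P8) : Bool := (List.finRange 8).all fun i => x i == y i

theorem eq_of_same {x y : P8} (h : same x y = true) : x = y :=
  Equiv.ext fun i => by simpa using List.all_eq_true.mp h i (List.mem_finRange i)

/-- The list is distinct. -/
def distinctL : List P8 → Bool
  | [] => true
  | x :: l => (l.all fun y => !same x y) && distinctL l

theorem nodup_of : ∀ {l : List P8}, distinctL l = true → l.Nodup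
  | [], _ => List.nodup_nil
  | x :: l, h => by
    simp only [distinctL, Bool.and_eq_true, List.all_eq_true, Bool.not_eq_true'] at h
    refine List.nodup_cons.mpr ⟨fun hx => ?_, nodup_of h.2⟩
    have := h.1 x hx
    simp [same] at this

/-- Closed under products. -/
def closedL (l : List P8) : Bool := l.all fun x => l.all fun y => l.any fun z => same (x * y) z

theorem mul_of {l : List P8} (h : closedL l = true) {x y : P8} (hx : x ∈ l) (hy : y ∈ l) : x * y ∈ l := by
  obtain ⟨z, hz, e⟩ := List.any_eq_true.mp (List.all_eq_true.mp (List.all_eq_true.mp h x hx) y hy)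
  rwa [eq_of_same e]

/-- The members of a closed list. -/
def listG (l : List P8) (h : closedL l = true) (h1 : (1 : P8) ∈ l) : Subgroup A8 where
  carrier := {x | (x : P8) ∈ l}
  one_mem' := h1
  mul_mem' := fun {a b} ha hb => mul_of h ha hb
  inv_mem' := fun {a} ha => by
    have hp : ∀ n : ℕ, (a : P8) ^ n ∈ l := fun n => by
      induction n with
      | zero => exact h1
      | succ n ih => rw [pow_succ]; exact mul_of h ih ha
    show ((a⁻¹ : A8) : P8) ∈ l
    rw [Subgroup.coe_inv, inv_eq_of_mul_eq_one_right (show (a : P8) * (a : P8) ^ (orderOf (a : P8) - 1) = 1 by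
      rw [← pow_succ', Nat.sub_add_cancel (orderOf_pos _), pow_orderOf_eq_one])]
    exact hp _

theorem card_listG {l : List P8} (h : closedL l = true) (h1 : (1 : P8) ∈ l) (hd : distinctL l = true)
    (he : ∀ x ∈ l, x ∈ alternatingGroup (Fin 8)) : Nat.card (listG l h h1) = l.length := by
  rw [← Nat.card_fin l.length]
  refine (Nat.card_congr (Equiv.ofBijective (fun i : Fin l.length => (⟨⟨l.get i, he _ (l.get_mem i)⟩, l.get_mem i⟩ :
    listG l h h1)) ⟨fun i j e => (nodup_of hd).injective_get (congrArg (fun q : listG l h h1 => (q.1 : P8)) e),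
    fun q => ?_⟩)).symm
  obtain ⟨i, hi⟩ := List.mem_iff_get.mp q.2
  exact ⟨i, Subtype.ext (Subtype.ext hi)⟩

/-- A three-cycle. -/
def cP : P8 := Equiv.swap 0 1 * Equiv.swap 1 2

/-- An involution commuting with it. -/
def aP : P8 := Equiv.swap 3 4 * Equiv.swap 5 6

/-- Another involution commuting with it. -/
def bP : P8 := Equiv.swap 3 5 * Equiv.swap 4 6

/-- An involution inverting it. -/
def dP : P8 := Equiv.swap 1 2 * Equiv.swap 3 4

/-- The four group. -/
def fourL : List P8 := [1, aP, bP, aP * bP]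

/-- The group of order eight. -/
def eightL : List P8 := [1, aP, bP, aP * bP, dP, dP * aP, dP * bP, dP * (aP * bP)]

theorem four_check : closedL fourL = true ∧ distinctL fourL = true ∧
    (fourL.all fun x => same (x * cP) (cP * x) && (x 7 == 7)) = true := by decide +kernel

theorem eight_check : closedL eightL = true ∧ distinctL eightL = true ∧
    (eightL.all fun x => (same (x * cP) (cP * x) || same (x * cP) (cP * cP * x)) && (x 7 == 7)) = true := by
  decide +kernel

theorem c_check : same (cP * cP * cP) 1 = true ∧ same cP 1 = false ∧ (cP 7 == 7) = true := by decide +kernel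

theorem two_swap {x : P8} {a b c d : Fin 8} (h : x = Equiv.swap a b * Equiv.swap c d) (hab : a ≠ b) (hcd : c ≠ d) :
    x ∈ alternatingGroup (Fin 8) := by
  rw [Equiv.Perm.mem_alternatingGroup, h, map_mul, Equiv.Perm.sign_swap hab, Equiv.Perm.sign_swap hcd]
  rfl

theorem cP_even : cP ∈ alternatingGroup (Fin 8) := two_swap rfl (by decide) (by decide)

theorem four_even : ∀ x ∈ fourL, x ∈ alternatingGroup (Fin 8) := by
  intro x hx
  have ha : aP ∈ alternatingGroup (Fin 8) := two_swap rfl (by decide) (by decide)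
  have hb : bP ∈ alternatingGroup (Fin 8) := two_swap rfl (by decide) (by decide)
  simp only [fourL, List.mem_cons, List.not_mem_nil, or_false] at hx
  rcases hx with rfl | rfl | rfl | rfl
  exacts [one_mem _, ha, hb, mul_mem ha hb]

theorem eight_even : ∀ x ∈ eightL, x ∈ alternatingGroup (Fin 8) := by
  intro x hx
  have hd : dP ∈ alternatingGroup (Fin 8) := two_swap rfl (by decide) (by decide)
  have h4 := four_even
  simp only [fourL, List.mem_cons, List.not_mem_nil, or_false] at h4
  simp only [eightL, List.mem_cons, List.not_mem_nil, or_false] at hx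
  rcases hx with rfl | rfl | rfl | rfl | rfl | rfl | rfl | rfl
  exacts [h4 _ (by simp), h4 _ (by simp), h4 _ (by simp), h4 _ (by simp), hd, mul_mem hd (h4 _ (by simp)),
    mul_mem hd (h4 _ (by simp)), mul_mem hd (h4 _ (by simp))]

/-- A three-cycle. -/
def cE : A8 := ⟨cP, cP_even⟩

theorem cE_facts : cE * cE * cE = 1 ∧ cE ≠ 1 ∧ (cE : P8) 7 = 7 :=
  ⟨Subtype.ext (eq_of_same c_check.1), fun e => by
    have h : cP = 1 := congrArg Subtype.val e
    have := c_check.2.1
    rw [h] at this
    simp [same] at this, by have := c_check.2.2; simp only [beq_iff_eq] at this; exact this⟩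

/-- The four group as a subgroup. -/
def fourG : Subgroup A8 := listG fourL four_check.1 List.mem_cons_self

/-- The group of order eight as a subgroup. -/
def eightG : Subgroup A8 := listG eightL eight_check.1 List.mem_cons_self

theorem fourG_facts : ∀ x ∈ fourG, x * cE * x⁻¹ = cE ∧ (x : P8) 7 = 7 := by
  intro x hx
  have h := List.all_eq_true.mp four_check.2.2 _ hx
  simp only [Bool.and_eq_true, beq_iff_eq] at h
  exact ⟨mul_inv_eq_iff_eq_mul.mpr (Subtype.ext (eq_of_same h.1)), h.2⟩

theorem eightG_facts : ∀ x ∈ eightG, (x * cE * x⁻¹ = cE ∨ x * cE * x⁻¹ = cE * cE) ∧ (x : P8) 7 = 7 := by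
  intro x hx
  have h := List.all_eq_true.mp eight_check.2.2 _ hx
  simp only [Bool.and_eq_true, Bool.or_eq_true, beq_iff_eq] at h
  refine ⟨?_, h.2⟩
  rcases h.1 with h1 | h1
  · exact Or.inl (mul_inv_eq_iff_eq_mul.mpr (Subtype.ext (eq_of_same h1)))
  · exact Or.inr (mul_inv_eq_iff_eq_mul.mpr (Subtype.ext (eq_of_same h1)))

theorem card_fourG : Nat.card fourG = 4 := card_listG _ _ four_check.2.1 four_even

theorem card_eightG : Nat.card eightG = 8 := card_listG _ _ eight_check.2.1 eight_even

end SplitData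

variable {G : Type*} [Group G] [Finite G]

/-- The normaliser of the core. -/
abbrev nr (t : G) : Subgroup G := Subgroup.normalizer (core t : Set G)

/-- The action on the core. -/
def act (t : G) : ↥(nr t) →* MulAut ↥(core t) := (core t).normalizerMonoidHom

theorem act_apply (t : G) (g : nr t) (a : core t) : ((act t g a : core t) : G) = (g : G) * a * (g : G)⁻¹ := rfl

theorem card_of_hom {A B : Type*} [Group A] [Group B] [Finite A] (f : A →* B) :
    Nat.card f.range * Nat.card f.ker = Nat.card A := by rw [← Subgroup.index_ker, Subgroup.index_mul_card]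

theorem card_map_sub {A B : Type*} [Group A] [Group B] [Finite A] (f : A →* B) (W : Subgroup A) :
    Nat.card (W.map f) * Nat.card ↥(W ⊓ f.ker) = Nat.card W := by
  have h := card_of_hom (f.comp W.subtype)
  have e1 : (f.comp W.subtype).range = W.map f := by rw [MonoidHom.range_comp, Subgroup.range_subtype]
  have e2 : Nat.card (f.comp W.subtype).ker = Nat.card ↥(W ⊓ f.ker) := Nat.card_congr
    { toFun := fun x => ⟨x.1.1, x.1.2, x.2⟩
      invFun := fun x => ⟨⟨x.1, x.2.1⟩, x.2.2⟩
      left_inv := fun _ => rfl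
      right_inv := fun _ => rfl }
  rwa [e1, e2] at h

namespace Loc

variable (L : Loc G)
include L

theorem act_ker {t : G} (ht : orderOf t = 2) {g : nr t} : act t g = 1 ↔ (g : G) ∈ core t := by
  have hk : g ∈ (act t).ker ↔ (g : G) ∈ core t := by
    rw [show (act t).ker = (Subgroup.centralizer (core t : Set G)).subgroupOf (nr t) from
      Subgroup.normalizerMonoidHom_ker _, Subgroup.mem_subgroupOf, L.core_self_cent ht]
  rwa [MonoidHom.mem_ker] at hk

theorem card_act_ker {t : G} (ht : orderOf t = 2) : Nat.card (act t).ker = 16 := by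
  rw [← L.card_core ht]
  exact Nat.card_congr
    { toFun := fun g => ⟨g.1.1, (L.act_ker ht).mp g.2⟩
      invFun := fun g => ⟨⟨g.1, Subgroup.le_normalizer g.2⟩, (L.act_ker ht).mpr g.2⟩
      left_inv := fun _ => rfl
      right_inv := fun _ => rfl }

theorem card_act_range {t : G} (ht : orderOf t = 2) : Nat.card (act t).range = 2520 := by
  have h := card_of_hom (act t)
  rw [L.card_act_ker ht, (L.card_norm_core ht).1] at h
  omega

/-- The normaliser of the core splits over it. -/
theorem exists_complement {t : G} (ht : orderOf t = 2) :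
    ∃ S : Subgroup (nr t), S ⊓ (act t).ker = ⊥ ∧ S ⊔ (act t).ker = ⊤ := by
  classical
  haveI : Fact (Nat.Prime 3) := ⟨Nat.prime_three⟩
  set R := core t
  obtain ⟨θ₀⟩ := AEight.aut_equiv (E := R) (fun a b => Subtype.ext (L.core_abelian ht a a.2 b b.2).eq)
    (fun a => Subtype.ext (L.core_sq ht a a.2)) (L.card_core ht)
  set H₀ := (act t).range.map θ₀.toMonoidHom
  have hH₀ : Nat.card H₀ = 2520 := by rw [Subgroup.card_map_of_injective θ₀.injective, L.card_act_range ht]
  haveI : MulAction.IsPretransitive (alternatingGroup (Fin 8)) (Fin 8) :=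
    alternatingGroup.isPretransitive_of_three_le_card (Fin 8) (by simp)
  set St := MulAction.stabilizer (alternatingGroup (Fin 8)) (7 : Fin 8)
  have hSt : Nat.card St = 2520 := by
    have h := Subgroup.index_mul_card St
    rw [MulAction.index_stabilizer_of_transitive, Nat.card_fin, nat_card_alternatingGroup, Nat.card_fin,
      show Nat.factorial 8 / 2 = 20160 from rfl] at h
    omega
  obtain ⟨a₀, ha₀⟩ := AEight.alt_conj hH₀ hSt
  set f : ↥(nr t) →* alternatingGroup (Fin 8) := ((MulAut.conj a₀).toMonoidHom.comp θ₀.toMonoidHom).comp (act t)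
  have hrange : f.range = St := by
    rw [ha₀, show f = ((MulAut.conj a₀).toMonoidHom.comp θ₀.toMonoidHom).comp (act t) from rfl, MonoidHom.range_comp,
      ← Subgroup.map_map]
  have hker : ∀ g, f g = 1 ↔ (g : G) ∈ R := fun g => by
    rw [← L.act_ker ht]
    show MulAut.conj a₀ (θ₀ (act t g)) = 1 ↔ _
    rw [MulEquiv.map_eq_one_iff, MulEquiv.map_eq_one_iff]
  have hfker : f.ker = (act t).ker := Subgroup.ext fun g => by
    rw [MonoidHom.mem_ker, MonoidHom.mem_ker, hker, L.act_ker ht]
  have hpre : ∀ q : alternatingGroup (Fin 8), (q : Equiv.Perm (Fin 8)) 7 = 7 → ∃ g, f g = q := fun q hq => by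
    have : q ∈ f.range := by rw [hrange]; exact MulAction.mem_stabilizer_iff.mpr hq
    exact this
  obtain ⟨g, hg⟩ := hpre _ SplitData.cE_facts.2.2
  set c := SplitData.cE
  have hc3 : c ^ 3 = 1 := by simpa [pow_succ] using SplitData.cE_facts.1
  set y := g ^ 4 with hy
  have hfy : f y = c := by rw [hy, map_pow, hg, pow_succ, hc3, one_mul]
  have hy3 : orderOf y = 3 := by
    refine orderOf_eq_prime ?_ fun e => SplitData.cE_facts.2.1 (by
      show c = 1
      rw [← hfy, e, map_one])
    have h3 : f (g ^ 3) = 1 := by rw [map_pow, hg, hc3]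
    have hsq : (g ^ 3) * (g ^ 3) = 1 := Subtype.ext (L.core_sq ht _ ((hker _).mp h3))
    rw [hy, ← pow_mul, show 4 * 3 = (3 + 3) * 2 from rfl, pow_mul, pow_add, hsq, one_pow]
  have hyG : orderOf (y : G) = 3 := by rw [Subgroup.orderOf_coe, hy3]
  -- lifting normalising elements
  have lift : ∀ q : alternatingGroup (Fin 8), (q : Equiv.Perm (Fin 8)) 7 = 7 → q * c * q⁻¹ ∈ Subgroup.zpowers c →
      ∃ h : nr t, f h = q ∧ h * y * h⁻¹ ∈ Subgroup.zpowers y := by
    intro q hq hqc
    obtain ⟨h, hh⟩ := hpre q hq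
    set Y := (Subgroup.zpowers c).comap f with hYdef
    have hYc : Nat.card Y = 48 := by
      have e := card_map_sub f Y
      have e1 : Y.map f = Subgroup.zpowers c := Subgroup.map_comap_eq_self
        (Subgroup.zpowers_le.mpr ⟨y, hfy⟩)
      have e2 : Y ⊓ f.ker = f.ker := inf_eq_right.mpr fun z hz => by
        rw [Subgroup.mem_comap, MonoidHom.mem_ker.mp hz]; exact one_mem _
      rw [e1, e2, hfker, L.card_act_ker ht, Nat.card_zpowers, orderOf_eq_prime hc3 SplitData.cE_facts.2.1] at e
      omega
    have hyY : y ∈ Y := by rw [Subgroup.mem_comap, hfy]; exact Subgroup.mem_zpowers c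
    have hy'Y : h * y * h⁻¹ ∈ Y := by rw [Subgroup.mem_comap, map_mul, map_mul, map_inv, hh, hfy]; exact hqc
    obtain ⟨k, hk⟩ := exists_conj_zpowers (p := 3) (x := (⟨y, hyY⟩ : Y)) (u := (⟨_, hy'Y⟩ : Y))
      (by rw [hYc]; norm_num) (by rw [Subgroup.orderOf_mk, hy3])
      (by rw [Subgroup.orderOf_mk, show h * y * h⁻¹ = MulAut.conj h y from rfl, MulEquiv.orderOf_eq, hy3])
    obtain ⟨z, ⟨i, rfl⟩, hz⟩ : (⟨_, hy'Y⟩ : Y) ∈ (Subgroup.zpowers (⟨y, hyY⟩ : Y)).map (MulAut.conj k).toMonoidHom :=
      hk ▸ Subgroup.mem_zpowers _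
    have hz' : (k : nr t) * y ^ i * (k : nr t)⁻¹ = h * y * h⁻¹ := by
      have := congrArg (fun w : Y => (w : nr t)) hz
      simpa using this
    obtain ⟨j, hj⟩ := (k.2 : f k ∈ Subgroup.zpowers c)
    refine ⟨y ^ j * (k : nr t)⁻¹ * h, ?_, ?_⟩
    · rw [map_mul, map_mul, map_zpow, map_inv, hfy, hh, ← (show c ^ j = f k from hj), mul_inv_cancel, one_mul]
    · refine ⟨i, ?_⟩
      show y ^ i = _
      calc y ^ i = y ^ j * y ^ i * (y ^ j)⁻¹ := by
            rw [← zpow_add, add_comm, zpow_add, mul_inv_cancel_right]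
        _ = y ^ j * ((k : nr t)⁻¹ * ((k : nr t) * y ^ i * (k : nr t)⁻¹) * k) * (y ^ j)⁻¹ := by group
        _ = _ := by rw [hz']; group
  have cent : ∀ h : nr t, h * y * h⁻¹ ∈ Subgroup.zpowers y → f h * c * (f h)⁻¹ = c → Commute h y := by
    intro h hh hfc
    obtain ⟨i, hi⟩ := (isOfFinOrder_of_finite y).mem_powers_iff_mem_zpowers.mpr hh
    have hci : c ^ i = c := by
      rw [← hfy, ← map_pow, show y ^ i = h * y * h⁻¹ from hi, map_mul, map_mul, map_inv, hfy, hfc]
    have := pow_inj_mod.mp (hci.trans (pow_one c).symm)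
    rw [orderOf_eq_prime hc3 SplitData.cE_facts.2.1] at this
    have hyi : y ^ i = y := by
      rw [← pow_mod_orderOf, hy3, this]; exact pow_one y
    exact mul_inv_eq_iff_eq_mul.mp ((show y ^ i = h * y * h⁻¹ from hi).symm.trans hyi)
  -- no fixed points on the core
  have hfree : ∀ u : nr t, (u : G) ∈ R → Commute u y → u = 1 := by
    intro u hu hcom
    by_contra hu1
    have hu1' : (u : G) ≠ 1 := fun e => hu1 (Subtype.ext e)
    have hu2 := L.order_of_mem_core ht hu hu1'
    have h4 : Nat.card ↥(R ⊓ cen (y : G)) = 4 := by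
      have h := L.card_fix_four hu2 hyG (congrArg Subtype.val hcom.eq)
      rwa [L.core_eq ht hu hu1'] at h
    set C := SplitData.fourG.comap f ⊓ Subgroup.centralizer ({y} : Set (nr t)) with hC
    have hmap : C.map f = SplitData.fourG := by
      refine le_antisymm (Subgroup.map_le_iff_le_comap.mpr inf_le_left) fun q hq => ?_
      obtain ⟨hqc, hq7⟩ := SplitData.fourG_facts q hq
      obtain ⟨h, hh, hh'⟩ := lift q hq7 (by rw [hqc]; exact Subgroup.mem_zpowers c)
      exact ⟨h, ⟨by show f h ∈ SplitData.fourG; rw [hh]; exact hq,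
        Subgroup.mem_centralizer_singleton_iff.mpr (cent h hh' (by rw [hh]; exact hqc)).eq⟩, hh⟩
    have hCk : Nat.card ↥(C ⊓ f.ker) = 4 := by
      rw [← h4]
      exact Nat.card_congr
        { toFun := fun z => ⟨z.1.1, (hker _).mp (MonoidHom.mem_ker.mp z.2.2), mem_cen.mpr
            (congrArg Subtype.val (Subgroup.mem_centralizer_singleton_iff.mp z.2.1.2)).symm⟩
          invFun := fun z => ⟨⟨z.1, Subgroup.le_normalizer z.2.1⟩,
            ⟨by show f _ ∈ SplitData.fourG; rw [(hker _).mpr z.2.1]; exact one_mem _,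
              Subgroup.mem_centralizer_singleton_iff.mpr (Subtype.ext (mem_cen.mp z.2.2).symm.eq)⟩,
            MonoidHom.mem_ker.mpr ((hker _).mpr z.2.1)⟩
          left_inv := fun _ => rfl
          right_inv := fun _ => rfl }
    have e := card_map_sub f C
    rw [hmap, SplitData.card_fourG, hCk] at e
    have hle : C.map (nr t).subtype ≤ cen (y : G) := by
      rintro _ ⟨z, hz, rfl⟩
      exact mem_cen.mpr (congrArg Subtype.val (Subgroup.mem_centralizer_singleton_iff.mp hz.2)).symm
    have hd := Subgroup.card_dvd_of_le hle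
    rw [Subgroup.card_map_of_injective (nr t).subtype_injective, ← e, (L.three _ hyG).1] at hd
    norm_num at hd
  set T := SplitData.eightG.comap f ⊓ Subgroup.normalizer ((Subgroup.zpowers y : Subgroup (nr t)) : Set (nr t))
  have hTk : T ⊓ f.ker = ⊥ := by
    refine (Subgroup.eq_bot_iff_forall _).mpr fun z hz => ?_
    have hfz := MonoidHom.mem_ker.mp hz.2
    exact hfree z ((hker z).mp hfz) (cent z (mem_norm_zpowers.mp hz.1.2) (by rw [hfz]; simp))
  have hTmap : T.map f = SplitData.eightG := by
    refine le_antisymm (Subgroup.map_le_iff_le_comap.mpr inf_le_left) fun q hq => ?_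
    obtain ⟨hqc, hq7⟩ := SplitData.eightG_facts q hq
    obtain ⟨h, hh, hh'⟩ := lift q hq7 (by
      rcases hqc with e | e <;> rw [e]
      · exact Subgroup.mem_zpowers c
      · exact mul_mem (Subgroup.mem_zpowers c) (Subgroup.mem_zpowers c))
    exact ⟨h, ⟨by show f h ∈ SplitData.eightG; rw [hh]; exact hq, mem_norm_zpowers.mpr hh'⟩, hh⟩
  set Z := f.ker
  have hidx : (Nat.card Z).Coprime (Z ⊔ T).index := by
    have hb : 128 ∣ Nat.card ↥(Z ⊔ T) := by
      have e := card_map_sub f (Z ⊔ T)
      rw [show (Z ⊔ T).map f = SplitData.eightG by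
        rw [Subgroup.map_sup, hTmap, (Subgroup.map_eq_bot_iff Z).mpr le_rfl, bot_sup_eq],
        show (Z ⊔ T) ⊓ f.ker = Z from inf_eq_right.mpr le_sup_left, SplitData.card_eightG,
        show Nat.card Z = 16 by rw [show Z = (act t).ker from hfker, L.card_act_ker ht]] at e
      rw [← e]
    obtain ⟨m, hm⟩ := hb
    have h := Subgroup.index_mul_card (Z ⊔ T)
    rw [hm, (L.card_norm_core ht).1] at h
    have : (Z ⊔ T).index ∣ 315 := ⟨m, by nlinarith⟩
    rw [show Nat.card Z = 16 by rw [show Z = (act t).ker from hfker, L.card_act_ker ht]]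
    exact Nat.Coprime.coprime_dvd_right this (by norm_num)
  obtain ⟨K, hK1, hK2⟩ := Cfsg.Agent.Spor.M23Coh.gaschuetz Z T
    (fun a ha b hb => Subtype.ext (L.core_abelian ht _ ((hker a).mp ha) _ ((hker b).mp hb)).eq)
    (by rw [inf_comm]; exact hTk) hidx
  exact ⟨K, hfker ▸ hK1, hfker ▸ hK2⟩

end Loc

end Cfsg.Agent.MTwentyThree.Nse
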