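import Cfsg.Agent.Lib.Solv.CountValues

/-!
Elements of prime order with Sylow subgroups of prime order, and products of commuting elements.
-/

set_option autoImplicit false
set_option linter.unusedSectionVars false
set_option linter.style.haveILetI false

namespace Cfsg.Agent.MTwentyThree.Nse

open Cfsg.Agent.Solv
open scoped Pointwise

variable {G : Type*} [Group G] [Finite G]

/-- The number of members of given order commuting with an element. -/
noncomputable def commCnt (x : G) (k : ℕ) : ℕ := Nat.card {v : G // Commute x v ∧ orderOf v = k}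

theorem exists_conj_zpowers {p : ℕ} [Fact p.Prime] (hp2 : ¬ p ^ 2 ∣ Nat.card G) {x u : G} (hx : orderOf x = p)
    (hu : orderOf u = p) : ∃ g : G, (Subgroup.zpowers x).map (MulAut.conj g).toMonoidHom = Subgroup.zpowers u := by
  have hfac : (Nat.card G).factorization p = 1 := by
    have h1 : p ∣ Nat.card G := hx ▸ orderOf_dvd_natCard x
    have hp := (Fact.out : p.Prime)
    have := hp.factorization_pos_of_dvd Nat.card_pos.ne' h1
    have hlt : (Nat.card G).factorization p < 2 := Nat.not_le.mp fun h =>
      hp2 ((hp.pow_dvd_iff_le_factorization Nat.card_pos.ne').2 h)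
    omega
  let mk : ∀ y : G, orderOf y = p → Sylow p G := fun y hy =>
    Sylow.ofCard (Subgroup.zpowers y) (by rw [Nat.card_zpowers, hy, hfac, pow_one])
  obtain ⟨g, hg⟩ := MulAction.exists_smul_eq G (mk x hx) (mk u hu)
  exact ⟨g, congrArg Sylow.toSubgroup hg⟩

theorem commCnt_eq_of_conj {x u g : G} (h : (Subgroup.zpowers x).map (MulAut.conj g).toMonoidHom = Subgroup.zpowers u)
    (k : ℕ) : commCnt u k = commCnt x k := by
  refine Nat.card_congr (Equiv.symm ⟨fun v => ⟨g * v.1 * g⁻¹, ?_, ?_⟩, fun v => ⟨g⁻¹ * v.1 * g, ?_, ?_⟩,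
    fun v => Subtype.ext (by simp [mul_assoc]), fun v => Subtype.ext (by simp [mul_assoc])⟩)
  · obtain ⟨y, hy, e⟩ : u ∈ (Subgroup.zpowers x).map (MulAut.conj g).toMonoidHom := h ▸ Subgroup.mem_zpowers u
    obtain ⟨i, rfl⟩ := hy
    rw [← e]
    exact ((v.2.1.zpow_left i).map (MulAut.conj g).toMonoidHom)
  · rw [show g * v.1 * g⁻¹ = MulAut.conj g v.1 from rfl, MulEquiv.orderOf_eq]
    exact v.2.2
  · have hx : MulAut.conj g x ∈ Subgroup.zpowers u := h ▸ ⟨x, Subgroup.mem_zpowers x, rfl⟩
    obtain ⟨i, hi⟩ := hx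
    have h2 : Commute (MulAut.conj g x) v.1 := by rw [← hi]; exact v.2.1.zpow_left i
    have h3 := h2.map (MulAut.conj g⁻¹).toMonoidHom
    simpa [mul_assoc] using h3
  · rw [show g⁻¹ * v.1 * g = MulAut.conj g⁻¹ v.1 by simp, MulEquiv.orderOf_eq]
    exact v.2.2

/-- Products of commuting elements of coprime orders. -/
theorem cnt_mul {p k : ℕ} [hp : Fact p.Prime] (hp2 : ¬ p ^ 2 ∣ Nat.card G) (hk : ¬ p ∣ k) {x : G}
    (hx : orderOf x = p) : CV.cnt G (p * k) = CV.cnt G p * commCnt x k := by
  classical
  haveI := Fintype.ofFinite G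
  have hco : p.Coprime k := hp.out.coprime_iff_not_dvd.2 hk
  obtain ⟨a, b, hab⟩ : IsCoprime (p : ℤ) (k : ℤ) := Int.isCoprime_iff_gcd_eq_one.2 hco
  have e : {g : G // orderOf g = p * k} ≃ Σ u : {u : G // orderOf u = p}, {v : G // Commute u.1 v ∧ orderOf v = k} :=
    Equiv.symm (Equiv.ofBijective (fun q => ⟨q.1.1 * q.2.1, by
        rw [q.2.2.1.orderOf_mul_eq_mul_orderOf_of_coprime (by rw [q.1.2, q.2.2.2]; exact hco), q.1.2, q.2.2.2]⟩)
      ⟨by
        rintro ⟨⟨u, hu⟩, v, huv, hv⟩ ⟨⟨u', hu'⟩, v', huv', hv'⟩ h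
        have h1 : u * v = u' * v' := congrArg Subtype.val h
        have key : ∀ (u v : G), orderOf u = p → Commute u v → orderOf v = k → (u * v) ^ ((k : ℤ) * b) = u :=
            fun u v hu huv hv => by
          rw [huv.mul_zpow, zpow_mul v, zpow_natCast v, ← hv, pow_orderOf_eq_one, one_zpow, mul_one, hv,
            show (k : ℤ) * b = 1 - (p : ℤ) * a by linarith, zpow_sub, zpow_one, zpow_mul, zpow_natCast, ← hu,
            pow_orderOf_eq_one, one_zpow, inv_one, mul_one]
        have hu2 : u = u' := by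
          calc u = (u * v) ^ ((k : ℤ) * b) := (key u v hu huv hv).symm
            _ = u' := by rw [h1]; exact key u' v' hu' huv' hv'
        subst hu2
        obtain rfl : v = v' := mul_left_cancel h1
        rfl,
      fun g => by
        obtain ⟨g, hg⟩ := g
        have hk0 : 0 < k := Nat.pos_of_ne_zero fun e => hk (e ▸ dvd_zero p)
        have h1 : orderOf (g ^ k) = p := by
          rw [orderOf_pow' _ hk0.ne', hg, Nat.gcd_eq_right (dvd_mul_left k p), Nat.mul_div_cancel _ hk0]
        have h2 : orderOf (g ^ p) = k := by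
          rw [orderOf_pow' _ hp.out.ne_zero, hg, Nat.gcd_eq_right (dvd_mul_right p k),
            Nat.mul_div_cancel_left _ hp.out.pos]
        have hu : orderOf ((g ^ k) ^ b) = p := by
          refine orderOf_eq_prime ?_ fun e => ?_
          · rw [← zpow_natCast, ← zpow_mul, mul_comm, zpow_mul, zpow_natCast, ← h1, pow_orderOf_eq_one, one_zpow]
          · have : g ^ k = 1 := by
              have hd : (p : ℤ) ∣ b := by
                rw [← h1]; exact orderOf_dvd_iff_zpow_eq_one.2 e
              exfalso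
              have : (p : ℤ) ∣ 1 := hab ▸ dvd_add (dvd_mul_left _ a) (hd.mul_right _)
              have := Int.eq_one_of_dvd_one (by positivity) this
              exact hp.out.ne_one (by exact_mod_cast this)
            rw [this, orderOf_one] at h1
            exact hp.out.ne_one h1.symm
        refine ⟨⟨⟨(g ^ k) ^ b, hu⟩, (g ^ p) ^ a, ((Commute.refl g).pow_pow k p).zpow_zpow b a, ?_⟩, Subtype.ext ?_⟩
        · refine Nat.dvd_antisymm ?_ ?_
          · rw [← h2]
            exact orderOf_dvd_of_mem_zpowers (zpow_mem (Subgroup.mem_zpowers _) a)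
          · rw [← h2]
            refine orderOf_dvd_of_mem_zpowers ?_
            refine ⟨(p : ℤ), ?_⟩
            show ((g ^ p) ^ a) ^ (p : ℤ) = g ^ p
            rw [← zpow_mul, show a * (p : ℤ) = 1 - b * (k : ℤ) from by linarith, zpow_sub, zpow_one, zpow_mul',
              zpow_natCast, ← h2, pow_orderOf_eq_one, one_zpow, inv_one, mul_one]
        · show (g ^ k) ^ b * (g ^ p) ^ a = g
          rw [← zpow_natCast, ← zpow_natCast g p, ← zpow_mul, ← zpow_mul, ← zpow_add,
            show (k : ℤ) * b + (p : ℤ) * a = 1 by linarith, zpow_one]⟩)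
  rw [CV.cnt, Nat.card_congr e, Nat.card_sigma]
  have hc : ∀ u : {u : G // orderOf u = p}, Nat.card {v : G // Commute u.1 v ∧ orderOf v = k} = commCnt x k :=
    fun u => by
      obtain ⟨g, hg⟩ := exists_conj_zpowers hp2 hx u.2
      exact commCnt_eq_of_conj hg k
  rw [Finset.sum_congr rfl fun u _ => hc u, Finset.sum_const, Finset.card_univ, smul_eq_mul,
    ← Nat.card_eq_fintype_card]
  rfl

/-- Elements of prime order and the normaliser. -/
theorem cnt_mul_normalizer {p : ℕ} [hp : Fact p.Prime] (hp2 : ¬ p ^ 2 ∣ Nat.card G) {x : G} (hx : orderOf x = p) :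
    CV.cnt G p * Nat.card (Subgroup.normalizer ((Subgroup.zpowers x : Subgroup G) : Set G)) =
      (p - 1) * Nat.card G := by
  classical
  haveI := Fintype.ofFinite G
  set H := Subgroup.zpowers x
  have key : ∀ g : G, orderOf g = p → Subgroup.zpowers g ∈ MulAction.orbit (ConjAct G) H := fun g hg => by
    obtain ⟨c, hc⟩ := exists_conj_zpowers hp2 hx hg
    exact ⟨ConjAct.toConjAct c, hc⟩
  have e : {g : G // orderOf g = p} ≃ Σ K : MulAction.orbit (ConjAct G) H, {g : G // orderOf g = p ∧ g ∈ K.1} :=
    { toFun := fun g => ⟨⟨_, key g.1 g.2⟩, g.1, g.2, Subgroup.mem_zpowers _⟩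
      invFun := fun q => ⟨q.2.1, q.2.2.1⟩
      left_inv := fun g => rfl
      right_inv := fun q => by
        obtain ⟨⟨K, hK⟩, g, hg, hgK⟩ := q
        have hK' := hK
        obtain ⟨c, rfl⟩ := hK'
        have hcard : Nat.card ↥(c • H) = p := by
          rw [← hx, ← Nat.card_zpowers x]
          exact (Nat.card_congr (Subgroup.equivSMul c H).toEquiv).symm
        have e1 : Subgroup.zpowers g = c • H := Subgroup.eq_of_le_of_card_ge
          (Subgroup.zpowers_le.2 hgK) (by rw [hcard, Nat.card_zpowers, hg])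
        simp only at e1 ⊢
        refine Sigma.subtype_ext (Subtype.ext e1) rfl }
  have hfib : ∀ K : MulAction.orbit (ConjAct G) H, Nat.card {g : G // orderOf g = p ∧ g ∈ K.1} = p - 1 := by
    rintro ⟨K, c, rfl⟩
    have hcard : Nat.card ↥(c • H) = p := by
      rw [← hx, ← Nat.card_zpowers x]
      exact (Nat.card_congr (Subgroup.equivSMul c H).toEquiv).symm
    have e2 : {g : G // orderOf g = p ∧ g ∈ c • H} ≃ {g : ↥(c • H) // g ≠ 1} :=
      { toFun := fun g => ⟨⟨g.1, g.2.2⟩, fun e => by
          have := g.2.1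
          rw [show g.1 = 1 from congrArg Subtype.val e, orderOf_one] at this
          exact hp.out.ne_one this.symm⟩
        invFun := fun g => ⟨g.1.1, by
          have hd := hcard ▸ orderOf_dvd_natCard g.1
          rcases (Nat.dvd_prime hp.out).1 hd with h | h
          · exact absurd (orderOf_eq_one_iff.1 h) g.2
          · rwa [Subgroup.orderOf_coe], g.1.2⟩
        left_inv := fun g => rfl
        right_inv := fun g => rfl }
    haveI := Fintype.ofFinite ↥(c • H)
    rw [Nat.card_congr e2, Nat.card_eq_fintype_card, Fintype.card_subtype_compl, Fintype.card_subtype_eq,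
      ← Nat.card_eq_fintype_card, hcard]
  haveI := Fintype.ofFinite (MulAction.orbit (ConjAct G) H)
  rw [CV.cnt, Nat.card_congr e, Nat.card_sigma, Finset.sum_congr rfl fun K _ => hfib K, Finset.sum_const,
    Finset.card_univ, smul_eq_mul, ← Nat.card_eq_fintype_card,
    show Nat.card (MulAction.orbit (ConjAct G) H) * (p - 1) *
      Nat.card (Subgroup.normalizer (H : Set G)) = (p - 1) * (Nat.card (MulAction.orbit (ConjAct G) H) *
        Nat.card (Subgroup.normalizer (H : Set G))) by ring]
  congr 1
  have hst : Nat.card (Subgroup.normalizer (H : Set G)) = Nat.card (MulAction.stabilizer (ConjAct G) H) := by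
    refine Nat.card_congr (Equiv.subtypeEquiv ConjAct.toConjAct.toEquiv fun g => ?_)
    show g ∈ Subgroup.normalizer (H : Set G) ↔ ConjAct.toConjAct g • H = H
    rw [Subgroup.mem_normalizer_iff_map_conj_eq]
    rfl
  rw [hst, ← Nat.card_prod]
  exact Nat.card_congr (MulAction.orbitProdStabilizerEquivGroup (ConjAct G) H)

end Cfsg.Agent.MTwentyThree.Nse
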